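import Cfsg.Agent.KM.Tor.Bad2

/-!
# KM, `l = 3`, types `E₆`, `²E₆` : the interface (helper29)
-/

set_option autoImplicit false
set_option linter.unusedSectionVars false

namespace Cfsg.Agent.KM.Tor

open Cfsg Cfsg.Lie Cfsg.Agent.DL Matrix Cfsg.Agent.KZ.DatX Cfsg.Agent.Nodes.RGDChev

variable {p : ℕ} [Fact p.Prime] {k : Type} [Field k] [CharP k p] {Y : Type} [Group Y] {N : Type} [Fintype N]
  [DecidableEq N] {ρ : Y →* GL N k} {F : MulAut Y} {G : Subgroup Y} [IsAlgClosed k] (X : Datum p ρ F G)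

/-- the elements of the torus in `H` come from the fixed points of the simply connected torus -/
structure Dl (H : Subgroup Y) : Prop where
  mem : ∀ (u β : X.R → ℤ) (ζ : kˣ), InQ X u → InQ X β → X.Mx *ᵥ u = u + (orderOf ζ : ℤ) • β → X.τ (coch u ζ) ∈ H
  ex : ∀ t ∈ X.T, t ∈ H → ∃ (u β : X.R → ℤ) (ζ : kˣ), InQ X u ∧ InQ X β ∧ X.Mx *ᵥ u = u + (orderOf ζ : ℤ) • β ∧
    t = X.τ (coch u ζ)

/-- [E6] the group theoretic core -/
def BoxE6 : Prop := AllX hpE6 fun {p} _ _ _ _ {Y} _ _ _ _ _ {F} {G} _ X => ∀ (H D : Subgroup Y) (y : Y) (m : ℤ) (φ : X.W),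
  3 ≠ p → X.Mx = m • X.Wm φ → Set3 F G H D y → (∀ g (hg : g ∈ G) (hN : g⁻¹ * F g ∈ X.NN), Dl (X.conj hg hN) H) →
  Toral3 X D ∨ Nat.card D ≤ 9 ∨ Flag G D ∨ Line G D

end Cfsg.Agent.KM.Tor
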