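import Cfsg.Agent.KM.Tor.Cnt2

/-!
# KM, counting contributions: elementary abelian defect groups for `p = 3` (helper29)

`cnt3`, `hz_orb` (few elements, many orbits), `hz_line` (order `27` with an invariant proper subgroup).
-/

set_option autoImplicit false
set_option linter.unusedSectionVars false

namespace Cfsg.Agent.KM.Tor

open Cfsg Subgroup Cfsg.Agent.TO Cfsg.Agent.TO.Cn Cfsg.Agent.H658 Cfsg.Agent.Blocks MulAction
open scoped ComplexConjugate

universe u

variable {M : Ideal AlgInt} {G : Type u} [Group G] [Finite G] {b : Set (IrrCharacter G)} {D : Subgroup G} {θ : G → ℂ}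

theorem cnt3 [Fact (Nat.Prime 3)] (h : Can 3 M b D θ) [Fintype D] (hD : ∀ d ∈ D, d ^ 3 = 1) {χ : IrrCharacter G} (hχ : χ ∈ b)
    (h0 : blockHeight 3 b (χ : G → ℂ) ≠ 0) : 9 * ∑ z : D, st D θ z ≤ (Ce D).relIndex (In D θ) * Nat.card D := by
  obtain ⟨a, h1, h2, h3, -, h5, h6⟩ := data h hχ h0
  have hz : ∀ z : D, z ^ 3 = 1 := fun z => Subtype.ext (hD z z.2)
  have h7 : ∀ z : D, a (z ^ 2) = a z := fun z => Complex.ofReal_injective (by
    rw [← h3 3 three_ne_zero hz ((starRingEnd ℂ).comp (algebraicClosure ℚ ℂ).subtype) 2 (by decide) (fun t ht => by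
      have h8 : (t : ℂ) ^ 3 = 1 := congrArg Subtype.val ht
      exact ((Complex.inv_eq_conj (Complex.norm_eq_one_of_pow_eq_one h8 three_ne_zero)).symm.trans
        (inv_eq_of_mul_eq_one_right (by rw [← pow_succ', h8])) :)) z
      ⟨_, mem_algebraicClosure_iff'.2 (h2 z).tower_top⟩ rfl]
    exact Complex.conj_ofReal _)
  have h8 : ∀ z : D, 9 ≤ a z := fun z => by
    obtain ⟨q, hq⟩ := exists_rat_of_forall three_ne_zero (h2 z).tower_top fun σ m hm hσ c hc => by
      rw [h3 3 three_ne_zero hz σ m hm hσ z c hc, pow_eq_pow_mod m (hz z)]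
      have h9 : ¬ 3 ∣ m := Nat.prime_three.coprime_iff_not_dvd.1 hm.symm
      obtain e | e : m % 3 = 1 ∨ m % 3 = 2 := by omega
      · rw [e, pow_one]
      · rw [e, h7]
    obtain ⟨k, rfl⟩ := int_of_rat (hq ▸ h2 z)
    rw [Rat.cast_intCast] at hq
    have h9 := h5 z
    obtain ⟨j, rfl⟩ := H613.RegGram.pow_dvd_of_memLocalRing h.hM 1 (k := k) (by
      rw [pow_one, hq]; exact LocalRing.memLocalIdeal_memLocalRing h9)
    rw [← hq, pow_one, Int.cast_mul, Int.cast_natCast, mul_div_cancel_left₀ _ (by norm_num),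
      LocalRing.memLocalIdeal_intCast_iff h.hM] at h9
    obtain ⟨i, rfl⟩ := h9
    have h10 : a z = 9 * i := Complex.ofReal_injective (by rw [← hq]; push_cast; ring)
    have h11 : 0 < i := by
      have := h1 z
      rw [h10] at this
      exact_mod_cast (mul_pos_iff_of_pos_left (by norm_num : (0 : ℝ) < 9)).1 this
    have h12 : (1 : ℝ) ≤ i := by exact_mod_cast h11
    linarith
  have h9 := (Finset.sum_le_sum fun (z : D) (_ : z ∈ Finset.univ) =>
    mul_le_mul_of_nonneg_left (h8 z) (Nat.cast_nonneg (α := ℝ) (st D θ z))).trans h6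
  rw [← Finset.sum_mul, mul_comm] at h9
  exact_mod_cast h9

variable (D θ) in
/-- the action of the inertial group on the defect group -/
@[reducible] def act : MulAction (In D θ) D := MulAction.compHom D (D.normalizerMonoidHom.comp
  (inclusion fun _ ht => mem_normalizer_iff.2 fun y => ((mem_In.1 ht).1 y).symm))

theorem orb_st {p : ℕ} [Fact p.Prime] (h : Can p M b D θ) (z : D) :
    letI := act D θ; Nat.card (orbit (In D θ) z) * st D θ z = (Ce D).relIndex (In D θ) := by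
  let := act D θ
  have h1 : stabilizer (In D θ) z = (In D θ ⊓ Cu (z : G)).subgroupOf (In D θ) := Subgroup.ext fun t => by
    rw [mem_stabilizer_iff, mem_subgroupOf, mem_inf, and_iff_right t.2, mem_centralizer_singleton_iff, Subtype.ext_iff]
    exact mul_inv_eq_iff_eq_mul
  have h2 := Nat.card_congr (orbitProdStabilizerEquivGroup (In D θ) z)
  rw [Nat.card_prod, h1, Nat.card_congr (subgroupOfEquivOfLe inf_le_left).toEquiv, ← st_mul h z.2,
    ← card_mul_relIndex (Ce_le_In h), mul_left_comm] at h2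
  exact Nat.eq_of_mul_eq_mul_left Nat.card_pos h2

theorem sum_st {p : ℕ} [Fact p.Prime] (h : Can p M b D θ) [Fintype D] :
    letI := act D θ; ∑ z : D, st D θ z = Nat.card (orbitRel.Quotient (In D θ) D) * (Ce D).relIndex (In D θ) := by
  classical
  let := act D θ
  have := Fintype.ofFinite (orbitRel.Quotient (In D θ) D)
  rw [← Finset.sum_fiberwise (g := fun z : D => (Quotient.mk'' z : orbitRel.Quotient (In D θ) D)), Nat.card_eq_fintype_card,
    ← Finset.card_univ, ← smul_eq_mul, ← Finset.sum_const]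
  refine Finset.sum_congr rfl fun ω _ => ?_
  induction ω using Quotient.inductionOn' with | h x => ?_
  have h1 : ∀ z : D, (Quotient.mk'' z : orbitRel.Quotient (In D θ) D) = Quotient.mk'' x ↔ z ∈ orbit (In D θ) x := fun z =>
    Quotient.eq''.trans orbitRel_apply
  have h2 := orb_st h x
  have h3 : 0 < Nat.card (orbit (In D θ) x) := Nat.card_pos_iff.2 ⟨⟨⟨x, mem_orbit_self x⟩⟩, inferInstance⟩
  rw [Finset.sum_congr rfl (g := fun _ => st D θ x) fun z hz => Nat.eq_of_mul_eq_mul_left h3 (by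
    rw [h2, ← orb_st h z, (orbit_eq_iff.2 ((h1 z).1 (Finset.mem_filter.1 hz).2) :)]), Finset.sum_const, smul_eq_mul, ← h2,
    ← Fintype.card_subtype, ← Nat.card_eq_fintype_card, Nat.card_congr (Equiv.subtypeEquivRight h1)]

/-- many orbits -/
theorem hz_orb [Fact (Nat.Prime 3)] (h : Can 3 M b D θ) (hD : ∀ d ∈ D, d ^ 3 = 1) {n : ℕ} (x : Fin n → D)
    (hx : ∀ i j, ∀ t ∈ In D θ, t * x i * t⁻¹ = x j → i = j) (hn : Nat.card D < 9 * n) :
    ∀ χ ∈ b, blockHeight 3 b (χ : G → ℂ) = 0 := fun χ hχ => not_not.1 fun h0 => by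
  let := act D θ
  have := Fintype.ofFinite D
  have h1 := cnt3 h hD hχ h0
  rw [sum_st h, ← mul_assoc, mul_comm _ (Nat.card D)] at h1
  have h2 : Nat.card (Fin n) ≤ Nat.card (orbitRel.Quotient (In D θ) D) :=
    Nat.card_le_card_of_injective (fun i => Quotient.mk'' (x i)) fun i j e => by
      obtain ⟨t, ht⟩ := orbitRel_apply.1 (Quotient.eq''.1 e)
      exact (hx j i t t.2 (congrArg Subtype.val ht)).symm
  rw [Nat.card_fin] at h2
  have h3 := Nat.le_of_mul_le_mul_right h1 (Nat.pos_of_ne_zero index_ne_zero_of_finite)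
  omega

/-- **`p = 3`, `D` elementary of order `27` with a proper invariant subgroup** -/
theorem hz_line [Fact (Nat.Prime 3)] (h : Can 3 M b D θ) (hD : ∀ d ∈ D, d ^ 3 = 1) (h27 : Nat.card D = 27) {L : Subgroup G}
    (h1 : L ⊓ D ≠ ⊥) (h2 : ¬ D ≤ L) (hL : ∀ t ∈ In D θ, ∀ x ∈ D, x ∈ L → t * x * t⁻¹ ∈ L) :
    ∀ χ ∈ b, blockHeight 3 b (χ : G → ℂ) = 0 := by
  let := act D θ
  obtain ⟨⟨l, a1, a2⟩, a3⟩ := ne_bot_iff_exists_ne_one.1 h1
  have a4 : l ≠ 1 := fun e => a3 (Subtype.ext e)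
  obtain ⟨x, b1, b2⟩ := SetLike.not_le_iff_exists.1 h2
  have c1 : ∀ t ∈ In D θ, ∀ y ∈ D, t * y * t⁻¹ ∈ L → y ∈ L := fun t ht y hy e => by
    simpa [mul_assoc] using hL t⁻¹ (inv_mem ht) _ (((mem_In.1 ht).1 y).2 hy) e
  obtain ⟨y, c2, c3⟩ : ∃ y : D, (y : G) ∉ L ∧ y ∉ orbit (In D θ) (⟨x, b1⟩ : D) := by
    by_contra c2
    push Not at c2
    have c3 : orbit (In D θ) (⟨x, b1⟩ : D) = (L.subgroupOf D : Set D)ᶜ :=
      Set.ext fun y => ⟨fun ⟨t, ht⟩ e => b2 (c1 t t.2 x b1 (by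
        rw [show (t : G) * x * (t : G)⁻¹ = y from congrArg Subtype.val ht]; exact e)), c2 y⟩
    have c4 := orb_st h ⟨x, b1⟩
    obtain ⟨i, c5⟩ := IsPGroup.iff_card.1 (h.pg.to_subgroup (L.subgroupOf D))
    have c6 := Set.ncard_add_ncard_compl (L.subgroupOf D : Set D)
    rw [← c3, h27, ← Nat.card_coe_set_eq, ← Nat.card_coe_set_eq, show Nat.card (L.subgroupOf D : Set D) = 3 ^ i from c5] at c6
    refine h.idx (c4 ▸ Dvd.dvd.mul_right ?_ _)
    obtain rfl | c7 := Nat.eq_zero_or_pos i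
    · have c7 : (⟨l, a2⟩ : D) ∈ L.subgroupOf D := mem_subgroupOf.2 a1
      rw [card_eq_one.1 c5, mem_bot] at c7
      exact absurd (congrArg Subtype.val c7) a4
    · have := dvd_pow_self 3 c7.ne'
      omega
  refine hz_orb h hD ![1, ⟨l, a2⟩, ⟨x, b1⟩, y] (fun i j t ht e => ?_) (by omega)
  have d1 : ∀ u v : G, t * u * t⁻¹ = v → u ∈ D → (u = 1 ↔ v = 1) ∧ (u ∈ L ↔ v ∈ L) := fun u v e hu =>
    e ▸ ⟨conj_eq_one_iff.symm, hL t ht _ hu, c1 t ht _ hu⟩
  have d2 := d1 _ _ e (Subtype.prop _)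
  have d4 : t * x * t⁻¹ ≠ y := fun e => c3 ⟨⟨t, ht⟩, Subtype.ext e⟩
  have d5 : t * y * t⁻¹ ≠ x := fun e => c3 (mem_orbit_symm.1 ⟨⟨t, ht⟩, Subtype.ext e⟩)
  have d6 : l ∈ L := a1
  have d7 := L.one_mem
  fin_cases i <;> fin_cases j
  exacts [rfl, absurd (d2.1.1 rfl) a4, absurd (d2.2.1 d7) b2, absurd (d2.2.1 d7) c2, absurd (d2.1.2 rfl) a4, rfl,
    absurd (d2.2.1 d6) b2, absurd (d2.2.1 d6) c2, absurd (d2.2.2 d7) b2, absurd (d2.2.2 d6) b2, rfl, absurd e d4,
    absurd (d2.2.2 d7) c2, absurd (d2.2.2 d6) c2, absurd e d5, rfl]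

end Cfsg.Agent.KM.Tor
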