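import Cfsg.Agent.KM.Tor.Bad
import Cfsg.Agent.KM.Tor.Cnt3
import Cfsg.Agent.BHZ.Spor.Loc
import Cfsg.Agent.BHZ.Nil.Block0

/-!
# KM, odd bad primes: the boxes [FLAG] and [LOC] (helper36)
-/

set_option autoImplicit false
set_option linter.unusedSectionVars false

namespace Cfsg.Agent.KM.Tor

open Cfsg Subgroup Cfsg.Agent.TO Cfsg.Agent.TO.Cn Cfsg.Agent.BHZ.Spor

namespace BF

variable {A Γ : Type} [CommGroup A] [Group Γ] (ρ : Γ →* MulAut A)

/-- one step of the flag -/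
theorem step {V : Subgroup A} {W : Set A} (hV : ∀ t, ∀ v ∈ V, ρ t v ∈ V) (hW : ∀ t, ∀ w ∈ W, ρ t w ∈ W)
    (h : St (V : Set A) W) : ∃ H : Subgroup Γ, H.index ∣ 2 ∧ ∀ t ∈ H, ∀ w ∈ W, ρ t w * w⁻¹ ∈ V := by
  by_cases h0 : ∀ w ∈ W, w ∈ V
  · exact ⟨⊤, by rw [index_top]; exact one_dvd _, fun t _ w hw => mul_mem (hV t w (h0 w hw)) (inv_mem (h0 w hw))⟩
  push Not at h0
  obtain ⟨d, d1, d2⟩ := h0
  have e1 : ∀ t, ρ t⁻¹ (ρ t d) = d := fun t => by rw [← MulAut.mul_apply, ← map_mul, inv_mul_cancel, map_one]; rfl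
  let H : Subgroup Γ :=
    { carrier := {t | ρ t d * d⁻¹ ∈ V}
      one_mem' := by
        change ρ 1 d * d⁻¹ ∈ V
        rw [map_one, MulAut.one_apply, mul_inv_cancel]
        exact one_mem _
      mul_mem' := fun {s t} hs ht => by
        have h1 := mul_mem (hV s _ ht) hs
        change ρ (s * t) d * d⁻¹ ∈ V
        rwa [map_mul, map_inv, mul_assoc, inv_mul_cancel_left, ← MulAut.mul_apply, ← map_mul] at h1
      inv_mem' := fun {t} ht => by
        have h1 := inv_mem (hV t⁻¹ _ ht)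
        change ρ t⁻¹ d * d⁻¹ ∈ V
        rwa [map_mul, e1, map_inv (ρ t⁻¹), mul_inv_rev, inv_inv] at h1 }
  have h1 : ∀ t, t ∉ H → ρ t d * d ∈ V := fun t ht =>
    ((h d d1 _ (hW t d d1) d2).resolve_left fun e => d2 (e1 t ▸ hV t⁻¹ _ e)).resolve_right ht
  refine ⟨H, index_dvd_two_iff.2 ?_, fun t ht w hw => ?_⟩
  · by_cases h2 : ∀ t, t ∈ H
    · exact ⟨1, fun b => Or.inr (h2 b)⟩
    push Not at h2
    obtain ⟨a, ha⟩ := h2
    refine ⟨a, fun b => or_iff_not_imp_right.2 fun hb => ?_⟩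
    have h3 := mul_mem (hV b _ (h1 a ha)) (inv_mem (h1 b hb))
    change ρ (b * a) d * d⁻¹ ∈ V
    rwa [map_mul, mul_inv, mul_assoc, mul_inv_cancel_left, ← MulAut.mul_apply, ← map_mul] at h3
  · have h2 : ρ t d * d⁻¹ ∈ V := ht
    rcases h d d1 w hw d2 with e | e | e
    · exact mul_mem (hV t w e) (inv_mem e)
    · have h3 := mul_mem (mul_mem (hV t _ e) (inv_mem e)) (inv_mem h2)
      rwa [map_mul, show ρ t w * ρ t d * (w * d)⁻¹ * (ρ t d * d⁻¹)⁻¹ = ρ t w * w⁻¹ by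
        rw [mul_inv, mul_mul_mul_comm, mul_inv_cancel_right]] at h3
    · have h3 := mul_mem (mul_mem (hV t _ e) (inv_mem e)) h2
      rwa [map_mul, map_inv, show ρ t w * (ρ t d)⁻¹ * (w * d⁻¹)⁻¹ * (ρ t d * d⁻¹) = ρ t w * w⁻¹ by
        rw [mul_inv, inv_inv, mul_assoc, mul_assoc w⁻¹, mul_left_comm d, mul_inv_cancel, mul_one, mul_comm w⁻¹, mul_assoc,
          inv_mul_cancel_left]] at h3

/-- coprime action: one element -/
theorem fix {p e : ℕ} (hp : p.Prime) (hA : IsPGroup p A) (he : ¬ p ∣ e) {α : MulAut A} (h1 : α ^ e = 1) {x : A}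
    (h2 : α (α x * x⁻¹) = α x * x⁻¹) : α x = x := by
  have h3 : ∀ n : ℕ, (α ^ n) x = (α x * x⁻¹) ^ n * x := fun n => by
    induction n with
    | zero => rw [pow_zero, pow_zero, one_mul]; rfl
    | succ n ih => rw [pow_succ', MulAut.mul_apply, ih, map_mul, map_pow, h2, pow_succ, mul_assoc, inv_mul_cancel_right]
  have h4 := h3 e
  rw [h1, MulAut.one_apply, eq_comm, mul_eq_right] at h4
  obtain ⟨k, hk⟩ := hA (α x * x⁻¹)
  have : Fact p.Prime := ⟨hp⟩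
  exact mul_inv_eq_one.1 (eq_one_of_reg (not_dvd_of_pow he h4) hk)

/-- coprime action: from `Ω₁` to the group -/
theorem fix_all {p e : ℕ} (hp : p.Prime) (hA : IsPGroup p A) (he : ¬ p ∣ e) {α : MulAut A} (h1 : α ^ e = 1)
    (h2 : ∀ x, x ^ p = 1 → α x = x) (x : A) : α x = x := by
  obtain ⟨k, hk⟩ := hA x
  induction k generalizing x with
  | zero => rw [pow_zero, pow_one] at hk; rw [hk, map_one]
  | succ k ih =>
    refine fix hp hA he h1 (h2 _ ?_)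
    rw [mul_pow, ← map_pow, ih _ (by rw [← pow_mul, ← pow_succ', hk]), inv_pow, mul_inv_cancel]

/-- the index of the kernel -/
theorem idx_le [Finite Γ] (hA : IsPGroup 3 A) (he : ¬ 3 ∣ ρ.ker.index) {V₁ V₂ : Subgroup A}
    (h1 : ∀ t, ∀ v ∈ V₁, ρ t v ∈ V₁) (h2 : ∀ t, ∀ v ∈ V₂, ρ t v ∈ V₂) (s1 : St ((⊥ : Subgroup A) : Set A) V₁)
    (s2 : St (V₁ : Set A) V₂) (s3 : St (V₂ : Set A) {d | d ^ 3 = 1}) : ρ.ker.index ≤ 8 := by
  obtain ⟨H₁, a1, a2⟩ := step ρ (fun t v hv => by rw [mem_bot.1 hv, map_one]; exact one_mem _) h1 s1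
  obtain ⟨H₂, b1, b2⟩ := step ρ h1 h2 s2
  obtain ⟨H₃, c1, c2⟩ := step ρ h2 (fun t w (hw : w ^ 3 = 1) => show ρ t w ^ 3 = 1 by rw [← map_pow, hw, map_one]) s3
  have h3 : H₁ ⊓ H₂ ⊓ H₃ ≤ ρ.ker := fun t ht => by
    have h4 : ρ t ^ ρ.ker.index = 1 := by rw [← map_pow]; exact pow_index_mem ρ.ker t
    have h5 : ∀ v ∈ V₁, ρ t v = v := fun v hv => mul_inv_eq_one.1 (mem_bot.1 (a2 t ht.1.1 v hv))
    have h6 : ∀ v ∈ V₂, ρ t v = v := fun v hv => fix Nat.prime_three hA he h4 (h5 _ (b2 t ht.1.2 v hv))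
    exact MulEquiv.ext (fix_all Nat.prime_three hA he h4 fun v hv => fix Nat.prime_three hA he h4 (h6 _ (c2 t ht.2 v hv)))
  refine (Nat.le_of_dvd (Nat.pos_of_ne_zero index_ne_zero_of_finite) (index_dvd_of_le h3)).trans (index_inf_le.trans ?_)
  exact Nat.mul_le_mul (index_inf_le.trans (Nat.mul_le_mul (Nat.le_of_dvd two_pos a1)
    (Nat.le_of_dvd two_pos b1))) (Nat.le_of_dvd two_pos c1)

end BF

/-- **[FLAG]** -/
theorem boxFlag : BoxFlag := by
  intro K Y _ _ _ G j M B D hM hB hD hab hG hj hF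
  have : Fact (Nat.Prime 3) := ⟨Nat.prime_three⟩
  obtain ⟨θ, h⟩ := boxCAN0 K 3 M B D hM hB hD fun x hx => mem_centralizer_iff.2 fun y hy =>
    congrArg Subtype.val (hab.is_comm.comm (⟨y, hy⟩ : D) ⟨x, hx⟩)
  have hN : In D θ ≤ normalizer (D : Set K) := fun t ht => mem_normalizer_iff.2 fun y => ((mem_In.1 ht).1 y).symm
  have hN' : ∀ t ∈ In D θ, j t ∈ normalizer (D.map j : Set Y) := fun t ht => le_normalizer_map j ⟨t, hN ht, rfl⟩
  have hi : Function.Injective (j.comp D.subtype) := (injective_iff_map_eq_one _).2 fun d e => Subtype.ext (hj d d.2 e)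
  rcases hF with ⟨V₁, V₂, -, -, -, a1, a2, a3, a4⟩ | ⟨a1, a2, r, ⟨r, a3, rfl⟩, a4, a5⟩
  · obtain ⟨ρ, hρ⟩ : ∃ ρ : In D θ →* MulAut D, ∀ (t : In D θ) (d : D), (ρ t d : K) = t * d * (t : K)⁻¹ :=
      ⟨D.normalizerMonoidHom.comp (inclusion hN), fun _ _ => rfl⟩
    have hk : ρ.ker = (Ce D).subgroupOf (In D θ) := Subgroup.ext fun t => by
      rw [MonoidHom.mem_ker, mem_subgroupOf, mem_centralizer_iff]
      refine ⟨fun e d hd => ?_, fun e => MulEquiv.ext fun d => Subtype.ext ?_⟩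
      · have h1 := hρ t ⟨d, hd⟩
        rw [e] at h1
        exact eq_mul_inv_iff_mul_eq.1 h1
      · rw [hρ, ← e d d.2, mul_inv_cancel_right]
        rfl
    have e : ∀ (t : In D θ) (d : D), j.comp D.subtype (ρ t d) = j t * j.comp D.subtype d * (j t)⁻¹ := fun t d => by
      change j (ρ t d : K) = _
      rw [hρ, map_mul, map_mul, map_inv]
      rfl
    let _ : CommGroup D := { (inferInstance : Group D) with mul_comm := fun x y => Subtype.ext (h.comm _ x.2 _ y.2) }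
    refine hz_of_le2 (by norm_num) h ?_
    change ((Ce D).subgroupOf (In D θ)).index ≤ 8
    rw [← hk]
    refine BF.idx_le ρ h.pg (hk ▸ h.idx) (V₁ := V₁.comap (j.comp D.subtype)) (V₂ := V₂.comap (j.comp D.subtype))
      (fun t v hv => mem_comap.2 (e t v ▸ (a1 _ (hG _) (hN' t t.2)).1 _ hv))
      (fun t v hv => mem_comap.2 (e t v ▸ (a1 _ (hG _) (hN' t t.2)).2 _ hv)) (fun d hd e he h1 => ?_)
      (fun d hd e he h1 => ?_) fun d hd e he h1 => ?_
    · have h2 := a2 _ hd _ he fun h2 => h1 (hi (h2.trans (map_one _).symm))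
      rw [← map_inv, ← map_mul, ← map_mul] at h2
      exact h2.imp (fun h3 => hi (h3.trans (map_one _).symm))
        (Or.imp (fun h3 => hi (h3.trans (map_one _).symm)) fun h3 => hi (h3.trans (map_one _).symm))
    · have h2 := a3 _ hd _ he h1
      rwa [← map_inv, ← map_mul, ← map_mul] at h2
    · have h3 : ∀ d : D, d ^ 3 = 1 → j.comp D.subtype d ∈ {d | d ∈ D.map j ∧ d ^ 3 = 1} := fun d hd =>
        ⟨⟨d, d.2, rfl⟩, by rw [← map_pow, hd, map_one]⟩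
      have h2 := a4 _ (h3 d hd) _ (h3 e he) h1
      rwa [← map_inv, ← map_mul, ← map_mul] at h2
  · have h1 : Nat.card D = 27 := by
      rw [← a1, ← range_subtype D, ← MonoidHom.range_comp, range_subtype]
      exact Nat.card_congr (MonoidHom.ofInjective hi).toEquiv
    refine hz_line h (fun d hd => hj _ (pow_mem hd 3) (by rw [map_pow]; exact a2 _ ⟨d, hd, rfl⟩)) h1
      (L := (zpowers (j r)).comap j) (ne_bot_iff_exists_ne_one.2 ⟨⟨r, mem_zpowers _, a3⟩, fun e => a4 ?_⟩) (fun e => ?_)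
      fun t ht x _ hx => ?_
    · rw [show r = 1 from congrArg Subtype.val e, map_one]
    · have h2 := card_dvd_of_le (map_le_iff_le_comap.2 e)
      rw [a1, Nat.card_zpowers] at h2
      exact absurd (h2.trans (orderOf_dvd_of_pow_eq_one (a2 _ ⟨r, a3, rfl⟩))) (by norm_num)
    · obtain ⟨n, hn⟩ := hx
      rw [mem_comap, map_mul, map_mul, map_inv, ← hn, ← conj_zpow]
      exact zpow_mem (a5 _ (hG _) (hN' t ht)) n

/-- **[LOC]** -/
theorem boxLoc : BoxLoc := by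
  intro l _ K Y _ _ _ H j M B D hM hB hD hH hc _ hr
  have hp := BHZ.Nil.isPGroup_defect hD
  obtain ⟨g, h1, h2, h3⟩ := BHZ.Nil.exists_reg_defect hM hB hD
  refine ⟨j g, map_le_iff_le_comap.2 fun x _ => hH x, hp.map j, hH g, reg_map' h1, ?_, fun P h4 h5 h6 h7 u hu => ?_⟩
  · rintro _ ⟨d, hd, rfl⟩
    rw [← map_mul, ← map_mul, mem_centralizer_iff.1 h2 d hd]
  obtain ⟨Q, h8, h9⟩ := exists_plift (p := l) hc h5
  have h10 := h3 Q h8 (fun d hd => (h9 d).2 ⟨h6 ⟨d, hd, rfl⟩, pelt_of_mem hp hd⟩) fun x hx =>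
    let ⟨a, _, b⟩ := (h9 x).1 hx
    commute_p_reg hc (h7 _ a) b h1
  obtain ⟨i, hi⟩ := pelt_of_mem h5 hu
  obtain ⟨a, ha, hk⟩ := exists_p_lift (p := l) j.rangeRestrict_surjective (x := ⟨u, hr u (h4 hu) ⟨i, hi⟩⟩) (k := i)
    (Subtype.ext hi)
  have h11 : j a = u := congrArg Subtype.val ha
  exact ⟨a, h10 ▸ (h9 a).2 ⟨h11 ▸ hu, hk⟩, h11⟩

end Cfsg.Agent.KM.Tor
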