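import Cfsg.Agent.KM.Tor.K0

/-!
# KM, odd bad primes: `boxCork`, `boxT` (helper2)
-/

set_option autoImplicit false
set_option linter.unusedSectionVars false

namespace Cfsg.Agent.KM.Tor

open Cfsg Cfsg.Agent.DL Cfsg.Agent.Nodes.Reps Cfsg.Agent.Nodes.BNOf Matrix Subgroup Cfsg.Agent.KM.Ht
open Cfsg.Agent.TO.X.Cn (exists_exp χ_exp χ_pow)

namespace BT

section Grp

variable {Y : Type} [Group Y]

theorem st {V : Subgroup Y} {s t : Y} (hc : Commute s t) (h3 : t ^ 3 = 1) (h : ∀ d ∈ V, ∃ i j : ℤ, d = s ^ i * t ^ j) :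
    St ((V ⊓ zpowers s : Subgroup Y) : Set Y) V := fun d hd e he hn => by
  have k : ∀ x ∈ V, ∀ i j : ℤ, x = s ^ i * t ^ j → 3 ∣ j → x ∈ V ⊓ zpowers s := by
    rintro x hx i _ e ⟨j, rfl⟩
    refine ⟨hx, i, ?_⟩
    rw [e, _root_.zpow_mul, show t ^ (3 : ℤ) = 1 from (zpow_natCast t 3).trans h3, _root_.one_zpow, mul_one]
  obtain ⟨i, j, h1⟩ := h d hd
  obtain ⟨a, b, h2⟩ := h e he
  have h4 : ¬ 3 ∣ j := fun h4 => hn (k d hd i j h1 h4)
  have h5 : ∀ i j : ℤ, s ^ a * t ^ b * (s ^ i * t ^ j) = s ^ (a + i) * t ^ (b + j) := fun i j => by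
    rw [_root_.zpow_add, _root_.zpow_add, (hc.zpow_zpow i b).symm.mul_mul_mul_comm]
  have h7 : (b % 3 = 0 ∨ b % 3 = 1 ∨ b % 3 = 2) ∧ (j % 3 = 1 ∨ j % 3 = 2) := by omega
  rcases (by omega : 3 ∣ b ∨ 3 ∣ b + j ∨ 3 ∣ b + -j) with h6 | h6 | h6
  · exact .inl (k e he a b h2 h6)
  · exact .inr (.inl (k _ (mul_mem he hd) _ _ (by rw [h1, h2, h5]) h6))
  · refine .inr (.inr (k _ (mul_mem he (inv_mem hd)) (a + -i) _ ?_ h6))
    rw [h1, h2, ← h5, (hc.zpow_zpow i j).eq, _root_.mul_inv_rev, _root_.zpow_neg, _root_.zpow_neg]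

theorem st_of_index {D Z : Subgroup Y} (hc : ∀ a ∈ D, ∀ b ∈ D, a * b = b * a) (h : (Z.subgroupOf D).index = 3) :
    St (Z : Set Y) {d | d ∈ D ∧ d ^ 3 = 1} := fun d hd e he hn => by
  have := Fact.mk Nat.prime_three
  have : (Z.subgroupOf D).Normal := ⟨fun x hx g => by
    rwa [show g * x = x * g from Subtype.ext (hc _ g.2 _ x.2), mul_inv_cancel_right]⟩
  have k : ∀ x : D, (x : D ⧸ Z.subgroupOf D) ∈ ⊤ ⊓ zpowers 1 ↔ x.1 ∈ Z := fun x => by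
    rw [top_inf_eq, zpowers_one_eq_bot, mem_bot, QuotientGroup.eq_one_iff, mem_subgroupOf]
  have h1 := st (V := ⊤) (Commute.one_left ((⟨d, hd.1⟩ : D) : D ⧸ Z.subgroupOf D))
    ((congrArg _ h.symm).trans pow_card_eq_one') (fun x _ => by
    obtain ⟨j, hj⟩ := mem_zpowers_of_prime_card (G := D ⧸ Z.subgroupOf D) h (g := (⟨d, hd.1⟩ : D)) (g' := x)
      fun e => hn ((QuotientGroup.eq_one_iff (N := Z.subgroupOf D) _).1 e)
    exact ⟨0, j, by rw [zpow_zero, one_mul, ← hj]⟩) _ (mem_top _) ((⟨e, he.1⟩ : D) : D ⧸ Z.subgroupOf D) (mem_top _)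
    fun e => hn ((k ⟨d, hd.1⟩).1 e)
  exact h1.imp (k ⟨e, he.1⟩).1 (.imp (k (⟨e, he.1⟩ * ⟨d, hd.1⟩)).1 (k (⟨e, he.1⟩ * ⟨d, hd.1⟩⁻¹)).1)

/-- **the double count** -/
theorem dc {ι : Type} [Finite Y] (H : Subgroup Y) (K : ι → Subgroup Y) {L P : Set ι} (hL : L.Finite) (hP : P ⊆ L)
    (h1 : ∀ a ∈ L, (K a).index ≤ 3) (h2 : ∀ a ∈ P, K a = ⊤) {n : ℕ} (h3 : ∀ d ∉ H, {a ∈ L | d ∈ K a}.ncard ≤ n) :
    (L.ncard + 2 * P.ncard) * H.index + 3 * n ≤ 3 * n * H.index + 3 * L.ncard := by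
  classical
  have := Fintype.ofFinite Y
  lift P to Finset ι using hL.subset hP
  lift L to Finset ι using hL
  have hc : ∀ K : Subgroup Y, Nat.card K = (Finset.univ.filter (· ∈ K)).card := fun K => by
    rw [Nat.card_eq_fintype_card, Fintype.card_subtype]
  have h4 : ∑ d, (L.filter (d ∈ K ·)).card = ∑ a ∈ L, Nat.card (K a) := by
    simp only [hc, Finset.card_filter]
    exact Finset.sum_comm
  have h5 : ∑ a ∈ L, (Nat.card Y + if a ∈ P then 2 * Nat.card Y else 0) ≤ ∑ a ∈ L, 3 * Nat.card (K a) :=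
    Finset.sum_le_sum fun a ha => by
      split_ifs with h
      · rw [h2 a h, card_top]; omega
      · rw [← (K a).index_mul_card]
        exact Nat.mul_le_mul_right _ (h1 a ha)
  have h6 : ∑ d, ((L.filter (d ∈ K ·)).card + if d ∈ H then n else 0) ≤ ∑ d, (n + if d ∈ H then L.card else 0) :=
    Finset.sum_le_sum fun d _ => by
      split_ifs with h
      · rw [add_comm]
        exact Nat.add_le_add_left (Finset.card_filter_le _ _) _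
      · rw [← Set.ncard_coe_finset, Finset.coe_filter]
        exact h3 d h
  rw [Finset.sum_add_distrib, Finset.sum_ite_mem, Finset.inter_eq_right.2 hP, Finset.sum_const, Finset.sum_const,
    ← Finset.mul_sum, ← h4] at h5
  rw [Finset.sum_add_distrib, Finset.sum_add_distrib, ← Finset.sum_filter, ← Finset.sum_filter, Finset.sum_const,
    Finset.sum_const, Finset.sum_const, ← hc, Finset.card_univ, ← Nat.card_eq_fintype_card] at h6
  rw [Set.ncard_coe_finset, Set.ncard_coe_finset]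
  refine Nat.le_of_mul_le_mul_right ?_ (Nat.card_pos (α := H))
  simp only [smul_eq_mul, ← H.index_mul_card] at h5 h6
  nlinarith

end Grp

variable {p : ℕ} [Fact p.Prime] {k : Type} [Field k] [CharP k p] {Y : Type} [Group Y] {N : Type} [Fintype N]
  [DecidableEq N] {ρ : Y →* GL N k} {F : MulAut Y} {G : Subgroup Y} [IsAlgClosed k] (X : Datum p ρ F G)

include X in
theorem ord_pos (a : kˣ) : 0 < orderOf a := by
  obtain ⟨m, h1, h2⟩ := X.amb.lf a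
  have h3 := Nat.one_lt_pow h1.ne' (Fact.out : p.Prime).one_lt
  refine (isOfFinOrder_iff_pow_eq_one.2 ⟨p ^ m - 1, by omega, mul_right_cancel (b := a) ?_⟩).orderOf_pos
  rw [← pow_succ, Nat.sub_add_cancel h3.le, one_mul]
  exact Units.ext h2

variable {X}

theorem τ_zsmul (c : ℤ) (v : X.R → ℤ) (ζ : kˣ) : X.τ (coch (c • v) ζ) = X.τ (coch v ζ) ^ c := by
  rw [coch_zsmul, map_zpow, map_zpow]

theorem τ_lin (i j : ℤ) (u v : X.R → ℤ) (ζ : kˣ) :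
    X.τ (coch (i • u + j • v) ζ) = X.τ (coch u ζ) ^ i * X.τ (coch v ζ) ^ j := by
  rw [coch_add, map_mul, τ_zsmul, τ_zsmul]

theorem pp_lin {Ψ : Set (X.I → ℤ)} {u v : X.R → ℤ} (h : Pp X Ψ u) (h' : Pp X Ψ v) (i j : ℤ) : Pp X Ψ (i • u + j • v) :=
  fun b hb => by rw [dotProduct_add, dotProduct_smul, dotProduct_smul, h b hb, h' b hb, smul_zero, smul_zero, add_zero]

/-- the elements of `Z0` -/
theorem exists_of_Z0 {A : Set Y} {z : Y} (hz : z ∈ Z0 X A) : ∃ v ξ, Pp X (X.Sz A) v ∧ z = X.τ (coch v ξ) := by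
  induction hz using closure_induction with
  | mem z hz => exact hz
  | one => exact ⟨0, 1, fun b _ => dotProduct_zero _, by rw [map_one, map_one]⟩
  | mul x y _ _ h1 h2 =>
    obtain ⟨u, a, h1, rfl⟩ := h1
    obtain ⟨v, b, h2, rfl⟩ := h2
    have : NeZero (orderOf a * orderOf b) := ⟨(Nat.mul_pos (ord_pos X a) (ord_pos X b)).ne'⟩
    obtain ⟨η, hη⟩ := IsCyclic.exists_generator (α := rootsOfUnity (orderOf a * orderOf b) k)
    obtain ⟨i, hi⟩ := hη ⟨a, (mem_rootsOfUnity _ _).2 (orderOf_dvd_iff_pow_eq_one.1 (dvd_mul_right _ _))⟩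
    obtain ⟨j, hj⟩ := hη ⟨b, (mem_rootsOfUnity _ _).2 (orderOf_dvd_iff_pow_eq_one.1 (dvd_mul_left _ _))⟩
    refine ⟨_, η, pp_lin h1 h2 i j, ?_⟩
    rw [coch_add, coch_zsmul, coch_zsmul, map_mul, show η.1 ^ i = a from congrArg Subtype.val hi,
      show η.1 ^ j = b from congrArg Subtype.val hj]
  | inv x _ h1 =>
    obtain ⟨u, a, h1, rfl⟩ := h1
    exact ⟨u, a⁻¹, h1, by rw [map_inv, map_inv]⟩

/-- the elements of order three of `Z0` -/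
theorem exists_three {ζ : kˣ} (hζ : orderOf ζ = 3) {A : Set Y} {z : Y} (hz : z ∈ Z0 X A) (h3 : z ^ 3 = 1) :
    ∃ v, Pp X (X.Sz A) v ∧ z = X.τ (coch v ζ) := by
  obtain ⟨v, ξ, h1, rfl⟩ := exists_of_Z0 hz
  have h2 : ∀ j, (orderOf ξ : ℤ) ∣ 3 * v j := fun j => by
    have h4 : coch v ξ ^ 3 = 1 := X.τ_inj (by rw [map_pow, h3, map_one])
    rw [orderOf_dvd_iff_zpow_eq_one, mul_comm, _root_.zpow_mul]
    exact (zpow_natCast _ 3).trans (congrFun h4 j)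
  obtain ⟨m, h4, h5, h6⟩ : ∃ m : ℕ, 0 < m ∧ orderOf ξ ∣ m * 3 ∧ ∀ j, (m : ℤ) ∣ v j := by
    have h0 := ord_pos X ξ
    by_cases h : 3 ∣ orderOf ξ
    · obtain ⟨m, hm⟩ := h
      exact ⟨m, by omega, ⟨1, by omega⟩, fun j => Int.dvd_of_mul_dvd_mul_left (show (3 : ℤ) ≠ 0 by decide)
        (by exact_mod_cast hm ▸ h2 j)⟩
    · exact ⟨_, h0, dvd_mul_right _ _, fun j => (Nat.isCoprime_iff_coprime.2
        (Nat.prime_three.coprime_iff_not_dvd.2 h).symm).dvd_of_dvd_mul_left (h2 j)⟩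
  choose w hw using h6
  obtain rfl : v = (m : ℤ) • w := funext hw
  have h0 : IsPrimitiveRoot (ζ : k) 3 := IsPrimitiveRoot.coe_units_iff.2 (hζ ▸ IsPrimitiveRoot.orderOf ζ)
  obtain ⟨c, -, hc⟩ := h0.eq_pow_of_pow_eq_one (ξ := ((ξ ^ m : kˣ) : k)) (by
    rw [← Units.val_pow_eq_pow_val, ← pow_mul, orderOf_dvd_iff_pow_eq_one.1 h5, Units.val_one])
  refine ⟨(c : ℤ) • w, fun b hb => ?_, ?_⟩
  · have h7 := h1 b hb
    rw [dotProduct_smul, smul_eq_zero] at h7 ⊢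
    exact .inr (h7.resolve_left (Int.natCast_ne_zero.2 h4.ne'))
  · rw [coch_zsmul, coch_zsmul, zpow_natCast, zpow_natCast, show ζ ^ c = ξ ^ m from Units.ext hc]

theorem ncard_conj {t g : Y} (ht : t ∈ X.T) (hg : g ∈ G) (h : g * t * g⁻¹ ∈ X.T) :
    (X.Sz {g * t * g⁻¹}).ncard = (X.Sz {t}).ncard := by
  obtain ⟨-, -, m, ⟨w, hm⟩, e, -⟩ := X.exists_conj_form (s := fun _ : Unit => t) (t := fun _ => g * t * g⁻¹)
    (fun _ => ht) (fun _ => h) hg fun _ => by group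
  rw [← ncard_im w⁻¹, im, inv_inv]
  congr 1
  ext a
  refine and_congr (rt_act w) ?_
  simp only [Set.mem_singleton_iff, forall_eq]
  rw [← mul_inv_eq_iff_eq_mul.2 (e ()), X.χ_rp hm a ht]

theorem flag {D : Subgroup Y} (hD : D ≤ X.T) (h : St (Z0 X D : Set Y) {d | d ∈ D ∧ d ^ 3 = 1}) {s t : Y}
    (hc : Commute s t) (hs : s ^ 3 = 1) (ht : t ^ 3 = 1)
    (h1 : ∀ z ∈ Z0 X D, z ^ 3 = 1 → ∃ i j : ℤ, z = s ^ i * t ^ j)
    (h2 : ∀ g ∈ G, ∀ z ∈ zpowers s, g * z * g⁻¹ ∈ Z0 X D → (g * z * g⁻¹) ^ 3 = 1 → g * z * g⁻¹ ∈ zpowers s) : Flag G D := by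
  have h3 : ∀ a ∈ D, ∀ b ∈ D, a ^ 3 = 1 → b ^ 3 = 1 → (a * b) ^ 3 = 1 := fun a ha b hb e e' => by
    rw [(show Commute a b from X.T_comm (hD ha) (hD hb)).mul_pow, e, e', one_mul]
  let V : Subgroup Y :=
    { carrier := {d | d ∈ D ∧ d ∈ Z0 X D ∧ d ^ 3 = 1}
      one_mem' := ⟨one_mem _, one_mem _, one_pow _⟩
      mul_mem' := fun {a b} ha hb => ⟨mul_mem ha.1 hb.1, mul_mem ha.2.1 hb.2.1, h3 a ha.1 b hb.1 ha.2.2 hb.2.2⟩
      inv_mem' := fun {a} ha => ⟨inv_mem ha.1, inv_mem ha.2.1, by rw [inv_pow, ha.2.2, inv_one]⟩ }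
  refine ⟨V ⊓ zpowers s, V, inf_le_left, fun _ h => h.1, fun _ h => h.2.2, fun g hg hn => ?_, ?_,
    st hc ht fun d hd => h1 d hd.2.1 hd.2.2, fun d hd e he hn => ?_⟩
  · have h4 : ∀ v ∈ V, g * v * g⁻¹ ∈ V := fun v hv => ⟨(mem_normalizer_iff.1 hn v).1 hv.1,
      conj_mem_Z0 X hD hg hn hv.2.1, by rw [conj_pow, hv.2.2, mul_one, mul_inv_cancel]⟩
    exact ⟨fun v hv => ⟨h4 v hv.1, h2 g hg v hv.2 (h4 v hv.1).2.1 (h4 v hv.1).2.2⟩, h4⟩
  · have h4 := st (V := V ⊓ zpowers s) (Commute.one_left s) hs fun d ⟨_, j, hj⟩ =>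
      ⟨0, j, by rw [zpow_zero, one_mul, ← hj]⟩
    rwa [zpowers_one_eq_bot, inf_bot_eq] at h4
  · have h4 : d⁻¹ ^ 3 = 1 := by rw [inv_pow, hd.2, inv_one]
    exact (h d hd e he fun h5 => hn ⟨hd.1, h5, hd.2⟩).imp (fun h5 => ⟨he.1, h5, he.2⟩) (.imp
      (fun h5 => ⟨mul_mem he.1 hd.1, h5, h3 e he.1 d hd.1 he.2 hd.2⟩)
      fun h5 => ⟨mul_mem he.1 (inv_mem hd.1), h5, h3 e he.1 _ (inv_mem hd.1) he.2 h4⟩)

theorem cork {D : Subgroup Y} (hp : 3 ≠ p) (hD : D ≤ X.T) (hC : Cork X (X.Sz D))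
    (h : St (Z0 X D : Set Y) {d | d ∈ D ∧ d ^ 3 = 1}) : Flag G D := by
  obtain ⟨ζ, hζ⟩ := exists_prim p k (n := 3) fun e => hp ((Nat.prime_dvd_prime_iff_eq Fact.out Nat.prime_three).1 e).symm
  have h3 : ∀ v, X.τ (coch v ζ) ^ 3 = 1 := fun v => by
    rw [← map_pow, ← map_pow, ← hζ, pow_orderOf_eq_one, map_one, map_one]
  rcases hC with ⟨v₀, h1⟩ | ⟨v₁, v₂, m, -, -, h1, h2⟩
  · refine flag hD h (Commute.one_left _) (one_pow 3) (h3 v₀) (fun z hz e => ?_) fun g _ z hz _ _ => ?_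
    · obtain ⟨v, h4, rfl⟩ := exists_three hζ hz e
      obtain ⟨c, rfl⟩ := h1 v h4
      exact ⟨0, c, by rw [zpow_zero, one_mul, τ_zsmul]⟩
    · rw [zpowers_one_eq_bot, mem_bot] at hz ⊢
      rw [hz, mul_one, mul_inv_cancel]
  · have h4 : ∀ z ∈ Z0 X D, z ^ 3 = 1 → ∃ i j : ℤ, z = X.τ (coch (i • v₁ + j • v₂) ζ) := fun z hz e => by
      obtain ⟨v, h4, rfl⟩ := exists_three hζ hz e
      obtain ⟨i, j, rfl⟩ := h1 v h4
      exact ⟨i, j, rfl⟩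
    have h5 : ∀ i j : ℤ, (X.Sz {X.τ (coch (i • v₁ + j • v₂) ζ)}).ncard = m ↔ ¬ 3 ∣ j := fun i j => by
      rw [Sz_exp, hζ]
      exact h2 i j
    refine flag hD h (X.T_comm (X.τ_mem _) (X.τ_mem _)) (h3 v₁) (h3 v₂) (fun z hz e => by
      simpa only [τ_lin] using h4 z hz e) ?_
    rintro g hg _ ⟨a, rfl⟩ hz e
    obtain ⟨i, j, h6⟩ := h4 _ hz e
    have h7 := ncard_conj (zpow_mem (X.τ_mem (coch v₁ ζ)) a) hg (Z0_le_T X _ hz)
    have h8 := h5 a 0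
    rw [τ_lin, zpow_zero, mul_one, ← h7] at h8
    obtain ⟨c, rfl⟩ : 3 ∣ j := by_contra fun h9 => h8.1 (h6 ▸ (h5 i j).2 h9) (dvd_zero 3)
    refine ⟨i, ?_⟩
    rw [h6, τ_lin, _root_.zpow_mul, show X.τ (coch v₂ ζ) ^ (3 : ℤ) = 1 from (zpow_natCast _ 3).trans (h3 v₂),
      _root_.one_zpow, mul_one]

theorem seven {Ψ Ψ' : Set (X.I → ℤ)} (hf : Ψ.Finite) (h : Rk7 X Ψ') (h1 : Ψ' ⊆ Cl X Ψ) : 7 ≤ Ψ.ncard := by
  obtain ⟨α, δ, c, h2, h3, h4⟩ := h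
  have := hf.fintype
  let φ : (Fin 7 → ℤ) →ₗ[ℤ] (Ψ → ℤ) := (Matrix.of fun (b : Ψ) j => X.wt b ⬝ᵥ δ j).mulVecLin
  have e : ∀ (a : X.I → ℤ) (x : Fin 7 → ℤ), X.wt a ⬝ᵥ ∑ j, x j • δ j = ∑ j, (X.wt a ⬝ᵥ δ j) * x j := fun a x => by
    simp only [dotProduct_sum, dotProduct_smul, smul_eq_mul, mul_comm]
  have h5 := card_le_of_injective ℤ φ ((injective_iff_map_eq_zero φ).2 fun x hx => funext fun i => by
    have h6 := (h1 (h3 i)).2 (∑ j, x j • δ j) fun b hb => (e b x).trans (congrFun hx ⟨b, hb⟩)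
    rw [e] at h6
    simpa [h4, h2] using h6)
  rwa [Fintype.card_fin, ← Nat.card_eq_fintype_card, Nat.card_coe_set_eq] at h5

/-- the elements outside `Z0` -/
theorem key (hp : 3 ≠ p) (hZ : ZCs X 3) (hK : Kt X) {D : Subgroup Y} (hD : D ≤ X.T) (he : El 3 (D : Set Y)) {d : Y}
    (hd : d ∈ D) (h : d ∉ Z0 X D) : (∀ a ∈ Cl X (X.Sz D), X.χ a d ^ 3 = 1) ∧ Cork X (X.Sz D) ∧
    (((Cl X (X.Sz D)).ncard = 72 ∧ {a ∈ Cl X (X.Sz D) | X.χ a d = 1}.ncard = 18) ∨ (7 ≤ (X.Sz D).ncard ∧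
      (((Cl X (X.Sz D)).ncard = 74 ∧ {a ∈ Cl X (X.Sz D) | X.χ a d = 1}.ncard = 20) ∨
      ((Cl X (X.Sz D)).ncard = 126 ∧ {a ∈ Cl X (X.Sz D) | X.χ a d = 1}.ncard = 36) ∨
      ((Cl X (X.Sz D)).ncard = 240 ∧ {a ∈ Cl X (X.Sz D) | X.χ a d = 1}.ncard ≤ 78 ∧ Z0 X D = ⊥)))) := by
  obtain ⟨j, hj⟩ := he d hd
  obtain ⟨s, a1, ⟨i, a2⟩, a3⟩ := exists_one Nat.prime_three hp (Z := Z0 X D)
    ((exists_gen (X := X) D).imp fun _ h => h.2) (hD hd) hj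
  have a4 : s ∈ Z0 X D := Z0_mono (Sz_le_Z0 X D) a1
  have ht := mul_mem (hD hd) (Z0_le_T X _ a4)
  have h1 : X.Sz {d * s} = {a ∈ Cl X (X.Sz D) | X.χ a d = 1} := by
    rw [a3, ← Sz_Z0]
    exact Set.ext fun a => ⟨fun h => ⟨Sz_anti (Set.subset_insert _ _) h, h.2 d (Set.mem_insert _ _)⟩,
      fun h => ⟨h.1.1, Set.forall_mem_insert.2 ⟨h.2, h.1.2⟩⟩⟩
  have h2 : X.Sz D ⊆ X.Sz {d * s} := fun a ha => h1.ge ⟨⟨ha.1, fun v hv => hv a ha⟩, ha.2 d hd⟩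
  have h3 : Pp X (X.Sz {d * s}) = Pp X (X.Sz D) := funext fun v => propext
    ⟨fun hv b hb => hv b (h2 hb), fun hv b hb => (h1.le hb).1.2 v hv⟩
  have h4 : Cl X (X.Sz {d * s}) = Cl X (X.Sz D) := by rw [Cl, h3, Cl]
  obtain ⟨ζ, u, -, h5, e⟩ := exists_exp X ht
  obtain ⟨m, -, hm⟩ := (Nat.dvd_prime_pow Nat.prime_three).1 (h5.trans (orderOf_dvd_of_pow_eq_one a2))
  have h6 : Rn X (3 ^ m) u = X.Sz {d * s} := by rw [e, Sz_exp, hm, Nat.cast_pow, Nat.cast_ofNat]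
  have h7 := hK m u
  rw [h6, h4, Cork, h3] at h7
  obtain ⟨h8, h9, h10⟩ := h7 fun h8 =>
    h ((Subgroup.mul_mem_cancel_right _ a4).1 (Z0_mono h2 (hZ.mem Nat.prime_three ht a2 h8)))
  rw [← h1]
  refine ⟨fun a ha => ?_, h9, h10.imp_right (And.imp (fun h11 => seven (X.finite_roots.subset fun _ h => h.1) h11
    fun a ha => (h1.le ha).1) (Or.imp_right (Or.imp_right (And.imp_right (And.imp_right fun h11 => ?_)))))⟩
  · have h11 := X.χ_mul a (hD hd) (Z0_le_T X _ a4)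
    rw [((Sz_Z0 _).ge ha).2 s a4, mul_one] at h11
    rw [← h11, ← χ_pow X a ht, e, ← zpow_natCast, ← τ_zsmul, χ_exp, hm, dotProduct_smul, Nat.cast_pow]
    exact h8 a ha
  · refine le_bot_iff.1 ((closure_le _).2 ?_)
    rintro _ ⟨v, a, hv, rfl⟩
    rw [h11 v hv, show coch (0 : X.R → ℤ) a = 1 from funext fun _ => zpow_zero a, map_one]
    exact one_mem _

end BT

open BT

theorem boxCork : BoxCork := fun _ _ hp hD hC h => cork hp hD hC h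

theorem boxT : BoxT := by
  intro p _ k _ _ Y _ N _ _ ρ F G _ X D hp hZ hK _ hD he
  refine or_iff_not_imp_left.2 fun h => ?_
  obtain ⟨d, hd, h⟩ := SetLike.not_le_iff_exists.1 h
  have := Fact.mk Nat.prime_three
  have hf : (Cl X (X.Sz D)).Finite := X.finite_roots.subset fun _ h => h.1
  let φ : (X.I → ℤ) → D →* kˣ := fun a => MonoidHom.toHomUnits
    ⟨⟨fun x => X.χ a x, X.χ_one a⟩, fun x y => X.χ_mul a (hD x.2) (hD y.2)⟩
  have h1 : ∀ a (x : D), x ∈ (φ a).ker ↔ X.χ a x = 1 := fun a x => Units.ext_iff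
  have h2 := fun n h2 => dc ((Z0 X D).subgroupOf D) (fun a => (φ a).ker) hf (P := X.Sz D)
    (fun a ha => ⟨ha.1, fun v hv => hv a ha⟩) (fun a ha => by
      rw [index_ker]
      refine (card_le_of_le (K := rootsOfUnity 3 k) ?_).trans (card_rootsOfUnity k 3)
      rintro _ ⟨x, rfl⟩
      refine (mem_rootsOfUnity' _ _).2 (show X.χ a x ^ 3 = 1 from ?_)
      by_cases hx : x.1 ∈ Z0 X D
      · rw [((Sz_Z0 _).ge ha).2 _ hx, one_pow]
      · exact (key hp hZ hK hD he x.2 hx).1 a ha)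
    (fun a ha => eq_top_iff.2 fun x _ => (h1 a x).2 (ha.2 _ x.2)) (n := n) h2
  simp only [h1] at h2
  have h3 := fun (x : D) hx => (key hp hZ hK hD he x.2 hx).2.2
  obtain ⟨r, hr⟩ := IsPGroup.index (p := 3) (fun x : D => (he x x.2).imp fun _ e => Subtype.ext e) ((Z0 X D).subgroupOf D)
  have h4 : ∀ i, ((Z0 X D).subgroupOf D).index < 3 ^ (i + 1) → r ≤ i := fun i e =>
    Nat.lt_succ_iff.1 ((Nat.pow_lt_pow_iff_right (by decide)).1 (hr ▸ e))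
  have h5 : ((Z0 X D).subgroupOf D).index < 9 → Flag G D := fun e => by
    refine cork hp hD (key hp hZ hK hD he hd h).2.1 (st_of_index (fun a ha b hb => X.T_comm (hD ha) (hD hb)) ?_)
    obtain rfl | rfl := Nat.le_one_iff_eq_zero_or_eq_one.1 (h4 1 e)
    · exact absurd (subgroupOf_eq_top.1 (index_eq_one.1 hr) hd) h
    · exact hr
  rcases h3 ⟨d, hd⟩ h with ⟨h6, -⟩ | ⟨h7, ⟨h6, -⟩ | ⟨h6, -⟩ | ⟨h6, -, h8⟩⟩
  · have h7 : 1 ≤ (X.Sz D).ncard := by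
      obtain ⟨a, ha⟩ := Set.nonempty_of_ncard_ne_zero (h6.trans_ne (by decide))
      refine (Set.ncard_pos (X.finite_roots.subset fun _ h => h.1)).2 (Set.nonempty_iff_ne_empty.2 fun e => ?_)
      have h8 := ha.2 (X.cor a) (e ▸ fun _ h => h.elim)
      exact absurd (((X.pair_cor ha.1 a).trans (Nodes.Coroot.cpr_self _ _ ha.1)).symm.trans h8) (by decide)
    have h9 := h2 18 fun x hx => by have := h3 x hx; omega
    exact .inr (h5 (by nlinarith))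
  · have h9 := h2 20 fun x hx => by have := h3 x hx; omega
    exact .inr (h5 (by nlinarith))
  · have h9 := h2 36 fun x hx => by have := h3 x hx; omega
    exact .inr (h5 (by nlinarith))
  · have h9 := h2 78 fun x hx => by have := h3 x hx; omega
    have h10 := h4 2 (show _ < 27 by nlinarith)
    rw [h8, bot_subgroupOf, index_bot] at hr
    exact .inl (hr.trans_le (Nat.pow_le_pow_right (by decide) h10))

end Cfsg.Agent.KM.Tor
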