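import Cfsg.Agent.KM.Tor.Bad
import Cfsg.Agent.KM.Ex.Kac

/-!
# KM, odd bad primes: tools for the lattice boxes (helper14)

* transport under the Weyl group: `im`, `Rn_Wm`, `Cl_im`, `ncard_im`, `Lvs.im`, `Gds.im`, `Ones.im`, `Trs.im`, `Spl.im`,
  `Cork.im`, `Rk7.im`; `gds_lt`;
* frames: `RP X P` (the roots with a decidable property), `ncard_RP`, `alc`, `kacD`, `RS`, `pp_RS`, `Cl_RS`, `zcs`, `cor_eq`,
  `lvs_RP`, `rk7_RP`, `trs_RP`, `spl_RP`.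
-/

set_option autoImplicit false
set_option linter.unusedSectionVars false

namespace Cfsg.Agent.KM.Tor

open Cfsg Cfsg.Lie Cfsg.Agent.DL Cfsg.Agent.Nodes.Reps Matrix Finset Cfsg.Agent.KZ.DatX Cfsg.Agent.Nodes.RGDChev
  Cfsg.Agent.ChevalleyStructure.NPerm Cfsg.Agent.ChevalleyStructure.CoxeterGeom
  Cfsg.Agent.ChevalleyStructure.CoxeterGeomTypes Cfsg.Agent.Tits.Roots
open Cfsg.Agent.H931.KC (hr Kac exists_alcove dvd_iff exists_ok isRoot_hr le_hr exists_dom)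
open Cfsg.Agent.H92.NE (bl bl_apply bl_comm bl_sr FormOK bl_rep bl_root)
open Cfsg.Agent.KM.Ex (sr_dot dot_congr)

section Dat

variable {p : ℕ} [Fact p.Prime] {k : Type} [Field k] [CharP k p] {Y : Type} [Group Y] {N : Type} [Fintype N]
  [DecidableEq N] {ρ : Y →* GL N k} {F : MulAut Y} {G : Subgroup Y} [IsAlgClosed k] (X : Datum p ρ F G)

/-- the image under `w` -/
def im (w : X.W) (Ψ : Set (X.I → ℤ)) : Set (X.I → ℤ) := X.act w⁻¹ ⁻¹' Ψ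

variable {X} {w : X.W} {Ψ Ψ' : Set (X.I → ℤ)} {a b : X.I → ℤ} {l n : ℕ} {m : ℤ} {u v : X.R → ℤ}

theorem act_inv_act (w : X.W) (a : X.I → ℤ) : X.act w⁻¹ (X.act w a) = a := rep_inv_apply ..

theorem act_act_inv (w : X.W) (a : X.I → ℤ) : X.act w (X.act w⁻¹ a) = a := rep_apply_inv ..

theorem act_mul' (v w : X.W) (a : X.I → ℤ) : X.act (v * w) a = X.act v (X.act w a) := rep_mul_apply ..

theorem act_inj (w : X.W) : Function.Injective (X.act w) := Function.LeftInverse.injective (act_inv_act w)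

theorem rt_act (w : X.W) : X.Rt (X.act w a) ↔ X.Rt a := ⟨fun h => act_inv_act w a ▸ h.act w⁻¹, fun h => h.act w⟩

theorem act_mem_im : X.act w a ∈ im X w Ψ ↔ a ∈ Ψ := by rw [im, Set.mem_preimage, act_inv_act]

theorem im_eq (w : X.W) (Ψ : Set (X.I → ℤ)) : im X w Ψ = X.act w '' Ψ :=
  Set.ext fun a => ⟨fun h => ⟨_, h, act_act_inv w a⟩, fun ⟨_, h, e⟩ => e ▸ act_mem_im.2 h⟩

theorem im_inv (w : X.W) (Ψ : Set (X.I → ℤ)) : im X w (im X w⁻¹ Ψ) = Ψ :=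
  Set.ext fun _ => (act_mem_im (w := w⁻¹)).trans Iff.rfl

theorem inv_im (w : X.W) (Ψ : Set (X.I → ℤ)) : im X w⁻¹ (im X w Ψ) = Ψ := by simpa only [inv_inv] using im_inv w⁻¹ Ψ

theorem im_mono (h : Ψ ⊆ Ψ') : im X w Ψ ⊆ im X w Ψ' := Set.preimage_mono h

theorem im_rt (h : ∀ a ∈ Ψ, X.Rt a) : ∀ a ∈ im X w Ψ, X.Rt a := fun _ ha => (rt_act w⁻¹).1 (h _ ha)

theorem ncard_im (w : X.W) (Ψ : Set (X.I → ℤ)) : (im X w Ψ).ncard = Ψ.ncard := by
  rw [im_eq, Set.ncard_image_of_injective _ (act_inj w)]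

theorem dot_Wm (w : X.W) (a : X.I → ℤ) (v : X.R → ℤ) : X.wt a ⬝ᵥ X.Wm w *ᵥ v = X.wt (X.act w⁻¹ a) ⬝ᵥ v := by
  rw [X.wt_act', dotProduct_mulVec]

theorem dot_Wm' (w : X.W) (a : X.I → ℤ) (v : X.R → ℤ) : X.wt a ⬝ᵥ X.Wm w⁻¹ *ᵥ v = X.wt (X.act w a) ⬝ᵥ v := by
  rw [dot_Wm, inv_inv]

theorem dot_Wm_add (w : X.W) (a : X.I → ℤ) (m : ℤ) (c d : X.R → ℤ) :
    X.wt a ⬝ᵥ (X.Wm w *ᵥ c + m • d) = X.wt (X.act w⁻¹ a) ⬝ᵥ c + m * (X.wt a ⬝ᵥ d) := by
  rw [dotProduct_add, dotProduct_smul, dot_Wm, smul_eq_mul]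

theorem Wm_Wm_inv (w : X.W) (v : X.R → ℤ) : X.Wm w *ᵥ X.Wm w⁻¹ *ᵥ v = v := by
  rw [mulVec_mulVec, ← X.Wm_mul, mul_inv_cancel, X.Wm_one, one_mulVec]

theorem Rn_Wm (w : X.W) (m : ℤ) (u : X.R → ℤ) : Rn X m (X.Wm w *ᵥ u) = im X w (Rn X m u) :=
  Set.ext fun a => and_congr (rt_act w⁻¹).symm (by rw [dot_Wm])

theorem Rn_add (m : ℤ) (u v : X.R → ℤ) : Rn X m (u + m • v) = Rn X m u :=
  Set.ext fun a => and_congr_right fun _ => by
    rw [dotProduct_add, dotProduct_smul, smul_eq_mul, dvd_add_left (dvd_mul_right _ _)]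

theorem Rn_rt : ∀ a ∈ Rn X m u, X.Rt a := fun _ h => h.1

theorem pp_im : Pp X (im X w Ψ) v ↔ Pp X Ψ (X.Wm w⁻¹ *ᵥ v) :=
  ⟨fun h b hb => (dot_Wm' w b v).trans (h _ (act_mem_im.2 hb)), fun h b hb => by
    rw [← h _ hb, dot_Wm', act_act_inv]⟩

theorem Pp.im (h : Pp X Ψ v) : Pp X (im X w Ψ) (X.Wm w *ᵥ v) := fun b hb => (dot_Wm w b v).trans (h _ hb)

theorem Pp.anti (h : Pp X Ψ v) (h1 : Ψ' ⊆ Ψ) : Pp X Ψ' v := fun b hb => h b (h1 hb)

theorem Cl_im (w : X.W) (Ψ : Set (X.I → ℤ)) : Cl X (im X w Ψ) = im X w (Cl X Ψ) :=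
  Set.ext fun a => and_congr (rt_act w⁻¹).symm ⟨fun h v hv => (dot_Wm w a v).symm.trans (h _ hv.im), fun h v hv => by
    rw [← h _ (pp_im.1 hv), dot_Wm', act_act_inv]⟩

theorem Lvs.im (h : Lvs X Ψ) : Lvs X (im X w Ψ) :=
  let ⟨v, hv⟩ := h
  ⟨X.Wm w *ᵥ v, fun a ha => by rw [dot_Wm]; exact hv _ ((rt_act _).2 ha)⟩

theorem lvs_im : Lvs X (im X w Ψ) ↔ Lvs X Ψ := ⟨fun h => inv_im w Ψ ▸ h.im, Lvs.im⟩

theorem sub_inv (h : Rn X m u ⊆ im X w Ψ) : Rn X m (X.Wm w⁻¹ *ᵥ u) ⊆ Ψ := by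
  rw [Rn_Wm]
  exact (im_mono h).trans (inv_im w Ψ).subset

theorem Gds.im (h : Gds X l Ψ) : Gds X l (im X w Ψ) := fun j u h1 => lvs_im.1 (Rn_Wm w⁻¹ _ u ▸ h j _ (sub_inv h1))

theorem Lq.im (h : Lq X l m u) : Lq X l m (X.Wm w *ᵥ u) :=
  h.imp fun _ h => ⟨h.1, fun a ha => by
    rw [Rn_Wm, Cl_im] at ha
    rw [dot_Wm]
    exact h.2 _ ha⟩

theorem Ones.im (h : Ones X l n Ψ) : Ones X l n (im X w Ψ) :=
  ⟨h.pos, (ncard_im w Ψ).trans h.card, fun m hm u h1 => (h.dich m hm _ (sub_inv h1)).imp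
    (fun e => Wm_Wm_inv w u ▸ e.im) fun ⟨e1, e2, e3⟩ => by
      rw [Rn_Wm] at e1 e3
      rw [Cl_im] at e3
      refine ⟨(ncard_im _ _).symm.trans e1, fun a ha => ?_, (im_mono e3).trans (im_inv w _).subset⟩
      have := e2 _ ha
      rwa [dot_Wm', act_act_inv] at this⟩

theorem Lv.im (h : Lv X m u) : Lv X m (X.Wm w *ᵥ u) :=
  let ⟨c, h1, v, h2⟩ := h
  ⟨c, h1, X.Wm w *ᵥ v, fun a ha e => by
    rw [← mulVec_smul, ← mulVec_smul, ← mulVec_add, dot_Wm]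
    exact h2 _ ((rt_act _).2 ha) (dot_Wm w a u ▸ e)⟩

theorem cor_inv (ha : X.Rt a) : X.cor a = X.Wm w *ᵥ X.cor (X.act w⁻¹ a) := by
  rw [← X.cor_act w ((rt_act _).2 ha), act_act_inv]

theorem Trs.im (h : Trs X n Ψ) (h0 : ∀ a ∈ Ψ, X.Rt a) : Trs X n (im X w Ψ) := by
  refine ⟨fun a ha b hb => ?_, fun a ha e => h.ne _ ha ?_⟩
  · obtain ⟨v, h1, h2⟩ := h.tr _ ha _ hb
    refine ⟨w * v * w⁻¹, ?_, by rw [act_mul', act_mul', h2, act_act_inv]⟩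
    have h3 : Subgroup.closure (X.rf '' Ψ) ≤ (Subgroup.closure (X.rf '' Tor.im X w Ψ)).comap (MulAut.conj w).toMonoidHom :=
      (Subgroup.closure_le _).2 fun _ ⟨c, hc, e⟩ => e ▸ Subgroup.subset_closure ⟨_, act_mem_im.2 hc, X.rf_act' w (h0 c hc)⟩
    exact h3 h1
  · rw [cor_inv (w := w) (im_rt h0 a ha), Rn_Wm] at e
    exact (ncard_im w _).symm.trans e

theorem im_A2 (w : X.W) (a b : X.I → ℤ) : im X w (A2 X a b) = A2 X (X.act w a) (X.act w b) := by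
  simp only [im_eq, A2, Set.image_insert_eq, Set.image_singleton, Datum.act, map_add, map_neg]

theorem im_diff (w : X.W) (Ψ : Set (X.I → ℤ)) (a b : X.I → ℤ) :
    im X w Ψ \ A2 X (X.act w a) (X.act w b) = im X w (Ψ \ A2 X a b) := by
  rw [← im_A2]
  rfl

theorem Spl.im (h : Spl X Ψ a b) (h0 : ∀ a ∈ Ψ, X.Rt a) : Spl X (im X w Ψ) (X.act w a) (X.act w b) := by
  have ha := h0 a (h.sub (.inl rfl))
  have hb := h0 b (h.sub (.inr (.inl rfl)))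
  refine ⟨im_A2 w a b ▸ im_mono h.sub, ?_, ?_, im_A2 w a b ▸ h.lv1.im, im_diff w Ψ a b ▸ h.lv2.im,
    im_A2 w a b ▸ h.gd1.im, fun c hc d hd e he => ?_, fun v hv c hc => ?_⟩
  · rw [X.cor_act w hb, dot_Wm, act_inv_act, h.ab]
  · rw [X.cor_act w ha, dot_Wm, act_inv_act, h.ba]
  · rw [im_diff] at hd
    rw [← im_A2] at hc
    exact h.orth _ hc _ hd _ (he.act w⁻¹)
  · rw [← im_A2] at hc ⊢
    have h1 := h.can (w⁻¹ * v * w) (fun d hd => by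
      rw [act_mul', act_mul']
      exact hv _ (act_mem_im.2 hd)) _ hc
    rwa [act_mul', act_mul', act_act_inv] at h1

theorem Cork.im (h : Cork X Ψ) : Cork X (im X w Ψ) := by
  rcases h with ⟨v₀, h⟩ | ⟨v₁, v₂, m, h1, h2, h3, h4⟩
  · refine .inl ⟨X.Wm w *ᵥ v₀, fun v hv => (h _ (pp_im.1 hv)).imp fun c e => ?_⟩
    rw [← mulVec_smul, ← e, Wm_Wm_inv]
  · refine .inr ⟨X.Wm w *ᵥ v₁, X.Wm w *ᵥ v₂, m, h1.im, h2.im, fun v hv => ?_, fun i j => ?_⟩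
    · obtain ⟨c₁, c₂, e⟩ := h3 _ (pp_im.1 hv)
      exact ⟨c₁, c₂, by rw [← mulVec_smul, ← mulVec_smul, ← mulVec_add, ← e, Wm_Wm_inv]⟩
    · rw [← mulVec_smul, ← mulVec_smul, ← mulVec_add, Rn_Wm, ncard_im, h4]

theorem Rk7.im (h : Rk7 X Ψ) : Rk7 X (im X w Ψ) :=
  let ⟨α, δ, c, h1, h2, h3⟩ := h
  ⟨fun i => X.act w (α i), fun j => X.Wm w *ᵥ δ j, c, h1, fun i => act_mem_im.2 (h2 i), fun i j => by
    rw [dot_Wm, act_inv_act, h3]⟩

theorem fin_of_rt (h : ∀ a ∈ Ψ, X.Rt a) : Ψ.Finite := X.finite_roots.subset h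

/-- small Levi subsystems are good -/
theorem gds_lt (hK : Kt X) (h0 : ∀ a ∈ Ψ, X.Rt a) (h : Lvs X Ψ) (h1 : Ψ.ncard < 72) : Gds X 3 Ψ := fun j u h2 =>
  by_contra fun h3 => by
    have h4 := Set.ncard_le_ncard (h.cl Rn_rt h2) (fin_of_rt h0)
    have h5 := (hK j u h3).2.2
    rw [Nat.cast_ofNat] at h4
    omega

theorem lq_of {e : ℤ} (he : ¬ (l : ℤ) ∣ e) (h : Pp X (Rn X m u) (e • u + m • v)) : Lq X l m u :=
  ⟨e, he, fun a ha => by
    have := ha.2 _ h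
    rw [dotProduct_add, dotProduct_smul, dotProduct_smul, smul_eq_mul, smul_eq_mul] at this
    exact ⟨-(X.wt a ⬝ᵥ v), by linear_combination this⟩⟩

theorem Lq.add (h : Lq X l m u) (v : X.R → ℤ) : Lq X l m (u + m • v) :=
  h.imp fun _ h => ⟨h.1, fun a ha => by
    rw [Rn_add] at ha
    rw [dotProduct_add, dotProduct_smul, smul_eq_mul, mul_add]
    exact dvd_add (h.2 a ha) ((dvd_mul_right _ _).mul_left _)⟩

end Dat

variable {C : ChevalleyDatum} {n : ℕ} {M : CoxeterMatrix (Fin n)} {hp : IsType C n M} {r : ℕ} [Fact r.Prime] {k : Type}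
  [Field k] [CharP k r] [IsAlgClosed k] {Mx : Matrix (Fin n) (Fin n) ℤ} (X : XF hp r k Mx)

/-- the roots with the property `P` -/
def RP (P : (Fin n → ℤ) → Prop) : Set (X.D.I → ℤ) := {a | X.D.Rt a ∧ P a}

theorem rt_vec (s : Fin C.nroots) : X.D.Rt (vec C n s) := (X.rt_iff _).2 ⟨s, s.2, rfl⟩

theorem forall_rt {Q : (Fin n → ℤ) → Prop} (h : ∀ s : Fin C.nroots, Q (vec C n s)) (a : Fin n → ℤ) (ha : X.D.Rt a) : Q a := by
  obtain ⟨s, hs, rfl⟩ := (X.rt_iff a).1 ha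
  exact h ⟨s, hs⟩

theorem of_pos {Q : (Fin n → ℤ) → Prop} (hQ : ∀ a, Q (-a) → Q a) (h : ∀ a, X.D.Rt a → 0 ≤ a → Q a) (a : Fin n → ℤ)
    (ha : X.D.Rt a) : Q a := ha.pos_or_neg.elim (h a ha) fun h0 => hQ a (h (-a) ha.neg (neg_nonneg.2 h0))

theorem RP_rt {P : (Fin n → ℤ) → Prop} : ∀ a ∈ RP X P, X.D.Rt a := fun _ h => h.1

theorem RP_congr {P Q : (Fin n → ℤ) → Prop} (h : ∀ s : Fin C.nroots, P (vec C n s) ↔ Q (vec C n s)) : RP X P = RP X Q :=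
  Set.ext fun a => and_congr_right (forall_rt X (Q := fun a => P a ↔ Q a) h a)

theorem ncard_RP (P : (Fin n → ℤ) → Prop) [DecidablePred P] : (RP X P).ncard = #{s : Fin C.nroots | P (vec C n s)} := by
  have e : RP X P = (fun s : Fin C.nroots => vec C n s) '' ↑({s : Fin C.nroots | P (vec C n s)} : Finset _) :=
    Set.ext fun a => ⟨fun h => by
      obtain ⟨s, hs, rfl⟩ := (X.rt_iff a).1 h.1
      exact ⟨⟨s, hs⟩, mem_coe.2 (mem_filter.2 ⟨mem_univ _, h.2⟩), rfl⟩,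
      fun ⟨s, hs, e⟩ => e ▸ ⟨rt_vec X s, (mem_filter.1 (mem_coe.1 hs)).2⟩⟩
  exact (congrArg Set.ncard e).trans ((Set.ncard_image_of_injective _ fun a b e => Fin.ext (vec_inj hp a.2 b.2 e)).trans
    (Set.ncard_coe_finset _))

theorem Rn_RP (m : ℤ) (u : Fin n → ℤ) : Rn X.D m u = RP X fun a => m ∣ a ⬝ᵥ u := rfl

theorem ncard_Rn (m : ℤ) (u : Fin n → ℤ) : (Rn X.D m u).ncard = #{s : Fin C.nroots | m ∣ vec C n s ⬝ᵥ u} :=
  ncard_RP X fun a => m ∣ a ⬝ᵥ u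

theorem lvs_RP {P : (Fin n → ℤ) → Prop} (v : Fin n → ℤ) (h : ∀ s : Fin C.nroots, P (vec C n s) ↔ vec C n s ⬝ᵥ v = 0) :
    Lvs X.D (RP X P) := ⟨v, fun a ha => (and_iff_right ha).trans (forall_rt X (Q := fun a => P a ↔ a ⬝ᵥ v = 0) h a ha)⟩

theorem rk7_RP {P : (Fin n → ℤ) → Prop} (σ : Fin 7 → Fin C.nroots) (δ : Fin 7 → Fin n → ℤ) (c : ℤ) (h : c ≠ 0 ∧
    (∀ i, P (vec C n (σ i))) ∧ ∀ i j, vec C n (σ i) ⬝ᵥ δ j = if i = j then c else 0) : Rk7 X.D (RP X P) :=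
  ⟨fun i => vec C n (σ i), δ, c, h.1, fun i => ⟨rt_vec X _, h.2.1 i⟩, h.2.2⟩

/-- **Kac coordinates** -/
theorem alc {m : ℕ} (hm : 0 < m) (u : Fin n → ℤ) : ∃ (w : X.D.W) (c : Fin n → ℕ) (c0 : ℕ) (d : X.D.R → ℤ),
    Kac C n m c c0 ∧ u = X.D.Wm w *ᵥ (fun i : Fin n => (c i : ℤ)) + (m : ℤ) • d := by
  obtain ⟨w, c, c0, K, h⟩ := exists_alcove hp hm (H931.KC.psi u)
  choose d hd using fun i : Fin n => h (Ex.rp hp w⁻¹ (sr i))
  refine ⟨w, c, c0, fun i => -d i, K, funext fun i => ?_⟩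
  have h1 : Ex.rp hp w⁻¹ (sr i) ⬝ᵥ (fun i => (c i : ℤ)) - Ex.rp hp w (Ex.rp hp w⁻¹ (sr i)) ⬝ᵥ u = m * d i := hd i
  rw [show Ex.rp hp w (Ex.rp hp w⁻¹ (sr i)) = sr i from rep_apply_inv .., sr_dot] at h1
  have h2 : (X.D.Wm w *ᵥ fun i : Fin n => (c i : ℤ)) i = Ex.rp hp w⁻¹ (sr i) ⬝ᵥ (fun i => (c i : ℤ)) :=
    (sr_dot i _).symm.trans (dot_Wm (X := X.D) w (sr i) fun i : Fin n => (c i : ℤ))
  change u i = (X.D.Wm w *ᵥ fun i : Fin n => (c i : ℤ)) i + m * -d i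
  linear_combination -h1 - h2

/-- the roots of an element with the Kac coordinates supported on `s` -/
def RS (C : ChevalleyDatum) (n : ℕ) (s : Finset (Fin n)) (a : Fin n → ℤ) : Prop :=
  (∀ i ∈ s, a i = 0) ∨ (∀ i ∈ s, a i = hr C n i) ∨ ∀ i ∈ s, a i = -hr C n i

instance RS.dec (s : Finset (Fin n)) : DecidablePred (RS C n s) := fun _ => by unfold RS; infer_instance

/-- their Levi closure -/
def LS (C : ChevalleyDatum) (n : ℕ) (s : Finset (Fin n)) (a : Fin n → ℤ) : Prop :=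
  ∀ i ∈ s, ∀ j ∈ s, a i * hr C n j = a j * hr C n i

instance LS.dec (s : Finset (Fin n)) : DecidablePred (LS C n s) := fun _ => by unfold LS; infer_instance

theorem hr_pos (hp : IsType C n M) (i : Fin n) : 0 < hr C n i := by
  obtain ⟨_, _, _, _, H⟩ := exists_ok hp
  exact (sr_self i ▸ le_hr hp H (isRoot_sr _ _ i) i : (1 : ℤ) ≤ _)

theorem rt_hr : X.D.Rt (hr C n) := by
  obtain ⟨_, _, _, _, H⟩ := exists_ok hp
  exact isRoot_hr hp H

theorem Rn_kac {m : ℕ} {c : Fin n → ℕ} (K : Kac C n m c 0) :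
    Rn X.D m (fun i : Fin n => (c i : ℤ)) = RP X (RS C n {i | c i ≠ 0}) := by
  have e : ∀ a : Fin n → ℤ, X.D.Rt a → 0 ≤ a → ((m : ℤ) ∣ a ⬝ᵥ (fun i => (c i : ℤ)) ↔ RS C n {i | c i ≠ 0} a) := fun a ha h0 => by
    refine (dvd_iff hp K ha h0).trans ?_
    simp only [RS, mem_filter, mem_univ, true_and, ne_eq, not_imp_comm (b := c _ = 0)]
    refine ⟨Or.imp_right .inl, fun h => h.elim .inl fun h => h.elim .inr fun h => .inl fun i hi => ?_⟩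
    exact absurd ((h i hi).symm ▸ h0 i : (0 : ℤ) ≤ -hr C n i) (by have := hr_pos hp i; omega)
  refine Set.ext fun a => and_congr_right (of_pos X (fun a h1 => ?_) e a)
  rw [neg_dotProduct, dvd_neg] at h1
  refine h1.trans ?_
  simp only [RS, Pi.neg_apply, neg_eq_iff_eq_neg, neg_neg, neg_zero]
  exact or_congr_right or_comm

theorem pp_RS {s : Finset (Fin n)} {v : Fin n → ℤ} :
    Pp X.D (RP X (RS C n s)) v ↔ (∀ i, i ∉ s → v i = 0) ∧ hr C n ⬝ᵥ v = 0 := by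
  refine ⟨fun h => ⟨fun i hi => (sr_dot i v).symm.trans (h (sr i) ⟨isRoot_sr _ _ i, .inl fun j hj => sr_ne ?_⟩),
    h _ ⟨rt_hr X, .inr (.inl fun _ _ => rfl)⟩⟩, fun ⟨h1, h2⟩ a ha => ?_⟩
  · rintro rfl
    exact hi hj
  have e : ∀ b : Fin n → ℤ, (∀ i ∈ s, a i = b i) → (a : Fin n → ℤ) ⬝ᵥ v = b ⬝ᵥ v := fun b hb => sum_congr rfl fun i _ =>
    (em (i ∈ s)).elim (fun e => by rw [hb i e]) fun e => by rw [h1 i e, mul_zero, mul_zero]
  rcases ha.2 with h | h | h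
  · exact (e 0 h).trans (zero_dotProduct v)
  · exact (e _ h).trans h2
  · exact (e (-hr C n) h).trans (by rw [neg_dotProduct, h2, neg_zero])

theorem LS.dot {s : Finset (Fin n)} {a v : Fin n → ℤ} (h : LS C n s a) (hv : ∀ i, i ∉ s → v i = 0) {j : Fin n} (hj : j ∈ s) :
    hr C n j * (a ⬝ᵥ v) = a j * (hr C n ⬝ᵥ v) := by
  simp only [dotProduct, mul_sum]
  refine sum_congr rfl fun i _ => (em (i ∈ s)).elim (fun e => ?_) fun e => by simp only [hv i e, mul_zero]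
  linear_combination v i * h i e j hj

theorem Cl_RS {s : Finset (Fin n)} (hs : s.Nonempty) : Cl X.D (RP X (RS C n s)) = RP X (LS C n s) := by
  refine Set.ext fun a => and_congr_right fun _ => ⟨fun h i hi j hj => ?_, fun h v hv => ?_⟩
  · have e : ∀ b : Fin n → ℤ, b ⬝ᵥ (hr C n j • sr i - hr C n i • sr j) = b i * hr C n j - b j * hr C n i := fun b => by
      rw [dotProduct_sub, dotProduct_smul, dotProduct_smul, dotProduct_comm b, dotProduct_comm b, sr_dot, sr_dot, smul_eq_mul,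
        smul_eq_mul, mul_comm, mul_comm (b j)]
    refine sub_eq_zero.1 ((e a).symm.trans (h _ ((pp_RS X).2 ⟨fun t ht => ?_, by rw [e, mul_comm, sub_self]⟩)))
    have h1 : t ≠ i := fun e => ht (e ▸ hi)
    have h2 : t ≠ j := fun e => ht (e ▸ hj)
    rw [Pi.sub_apply, Pi.smul_apply, Pi.smul_apply, sr_ne h1, sr_ne h2, smul_zero, smul_zero, sub_zero]
  · obtain ⟨j, hj⟩ := hs
    have h1 := LS.dot h ((pp_RS X).1 hv).1 hj
    rw [((pp_RS X).1 hv).2, mul_zero] at h1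
    exact (mul_eq_zero.1 h1).resolve_left (hr_pos hp j).ne'

/-- **The dichotomy**, for all moduli. -/
theorem kacD {l : ℕ} (hl : l.Prime) {m : ℤ} (hm : 0 < m) (u : Fin n → ℤ) : Lq X.D l m u ∨
    ∃ (w : X.D.W) (s : Finset (Fin n)) (c : Fin n → ℤ), s.Nonempty ∧ (∀ i ∈ s, (l : ℤ) ∣ hr C n i) ∧ (∀ i, i ∉ s → c i = 0) ∧
      hr C n ⬝ᵥ c = m ∧ Rn X.D m u = im X.D w (RP X (RS C n s)) ∧ Cl X.D (Rn X.D m u) = im X.D w (RP X (LS C n s)) ∧
      ∀ j ∈ s, ∀ a ∈ Cl X.D (Rn X.D m u), m ∣ hr C n j * (X.D.wt a ⬝ᵥ u) := by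
  lift m to ℕ using hm.le
  obtain ⟨w, c, c0, d, K, rfl⟩ := alc X (Int.natCast_pos.1 hm) u
  have h1 := fun a ha h0 => (dvd_iff hp K (a := a) ha h0).1
  have h2 := K.sum
  have key : ∀ (e : ℤ) (v : Fin n → ℤ), ¬ (l : ℤ) ∣ e → (∀ a : Fin n → ℤ, X.D.Rt a → 0 ≤ a → (m : ℤ) ∣ a ⬝ᵥ (fun i => (c i : ℤ)) →
      a ⬝ᵥ (e • (fun i => (c i : ℤ)) + (m : ℤ) • v) = 0) → Lq X.D l m (X.D.Wm w *ᵥ (fun i : Fin n => (c i : ℤ)) + (m : ℤ) • d) :=
    fun e v he h => (lq_of (X := X.D) (v := v) he fun a ha => of_pos X (fun a h2 h3 => by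
      simpa only [neg_dotProduct, neg_eq_zero] using h2 (by rwa [neg_dotProduct, dvd_neg])) h a ha.1 ha.2).im.add d
  by_cases h3 : c0 = 0
  · subst h3
    rw [Nat.cast_zero, zero_add] at h2
    by_cases h4 : ∀ i, c i ≠ 0 → (l : ℤ) ∣ hr C n i
    · have h5 : ({i | c i ≠ 0} : Finset (Fin n)).Nonempty := nonempty_iff_ne_empty.2 fun e => hm.ne (by
        rw [← h2]
        exact (sum_eq_zero fun i _ => by
          rw [by_contra fun e' => notMem_empty i (e ▸ mem_filter.2 ⟨mem_univ i, e'⟩), Nat.cast_zero, mul_zero]).symm)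
      have h6 : ∀ i, i ∉ ({i | c i ≠ 0} : Finset (Fin n)) → (c i : ℤ) = 0 := fun i hi => by
        rw [by_contra fun e' => hi (mem_filter.2 ⟨mem_univ i, e'⟩), Nat.cast_zero]
      have h7 := (Rn_add (X := X.D) m _ d).trans ((Rn_Wm w _ _).trans (congrArg _ (Rn_kac X K)))
      have h8 := (congrArg (Cl X.D) h7).trans ((Cl_im w _).trans (congrArg _ (Cl_RS X h5)))
      refine .inr ⟨w, _, fun i => c i, h5, fun i hi => h4 i (mem_filter.1 hi).2, h6, h2, h7, h8, fun j hj a ha => ?_⟩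
      have h9 := LS.dot (h8.subset ha).2 h6 hj
      rw [show (hr C n ⬝ᵥ fun i => (c i : ℤ)) = _ from h2] at h9
      refine (congrArg (fun x => (m : ℤ) ∣ hr C n j * x) (dot_Wm_add (X := X.D) w a m _ d)).mpr ?_
      rw [mul_add]
      exact dvd_add (h9 ▸ dvd_mul_left _ _) ((dvd_mul_right _ _).mul_left _)
    push Not at h4
    obtain ⟨i, h5, h4⟩ := h4
    refine .inl (key _ (-sr i) h4 fun a ha h0 h6 => ?_)
    rw [dotProduct_add, dotProduct_smul, dotProduct_smul, dotProduct_neg, dotProduct_comm a (sr i), sr_dot]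
    rcases h1 a ha h0 h6 with h7 | ⟨-, h7⟩
    · rw [dot_congr (b := 0) h7, zero_dotProduct, by_contra fun e => h5 (h7 i e), smul_zero, neg_zero, smul_zero, add_zero]
    · rw [dot_congr h7, by_contra fun e => h5 (h7 i e), show (hr C n ⬝ᵥ fun i => (c i : ℤ)) = _ from h2, smul_eq_mul,
        smul_eq_mul]
      ring
  · refine .inl (key 1 0 (Int.natCast_dvd_natCast.not.2 hl.not_dvd_one) fun a ha h0 h6 => ?_)
    rw [one_smul, smul_zero, add_zero, dot_congr (b := 0) ((h1 a ha h0 h6).resolve_right fun e => h3 e.1), zero_dotProduct]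

/-- **The centres of the Levi subgroups of the adjoint group are connected.** -/
theorem zcs (l : ℕ) : ZCs X.D l := fun j u h => by
  obtain ⟨_, _, _, _, H⟩ := exists_ok hp
  obtain ⟨w, hw⟩ : ∃ w : X.D.W, ∀ i : Fin n, 0 ≤ X.D.wt (X.D.act w (sr i)) ⬝ᵥ h.choose := exists_dom hp H (H931.KC.psi h.choose)
  have key : ∀ u v : Fin n → ℤ, (∀ i, 0 ≤ v i) → (∀ a : Fin n → ℤ, X.D.Rt a → ((l : ℤ) ^ j ∣ a ⬝ᵥ u ↔ a ⬝ᵥ v = 0)) →
      Lv X.D ((l : ℤ) ^ j) u := fun u v h1 h2 => ⟨1, isCoprime_one_left, fun i => -(u i / (l : ℤ) ^ j), of_pos X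
    (Q := fun a => (l : ℤ) ^ j ∣ a ⬝ᵥ u → a ⬝ᵥ ((1 : ℤ) • u + (l : ℤ) ^ j • fun i => -(u i / (l : ℤ) ^ j)) = 0)
    (fun a h2 h3 => by simpa only [neg_dotProduct, neg_eq_zero] using h2 (by rwa [neg_dotProduct, dvd_neg]))
    fun a ha h0 h3 => sum_eq_zero fun i _ => by
      rcases mul_eq_zero.1 ((sum_eq_zero_iff_of_nonneg fun i _ => mul_nonneg (h0 i) (h1 i)).1 ((h2 a ha).1 h3) i
        (mem_univ i)) with h4 | h4
      · rw [h4, zero_mul]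
      · have h5 := (h2 _ (isRoot_sr _ _ i)).2 ((sr_dot i v).trans h4)
        rw [sr_dot] at h5
        rw [one_smul, Pi.add_apply, Pi.smul_apply, smul_eq_mul, mul_neg, Int.mul_ediv_cancel' h5, add_neg_cancel, mul_zero]⟩
  exact Wm_Wm_inv w u ▸ (key (X.D.Wm w⁻¹ *ᵥ u) (X.D.Wm w⁻¹ *ᵥ h.choose)
    (fun i => (hw i).trans_eq ((dot_Wm' w (sr i) _).symm.trans (sr_dot i _))) fun a ha =>
      ((congrArg _ (dot_Wm' w a u)).to_iff.trans ((and_iff_right ((rt_act w).2 ha)).symm.trans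
        (h.choose_spec _ ((rt_act w).2 ha)))).trans (congrArg (· = 0) (dot_Wm' w a _)).to_iff.symm).im

/-! ### simply laced types -/

/-- the coroot of `a` -/
def co (C : ChevalleyDatum) (n : ℕ) (a : Fin n → ℤ) : Fin n → ℤ := fun j => ∑ i, a i * cartanOf C n i j

/-- the Cartan matrix is symmetric -/
def SL (C : ChevalleyDatum) (n : ℕ) : Prop := FormOK C n (cartanOf C n) ∧ ∀ i, cartanOf C n i i = 2

instance SL.dec : Decidable (SL C n) := by unfold SL; infer_instance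

theorem dot_co (a x : Fin n → ℤ) : x ⬝ᵥ co C n a = bl (cartanOf C n) x a := by
  simp only [bl_apply, co, dotProduct, mul_sum]
  rw [sum_comm]
  exact sum_congr rfl fun i _ => sum_congr rfl fun j _ => by ring

theorem cor_eq (h : SL C n) {a : Fin n → ℤ} (ha : X.D.Rt a) : X.D.cor a = co C n a := by
  obtain ⟨w, i, rfl⟩ := ha
  refine (X.D.cor_act_sr w i).trans (funext fun j => ?_)
  refine (sr_dot j _).symm.trans ((dot_Wm (X := X.D) w (sr j) _).trans (Eq.trans ?_ (sr_dot j _)))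
  refine Eq.trans ?_ (dot_co _ _).symm
  have e := bl_rep hp h.1 w (sr i) (Ex.rp hp w⁻¹ (sr j))
  rw [show rep M.toCoxeterSystem hp.isCartan w (Ex.rp hp w⁻¹ (sr j)) = sr j from rep_apply_inv ..] at e
  exact (dotProduct_comm _ _).trans (e.trans (bl_sr i _)).symm

theorem not_btwn (h : SL C n) {c d e : Fin n → ℤ} (hc : X.D.Rt c) (hd : X.D.Rt d) (h0 : d ⬝ᵥ co C n c = 0) :
    ¬ Btwn X.D.cs X.D.h c d e := by
  rintro ⟨he, m, s, t, h1, h2, h3, h4⟩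
  have h4' : m • e = s • c + t • d := h4
  have h5 := fun y => congrArg (bl (cartanOf C n) y) h4'
  simp only [map_add, map_zsmul, smul_eq_mul] at h5
  rw [dot_co] at h0
  have a1 := h5 c
  have a2 := h5 d
  have a3 := h5 e
  rw [bl_root hp h.1 h.2 hc, bl_comm h.1.1 d c, h0] at a1
  rw [bl_root hp h.1 h.2 hd, h0] at a2
  rw [bl_root hp h.1 h.2 he, bl_comm h.1.1 c e, bl_comm h.1.1 d e] at a3
  generalize bl (cartanOf C n) c e = x at a1 a3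
  generalize bl (cartanOf C n) d e = y at a2 a3
  have b1 : 0 < x := (mul_pos_iff_of_pos_left h1).1 (by omega)
  have b2 : 0 < y := (mul_pos_iff_of_pos_left h1).1 (by omega)
  have b3 : x * x + y * y = 4 := mul_left_cancel₀ h1.ne' (by linear_combination x * a1 + y * a2 - 2 * a3)
  have b4 : x = 1 := by nlinarith
  have b5 : y = 1 := by nlinarith
  rw [b4, b5] at b3
  omega

variable {P : (Fin n → ℤ) → Prop} [DecidablePred P]

/-- transitivity: `θ` is the only dominant root -/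
theorem trs_RP (h : SL C n) (N : ℕ) (θ : Fin n → ℤ) (h1 : ∀ s : Fin C.nroots, P (vec C n s) → vec C n s = θ ∨
      ∃ i, P (sr i) ∧ pairing (cartanOf C n) i (vec C n s) < 0 ∧ P (vec C n s - pairing (cartanOf C n) i (vec C n s) • sr i))
    (h2 : ∀ s : Fin C.nroots, P (vec C n s) →
      #{t : Fin C.nroots | 3 ∣ vec C n t ⬝ᵥ co C n (vec C n s) ∧ P (vec C n t)} ≠ N) : Trs X.D N (RP X P) := by
  obtain ⟨_, _, _, _, H⟩ := exists_ok hp
  have key : ∀ (j : ℕ) (a : Fin n → ℤ), a ∈ RP X P → ∑ i, (hr C n i - a i) < j →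
      ∃ v ∈ Subgroup.closure (X.D.rf '' RP X P), X.D.act v a = θ := by
    intro j
    induction j with
    | zero => exact fun a ha e => absurd (sum_nonneg fun i _ => sub_nonneg.2 (le_hr hp H ha.1 i)) (not_le.2 e)
    | succ j ih =>
      intro a ha e
      rcases forall_rt X (Q := fun a => P a → a = θ ∨ ∃ i, P (sr i) ∧ pairing (cartanOf C n) i a < 0 ∧
        P (a - pairing (cartanOf C n) i a • sr i)) h1 a ha.1 ha.2 with h3 | ⟨i, h3, h4, h5⟩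
      · exact ⟨1, one_mem _, (congrFun (congrArg _ (map_one (rep X.D.cs X.D.h))) a).trans h3⟩
      have h6 : X.D.act (X.D.rf (sr i)) a = a - pairing (cartanOf C n) i a • sr i :=
        (congrArg (fun v => X.D.act v a) (X.D.rf_sr i)).trans (rep_simple_eq _ _ i a)
      obtain ⟨v, h7, h8⟩ := ih (a - pairing (cartanOf C n) i a • sr i) ⟨h6 ▸ (rt_act _).2 ha.1, h5⟩ (by
        have h7 := sr_dot i (fun _ => (1 : ℤ))
        simp only [dotProduct, mul_one] at h7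
        simp only [Pi.sub_apply, Pi.smul_apply, smul_eq_mul, sum_sub_distrib, ← mul_sum, h7] at e ⊢
        push_cast at e
        omega)
      exact ⟨v * X.D.rf (sr i), mul_mem h7 (Subgroup.subset_closure ⟨_, ⟨isRoot_sr _ _ i, h3⟩, rfl⟩),
        (act_mul' _ _ _).trans ((congrArg _ h6).trans h8)⟩
  have key' := fun a ha => key ((∑ i, (hr C n i - a i)).toNat + 1) a ha (by push_cast; omega)
  refine ⟨fun a ha b hb => ?_, fun a ha => ?_⟩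
  · obtain ⟨v, a1, a2⟩ := key' a ha
    obtain ⟨v', b1, b2⟩ := key' b hb
    exact ⟨v⁻¹ * v', mul_mem (inv_mem a1) b1, by rw [act_mul', b2, ← a2, act_inv_act]⟩
  · have e : Rn X.D 3 (X.D.cor a) ∩ RP X P = RP X fun t => 3 ∣ t ⬝ᵥ co C n a ∧ P t := by
      rw [cor_eq X h ha.1]
      exact Set.ext fun t => ⟨fun ht => ⟨ht.1.1, ht.1.2, ht.2.2⟩, fun ht => ⟨⟨ht.1, ht.2.1⟩, ht.1, ht.2.2⟩⟩
    rw [e, ncard_RP]
    exact forall_rt X (Q := fun a => P a → #{t : Fin C.nroots | 3 ∣ vec C n t ⬝ᵥ co C n a ∧ P (vec C n t)} ≠ N) h2 a ha.1 ha.2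

/-- membership in `A2` -/
def A2P (a b x : Fin n → ℤ) : Prop := x = a ∨ x = b ∨ x = a + b ∨ x = -a ∨ x = -b ∨ x = -(a + b)

instance A2P.dec (a b : Fin n → ℤ) : DecidablePred (A2P a b) := fun _ => by unfold A2P; infer_instance

omit [DecidablePred P] in
theorem diff_A2 (a b : Fin n → ℤ) : RP X P \ A2 X.D a b = RP X fun x => P x ∧ ¬ A2P a b x := Set.ext fun _ => and_assoc

/-- a component of type `A₂` : `a`, `b`, `a + b` have the indices `σ`; `v₁`, `v₂` cut out the two Levi subsystems; exactly the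
roots of `A₂` are orthogonal to at least `N` roots of the system -/
theorem spl_RP (h : SL C n) (hK : Kt X.D) (a b v₁ v₂ : Fin n → ℤ) (σ : Fin 3 → Fin C.nroots) (N : ℕ)
    (h1 : vec C n (σ 0) = a ∧ vec C n (σ 1) = b ∧ vec C n (σ 2) = a + b ∧ a ⬝ᵥ co C n b = -1 ∧ b ⬝ᵥ co C n a = -1)
    (h2 : ∀ s : Fin C.nroots, (A2P a b (vec C n s) → P (vec C n s)) ∧ (A2P a b (vec C n s) ↔ vec C n s ⬝ᵥ v₁ = 0) ∧
      (P (vec C n s) ∧ ¬ A2P a b (vec C n s) ↔ vec C n s ⬝ᵥ v₂ = 0))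
    (h3 : ∀ s : Fin C.nroots, A2P a b (vec C n s) → ∀ t : Fin C.nroots, P (vec C n t) ∧ ¬ A2P a b (vec C n t) →
      vec C n t ⬝ᵥ co C n (vec C n s) = 0)
    (h4 : ∀ s : Fin C.nroots, P (vec C n s) →
      (N ≤ #{t : Fin C.nroots | P (vec C n t) ∧ vec C n t ⬝ᵥ co C n (vec C n s) = 0} ↔ A2P a b (vec C n s))) :
    Spl X.D (RP X P) a b := by
  have ha : X.D.Rt a := h1.1 ▸ rt_vec X _
  have hb : X.D.Rt b := h1.2.1 ▸ rt_vec X _
  have hab : X.D.Rt (a + b : Fin n → ℤ) := h1.2.2.1 ▸ rt_vec X _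
  have h5 : ∀ x ∈ A2 X.D a b, X.D.Rt x := by
    rintro x (rfl | rfl | rfl | rfl | rfl | rfl)
    exacts [ha, hb, hab, ha.neg, hb.neg, hab.neg]
  have h6 : A2 X.D a b = RP X (A2P a b) := Set.ext fun x => ⟨fun hx => ⟨h5 x hx, hx⟩, fun hx => hx.2⟩
  have h7 : Lvs X.D (A2 X.D a b) := h6 ▸ lvs_RP X v₁ fun s => (h2 s).2.1
  have h8 : A2 X.D a b ⊆ RP X P := fun x hx =>
    ⟨h5 x hx, forall_rt X (Q := fun x => A2P a b x → P x) (fun s => (h2 s).1) x (h5 x hx) hx⟩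
  have h9 : ∀ c ∈ RP X P, N ≤ (RP X P ∩ {t | X.D.wt t ⬝ᵥ X.D.cor c = 0}).ncard ↔ c ∈ A2 X.D a b := fun c hc => by
    have e : RP X P ∩ {t | X.D.wt t ⬝ᵥ X.D.cor c = 0} = RP X fun t => P t ∧ t ⬝ᵥ co C n c = 0 := by
      rw [cor_eq X h hc.1]
      exact Set.ext fun _ => and_assoc
    rw [e, ncard_RP]
    exact forall_rt X (Q := fun c => P c → (N ≤ #{t : Fin C.nroots | P (vec C n t) ∧ vec C n t ⬝ᵥ co C n c = 0} ↔ A2P a b c))
      h4 c hc.1 hc.2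
  refine ⟨h8, cor_eq X h hb ▸ h1.2.2.2.1, cor_eq X h ha ▸ h1.2.2.2.2, h7, (diff_A2 X a b).symm ▸ lvs_RP X v₂ fun s => (h2 s).2.2,
    gds_lt hK h5 h7 ?_, fun c hc d hd e => not_btwn X h (h5 c hc) hd.1.1 ?_, fun w hw c hc => (h9 _ (hw c (h8 hc))).1 ?_⟩
  · refine lt_of_le_of_lt ?_ (show 1 + 1 + 1 + 1 + 1 + 1 < 72 by decide)
    unfold A2
    iterate 5 refine (Set.ncard_insert_le _ _).trans (Nat.succ_le_succ ?_)
    exact (Set.ncard_singleton _).le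
  · exact forall_rt X (Q := fun d => P d ∧ ¬ A2P a b d → d ⬝ᵥ co C n c = 0) (forall_rt X (Q := fun c => A2P a b c →
      ∀ t : Fin C.nroots, P (vec C n t) ∧ ¬ A2P a b (vec C n t) → vec C n t ⬝ᵥ co C n c = 0) h3 c (h5 c hc) hc) d hd.1.1
      ⟨hd.1.2, hd.2⟩
  · refine ((h9 c (h8 hc)).2 hc).trans (Set.ncard_le_ncard_of_injOn (X.D.act w) (fun t ht => ⟨hw t ht.1, ?_⟩)
      (act_inj w).injOn (fin_of_rt fun _ h => h.1.1))
    rw [Set.mem_ofPred_eq, X.D.cor_act w (h5 c hc), dot_Wm, act_inv_act]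
    exact ht.2

end Cfsg.Agent.KM.Tor
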