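import Cfsg.Agent.KM.Tor.Bad2
import Cfsg.Agent.DL.Dat.Base

/-!
# KM, `l = 3`: `boxTW` (helper2)
-/

set_option autoImplicit false
set_option linter.unusedSectionVars false

namespace Cfsg.Agent.KM.Tor

open Cfsg Cfsg.Agent.DL Cfsg.Agent.Nodes.Reps Matrix Subgroup Cfsg.Agent.Nodes.Coroot

namespace TW

variable {p : ℕ} [Fact p.Prime] {k : Type} [Field k] [CharP k p] {Y : Type} [Group Y] {N : Type} [Fintype N]
  [DecidableEq N] {ρ : Y →* GL N k} {F : MulAut Y} {G : Subgroup Y} [IsAlgClosed k] (X : Datum p ρ F G)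

/-- the pairing -/
noncomputable def pr (x y : X.I → ℤ) : ℤ := X.wt x ⬝ᵥ X.cor y

/-- conjugate under the reflections of `Φ`, compatibly with `w` -/
def Rl (w : X.W) (Φ : Set (X.I → ℤ)) (x y : X.I → ℤ) : Prop :=
  ∃ v ∈ closure (X.rf '' Φ), X.act v x = y ∧ X.act v (X.act w x) = X.act w y

variable {X} {w : X.W} {Φ Ψ : Set (X.I → ℤ)} {x y z : X.I → ℤ}

theorem a_neg (w : X.W) (x : X.I → ℤ) : X.act w (-x) = -X.act w x := map_neg _ _

theorem a_add (w : X.W) (x y : X.I → ℤ) : X.act w (x + y) = X.act w x + X.act w y := map_add _ _ _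

theorem a_sub (w : X.W) (x y : X.I → ℤ) : X.act w (x - y) = X.act w x - X.act w y := map_sub _ _ _

theorem a_smul (w : X.W) (c : ℤ) (x : X.I → ℤ) : X.act w (c • x) = c • X.act w x := map_smul _ _ _

theorem a_inv (w : X.W) (x : X.I → ℤ) : X.act w⁻¹ (X.act w x) = x := by rw [← CF.act_mul, inv_mul_cancel, CF.act_one]

theorem pr_add (x y z : X.I → ℤ) : pr X (x + y) z = pr X x z + pr X y z := by rw [pr, map_add, add_dotProduct]; rfl

theorem pr_neg (x z : X.I → ℤ) : pr X (-x) z = -pr X x z := by rw [pr, map_neg, neg_dotProduct]; rfl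

theorem pr_sub (x y z : X.I → ℤ) : pr X (x - y) z = pr X x z - pr X y z := by rw [pr, map_sub, sub_dotProduct]; rfl

theorem pr_smul (c : ℤ) (x z : X.I → ℤ) : pr X (c • x) z = c * pr X x z := by rw [pr, map_zsmul, smul_dotProduct]; rfl

theorem pr_self (h : X.Rt x) : pr X x x = 2 := (X.pair_cor h x).trans (cpr_self _ _ h)

theorem pr_act (w : X.W) (x : X.I → ℤ) (h : X.Rt y) : pr X (X.act w x) (X.act w y) = pr X x y :=
  ((X.pair_cor (h.act w) _).trans (cpr_rep _ _ w x h)).trans (X.pair_cor h x).symm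

theorem act_rf (h : X.Rt y) (x : X.I → ℤ) : X.act (X.rf y) x = x - pr X x y • y := by
  rw [X.act_rf h, ← X.pair_cor h x]; rfl

theorem bd (hS : Sl X) (hx : X.Rt x) (hy : X.Rt y) (h1 : x ≠ y) (h2 : x ≠ -y) : -1 ≤ pr X x y ∧ pr X x y ≤ 1 := by
  have h := Base.cpr_mul_lt hx hy h1 h2
  rw [← X.pair_cor hy, ← X.pair_cor hx] at h
  have h3 : pr X x y * pr X x y < 4 := h.trans_eq' (congrArg _ (hS y x hy hx))
  constructor <;> nlinarith

theorem Rl.symm (h : Rl X w Φ x y) : Rl X w Φ y x :=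
  let ⟨v, h1, h2, h3⟩ := h
  ⟨v⁻¹, inv_mem h1, h2 ▸ a_inv .., h3 ▸ a_inv ..⟩

theorem Rl.trans (h : Rl X w Φ x y) (h' : Rl X w Φ y z) : Rl X w Φ x z :=
  let ⟨v, h1, h2, h3⟩ := h
  let ⟨u, h4, h5, h6⟩ := h'
  ⟨u * v, mul_mem h4 h1, by rw [CF.act_mul, h2, h5], by rw [CF.act_mul, h3, h6]⟩

theorem Rl.neg (h : Rl X w Φ x y) : Rl X w Φ (-x) (-y) :=
  let ⟨v, h1, h2, h3⟩ := h
  ⟨v, h1, by rw [a_neg, h2], by rw [a_neg, a_neg, a_neg, h3]⟩

theorem ph_neg (h : x ∈ Ph X w Ψ) : -x ∈ Ph X w Ψ :=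
  ⟨⟨h.1.1.neg, by rw [a_neg, a_neg, ← neg_add, ← neg_add, h.1.2, neg_zero]⟩,
    fun b hb => (pr_neg x b).trans (neg_eq_zero.2 (h.2 b hb))⟩

theorem ln_trans (h : Ln X w x y) (h' : Ln X w y z) : Ln X w x z := by
  obtain ⟨i, rfl | rfl⟩ := h <;> obtain ⟨j, rfl | rfl⟩ := h' <;> refine ⟨j + i, ?_⟩ <;>
    simp only [pow_add, CF.act_mul, a_neg, neg_neg, true_or, or_true]

section

variable (hS : Sl X) (h3 : w ^ 3 = 1) (h0 : ∀ a ∈ Ψ, X.Rt a) (h1 : ∀ a ∈ Ψ, X.act w a ∈ Ψ)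

include h3 in
theorem www (x : X.I → ℤ) : X.act w (X.act w (X.act w x)) = x := by
  rw [← CF.act_mul, ← CF.act_mul, ← sq, ← pow_succ, h3, CF.act_one]

include h3 h0 h1 in
theorem ph_act (h : x ∈ Ph X w Ψ) : X.act w x ∈ Ph X w Ψ :=
  ⟨⟨h.1.1.act w, by rw [← a_add, ← a_add, h.1.2]; exact map_zero _⟩, fun b hb => by
    have h4 := pr_act w x (h0 _ (h1 _ (h1 b hb)))
    rw [www h3] at h4
    exact h4.trans (h.2 _ (h1 _ (h1 b hb)))⟩

include hS in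
theorem sum3 (hx : X.Rt x) (h : y ∈ Nz X w) : pr X x y + pr X x (X.act w y) + pr X x (X.act w (X.act w y)) = 0 := by
  have h4 := congrArg (pr X · x) h.2
  simp only [pr_add] at h4
  rw [pr, pr, pr, hS _ _ hx h.1, hS _ _ hx (h.1.act w), hS _ _ hx ((h.1.act w).act w)]
  exact h4.trans (by rw [pr, map_zero, zero_dotProduct])

include hS h3

theorem pr_w (h : x ∈ Nz X w) : pr X x (X.act w x) = -1 := by
  have h4 := sum3 hS h.1 h
  have h5 := pr_act w (X.act w (X.act w x)) h.1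
  rw [www h3] at h5
  have h6 : pr X x (X.act w (X.act w x)) = pr X (X.act w (X.act w x)) x := hS _ _ h.1 ((h.1.act w).act w)
  rw [pr_self h.1] at h4
  omega

include h0 h1

/-- the action of `rf b * rf (w b)` -/
theorem rl_of {b : X.I → ℤ} (hb : b ∈ Ph X w Ψ) (hx : X.Rt x)
    (e : y = x - pr X x (X.act w b) • X.act w b - (pr X x b + pr X x (X.act w b)) • b) : Rl X w (Ph X w Ψ) x y := by
  have h4 : ∀ z, X.act (X.rf b * X.rf (X.act w b)) z =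
      z - pr X z (X.act w b) • X.act w b - (pr X z b + pr X z (X.act w b)) • b := fun z => by
    have h5 : pr X (X.act w b) b = -1 := (hS _ _ (hb.1.1.act w) hb.1.1).trans (pr_w hS h3 hb.1)
    rw [CF.act_mul, act_rf (hb.1.1.act w), act_rf hb.1.1, pr_sub, pr_smul, h5, mul_neg_one, sub_neg_eq_add]
  refine ⟨_, mul_mem (subset_closure ⟨b, hb, rfl⟩) (subset_closure ⟨_, ph_act h3 h0 h1 hb, rfl⟩), (h4 x).trans e.symm, ?_⟩
  have h5 := pr_act w x (y := X.act w (X.act w b)) ((hb.1.1.act w).act w)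
  have h6 := sum3 hS hx hb.1
  rw [www h3] at h5
  rw [h4, e, a_sub, a_sub, a_smul, a_smul, h5, eq_neg_of_add_eq_zero_right h6, eq_neg_of_add_eq_zero_right hb.1.2,
    pr_act w x hb.1.1]
  module

theorem rl_pow (h : x ∈ Ph X w Ψ) (i : ℕ) : X.act (w ^ i) x ∈ Ph X w Ψ ∧ Rl X w (Ph X w Ψ) x (X.act (w ^ i) x) := by
  induction i with
  | zero => exact ⟨by rwa [pow_zero, CF.act_one], 1, one_mem _, by rw [pow_zero], by simp only [pow_zero, CF.act_one]⟩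
  | succ i ih =>
    rw [pow_succ', CF.act_mul]
    refine ⟨ph_act h3 h0 h1 ih.1, ih.2.trans (rl_of hS h3 h0 h1 ih.1 ih.1.1.1 ?_)⟩
    rw [pr_w hS h3 ih.1.1, pr_self ih.1.1.1]
    module

theorem rl_w (h : x ∈ Ph X w Ψ) : Rl X w (Ph X w Ψ) x (X.act w x) := by
  simpa only [pow_one] using (rl_pow hS h3 h0 h1 h 1).2

theorem rl_ln (h : x ∈ Ph X w Ψ) (h' : Ln X w x y) : Rl X w (Ph X w Ψ) x y ∨ Rl X w (Ph X w Ψ) x (-y) :=
  let ⟨i, e⟩ := h'
  e.imp (fun e => by rw [e]; exact (rl_pow hS h3 h0 h1 h i).2) fun e => by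
    rw [e, neg_neg]
    exact (rl_pow hS h3 h0 h1 h i).2

/-- the rule -/
theorem rule (hx : x ∈ Ph X w Ψ) (hy : y ∈ Ph X w Ψ) (e1 : pr X x y = 1) (e2 : pr X x (X.act w y) = -1) :
    Rl X w (Ph X w Ψ) x y := by
  have h4 : X.Rt (x - y) := by simpa only [act_rf hy.1.1, e1, one_smul] using hx.1.1.act (X.rf y)
  have hb : x - y ∈ Ph X w Ψ := ⟨⟨h4, by
      rw [a_sub, a_sub, eq_neg_of_add_eq_zero_right hx.1.2, eq_neg_of_add_eq_zero_right hy.1.2]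
      abel⟩, fun b hb => (pr_sub x y b).trans (sub_eq_zero.2 ((hx.2 b hb).trans (hy.2 b hb).symm))⟩
  have h5 : pr X x (x - y) = 1 := by
    rw [pr, hS _ _ hx.1.1 h4, ← pr, pr_sub, pr_self hx.1.1, pr, hS _ _ hy.1.1 hx.1.1, ← pr, e1]
    rfl
  have h6 : pr X x (X.act w (x - y)) = 0 := by
    rw [pr, hS _ (X.act w (x - y)) hx.1.1 (h4.act w), ← pr, a_sub, pr_sub, pr, pr, hS (X.act w x) _ (hx.1.1.act w) hx.1.1,
      hS (X.act w y) _ (hy.1.1.act w) hx.1.1, ← pr, ← pr, e2, pr_w hS h3 hx.1, sub_self]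
  refine rl_of hS h3 h0 h1 hb hx.1.1 ?_
  rw [h5, h6]
  module

theorem rule' (hx : x ∈ Ph X w Ψ) (hy : y ∈ Ph X w Ψ) (e1 : pr X x y = 1) (e2 : pr X x (X.act w y) = -1) :
    Rl X w (Ph X w Ψ) x y ∧ Rl X w (Ph X w Ψ) x (-x) := by
  have h4 := ph_act h3 h0 h1 hx
  have h5 := ph_act h3 h0 h1 h4
  have h6 := pr_act w (X.act w (X.act w x)) hy.1.1
  rw [www h3, e2] at h6
  have h7 := rule hS h3 h0 h1 hy (ph_neg h5) (by rw [pr, hS _ _ hy.1.1 h5.1.1.neg, ← pr, pr_neg, ← h6, neg_neg]) (by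
    rw [a_neg, www h3, pr, hS _ _ hy.1.1 hx.1.1.neg, ← pr, pr_neg, e1])
  exact ⟨rule hS h3 h0 h1 hx hy e1 e2, ((rule hS h3 h0 h1 hx hy e1 e2).trans h7).trans
    ((rl_w hS h3 h0 h1 hx).trans (rl_w hS h3 h0 h1 h4)).neg.symm⟩

/-- different lines which are not orthogonal -/
theorem step (hx : x ∈ Ph X w Ψ) (hy : y ∈ Ph X w Ψ) (hn : ¬ Ln X w x y) (h : pr X x y ≠ 0) :
    Rl X w (Ph X w Ψ) x y ∧ Rl X w (Ph X w Ψ) x (-x) := by
  have y1 := ph_act h3 h0 h1 hy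
  have y2 := ph_act h3 h0 h1 y1
  have b0 := bd hS hx.1.1 hy.1.1 (fun e => hn ⟨0, .inl (by rw [e, pow_zero, CF.act_one])⟩)
    fun e => hn ⟨0, .inr (by rw [e, pow_zero, CF.act_one, neg_neg])⟩
  have b1 := bd hS hx.1.1 y1.1.1 (fun e => hn ⟨2, .inl (by rw [e, sq, CF.act_mul, www h3])⟩)
    fun e => hn ⟨2, .inr (by rw [e, sq, CF.act_mul, a_neg, a_neg, www h3, neg_neg])⟩
  have b2 := bd hS hx.1.1 y2.1.1 (fun e => hn ⟨1, .inl (by rw [e, pow_one, www h3])⟩)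
    fun e => hn ⟨1, .inr (by rw [e, pow_one, a_neg, www h3, neg_neg])⟩
  have s := sum3 hS hx.1.1 hy.1
  have r1 := rl_w hS h3 h0 h1 hy
  have r2 := r1.trans (rl_w hS h3 h0 h1 y1)
  have k1 : ∀ z ∈ Ph X w Ψ, Rl X w (Ph X w Ψ) y z → pr X x z = 1 → pr X x (X.act w z) = -1 →
      Rl X w (Ph X w Ψ) x y ∧ Rl X w (Ph X w Ψ) x (-x) := fun z hz r e1 e2 =>
    (rule' hS h3 h0 h1 hx hz e1 e2).imp_left (·.trans r.symm)
  have k2 : ∀ z ∈ Ph X w Ψ, Rl X w (Ph X w Ψ) y z → pr X x z = -1 → pr X x (X.act w z) = 1 →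
      Rl X w (Ph X w Ψ) x y ∧ Rl X w (Ph X w Ψ) x (-x) := fun z hz r e1 e2 => by
    have n : ∀ u, X.Rt u → pr X x (-u) = -pr X x u := fun u hu => by
      rw [pr, X.cor_neg hu, dotProduct_neg]; rfl
    have h4 := rule' hS h3 h0 h1 hx (ph_neg hz) (by rw [n z hz.1.1, e1, neg_neg]) (by rw [a_neg, n _ (hz.1.1.act w), e2])
    have h5 := (h4.1.trans r.neg.symm).neg
    rw [neg_neg] at h5
    exact ⟨h4.2.trans h5, h4.2⟩
  have r0 := r1.trans r1.symm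
  have e3 := congrArg (pr X x) (www h3 y)
  rcases (by omega : pr X x y = 1 ∨ pr X x y = -1) with e | e
  · rcases (by omega : pr X x (X.act w y) = -1 ∨ pr X x (X.act w y) = 0) with e' | e'
    · exact k1 _ hy r0 e e'
    · exact k2 _ y2 r2 (by omega) (e3.trans e)
  · rcases (by omega : pr X x (X.act w y) = 1 ∨ pr X x (X.act w y) = 0) with e' | e'
    · exact k2 _ hy r0 e e'
    · exact k1 _ y2 r2 (by omega) (e3.trans e)

end

end TW

open TW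

theorem boxTW : BoxTW := by
  intro p _ k _ _ Y _ N _ _ ρ F G _ X w Ψ hS h3 h0 h1 a ha
  refine ⟨fun i => (rl_pow hS h3 h0 h1 ha i).2.symm, fun hc a' ha' hn => Rl.symm ?_⟩
  obtain ⟨b, hb, h4, h5⟩ := hc.2 a ha a' ha'
  have h6 : pr X b a' ≠ 0 := (hS _ _ hb.1.1 ha'.1.1).trans_ne h5
  by_cases h7 : Ln X w a b
  · have h8 := step hS h3 h0 h1 hb ha' (fun e => hn (ln_trans h7 e)) h6
    exact ((rl_ln hS h3 h0 h1 ha h7).elim id (·.trans h8.2.symm)).trans h8.1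
  · have h8 := step hS h3 h0 h1 ha hb h7 h4
    refine h8.1.trans ?_
    by_cases h9 : Ln X w b a'
    · refine (rl_ln hS h3 h0 h1 hb h9).elim id fun e => ((h8.1.symm.trans h8.2).trans h8.1.neg).trans ?_
      simpa only [neg_neg] using e.neg
    · exact (step hS h3 h0 h1 hb ha' h9 h6).1

end Cfsg.Agent.KM.Tor
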