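import Cfsg.Agent.KM.Tor.Wa
import Cfsg.Agent.KM.Tor.TW
import Cfsg.Agent.KM.Tor.K0
import Cfsg.Agent.KM.Tor.BT
import Cfsg.Agent.KM.Tor.BF

/-!
# KM, `l = 3` : the contradictions and the main theorem (helper13)

`Wa.y_comm`, `Wa.kill1`, `Wa.kill2`, `Wa.caseC`, `LC.conj`, `LN.conj`, `main3`.
-/

set_option autoImplicit false
set_option linter.unusedSectionVars false

namespace Cfsg.Agent.KM.Tor

open Cfsg Cfsg.Lie Cfsg.Agent.DL Cfsg.Agent.Nodes.Reps Cfsg.Agent.Nodes.BNOf Matrix Subgroup Cfsg.Agent.KM.Ht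
open Cfsg.Agent.TO.X.Cn (Pi1 cl exists_exp χ_exp χ_pow comm_exp exists_cl cl_add cl_smul)
open Cfsg.Agent.DL.CF (act_mul act_one)
open TW

variable {p : ℕ} [Fact p.Prime] {k : Type} [Field k] [CharP k p] {Y : Type} [Group Y] {N : Type} [Fintype N]
  [DecidableEq N] {ρ : Y →* GL N k} {F : MulAut Y} {G : Subgroup Y} [IsAlgClosed k] {X : Datum p ρ F G}

section conj

variable {g : Y} (hg : g ∈ G) (hN : g⁻¹ * F g ∈ X.NN)

theorem conj_Wm' : (X.conj hg hN).Wm = X.Wm := funext (TO.E6.conj_Wm X hg hN)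

theorem conj_cor : (X.conj hg hN).cor = X.cor := funext fun a => by
  unfold Datum.cor
  rw [conj_Wm']

theorem LC.conj (h : LC X) : LC (X.conj hg hN) := by
  refine ⟨?_, ?_, fun w Ψ h1 h2 => ?_⟩
  · unfold Sl
    rw [conj_cor]
    exact h.1
  · unfold L2
    rw [conj_cor]
    exact h.2.1
  · unfold Hk Nm at h2
    unfold Con Ph
    rw [conj_Wm'] at h2
    rw [conj_cor]
    exact h.2.2 w Ψ ⟨h1.cube, h1.ne, h1.cs, h1.st, h1.dj⟩ h2

theorem LN.conj (h : LN X) : LN (X.conj hg hN) := by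
  refine ⟨h.three, h.idx, conj_Wm' hg hN ▸ h.fix, fun w Ψ h1 h2 => ?_⟩
  rw [conj_Wm'] at h2
  refine (h.main w Ψ ⟨h1.cube, h1.ne, h1.cs, h1.st, h1.dj⟩ h2).imp (fun e => ?_) (And.imp_right fun e φ k1 k2 =>
    (e φ k1 k2).imp (fun e => ?_) fun e => ⟨?_, conj_Wm' hg hN ▸ e.cyc⟩)
  · unfold Con Ph
    rwa [conj_cor]
  · unfold Ph
    rwa [conj_cor]
  · unfold Nm
    rw [conj_Wm']
    exact e.sq

end conj

/-- orthogonal root groups commute -/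
theorem comm_of_orth (hS : Sl X) {a b : X.I → ℤ} (ha : X.Rt a) (hb : X.Rt b) (h : pr X a b = 0) {u v : Y} (hu : u ∈ X.X a)
    (hv : v ∈ X.X b) : u * v = v * u := by
  have h1 := pr_self hb
  refine commutatorElement_eq_one_iff_mul_comm.1 (mem_bot.1 ((RGD.Sup_le (K := ⊥) ?_)
    (X.comm ha hb (fun e => by rw [e] at h; omega) (fun e => by rw [e, pr_neg] at h; omega) hu hv)))
  rintro c ⟨hc, m, i, j, hm, hi, hj, e⟩
  have h2 := congrArg (pr X · a) e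
  have h3 := congrArg (pr X · b) e
  have h4 : pr X b a = 0 := (hS _ _ hb ha).trans h
  simp only [pr_add, pr_smul, pr_self ha, h1, h, h4, mul_zero, add_zero, zero_add] at h2 h3
  have h5 : c ≠ a := fun e => by rw [e, h] at h3; omega
  have h6 : c ≠ b := fun e => by rw [e, h4] at h2; omega
  have h7 := (bd hS hc ha h5 fun e => by rw [e, pr_neg, pr_self ha] at h2; nlinarith).2
  have h8 := (bd hS hc hb h6 fun e => by rw [e, pr_neg, h1] at h3; nlinarith).2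
  have h9 := congrArg (pr X · c) e
  simp only [pr_add, pr_smul, pr_self hc] at h9
  rw [show pr X a c = pr X c a from hS _ _ ha hc, show pr X b c = pr X c b from hS _ _ hb hc] at h9
  exfalso
  nlinarith

theorem comm_S (hS : Sl X) {Ψ : Set (X.I → ℤ)} (h0 : ∀ b ∈ Ψ, X.Rt b) {a : X.I → ℤ} (ha : X.Rt a)
    (h : ∀ b ∈ Ψ, X.wt a ⬝ᵥ X.cor b = 0) {s : Y} (hs : s ∈ X.S Ψ) (u : k) : s * X.x a u * s⁻¹ = X.x a u :=
  mul_inv_eq_iff_eq_mul.2 (mem_centralizer_singleton_iff.1 ((RGD.Sup_le fun b hb _ hv => mem_centralizer_singleton_iff.2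
    (comm_of_orth hS ha (h0 b hb) (h b hb) (X.x_mem ha u) hv).symm : X.S Ψ ≤ centralizer {X.x a u}) hs))

theorem cube_eq_one {w : X.W} {a : X.I → ℤ} (ha : a ∈ Nz X w) {t : Y} (h1 : X.χ (X.act w a) t = X.χ a t)
    (h2 : X.χ (X.act w (X.act w a)) t = X.χ (X.act w a) t) : X.χ a t ^ 3 = 1 := by
  rw [← X.χ_zero t, ← ha.2, X.χ_add, X.χ_add, h2, h1]
  ring

variable {H D A : Subgroup Y} {y : Y}

namespace Wa

variable {ω : D →* X.W} (W : Wa X D A ω) (h : Set3 F G H D y) {d : D} (h3 : ω d ^ 3 = 1)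
include W h h3

theorem ph_g {a : X.I → ℤ} (ha : a ∈ Ph X (ω d) (X.Sz A)) : X.g a ∈ Ph X (ω d) (X.Sz A) := by
  have h1 := ha.1.1
  refine ⟨⟨X.g_root a h1, X.ψ_injective ?_⟩, fun b hb => ?_⟩
  · rw [← W.g_act h d h1, ← W.g_act h d (h1.act _), map_add, map_add, X.ψ_g h1, X.ψ_g (h1.act _), X.ψ_g ((h1.act _).act _),
      X.ex_act _ (h1.act _), X.ex_act _ h1, ← smul_add, ← smul_add, ha.1.2, smul_zero, map_zero]
  · obtain ⟨c, hc, rfl⟩ := (X.g_bijOn X.Sz_root fun _ => W.gst h).surjOn hb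
    have h2 := congrArg (X.wt (X.g a) ⬝ᵥ ·) (X.Mx_cor hc.1)
    simp only [dotProduct_mulVec, X.wt_g h1, smul_dotProduct, dotProduct_smul, ha.2 c hc, smul_zero] at h2
    exact (smul_eq_zero.1 h2.symm).resolve_left (X.q_pos c).ne'

/-- **`y` centralises the subsystem subgroup** -/
theorem y_comm (hS : Sl X) {s : Y} (hs : s ∈ X.S (Ph X (ω d) (X.Sz A))) : s * y = y * s := by
  obtain ⟨c, hc, t, ht, e⟩ := (X.mem_TS X.Sz_root).1 (W.y_mem h)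
  obtain ⟨c', hc', m, hm, -, e'⟩ := W.rp d
  have h1 := fun a ha => ph_act h3 X.Sz_root (fun _ => W.st d) (x := a) ha
  have h2 : ∀ a ∈ Ph X (ω d) (X.Sz A), ∀ u, y * X.x a u * y⁻¹ = X.x a (X.χ a t * u) := fun a ha u => by
    rw [e, show c * t * X.x a u * (c * t)⁻¹ = c * (t * X.x a u * t⁻¹) * c⁻¹ by group, X.tor' ha.1.1 ht,
      comm_S hS X.Sz_root ha.1.1 ha.2 hc]
  have h4 : ∀ a ∈ Ph X (ω d) (X.Sz A), X.χ (X.act (ω d) a) t = X.χ a t := fun a ha => by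
    obtain ⟨κ, k0, k1⟩ := X.nact hm ha.1.1
    have k2 : ∀ u, (d : Y) * X.x a u * (d : Y)⁻¹ = X.x (X.act (ω d) a) (κ * u) := fun u => by
      rw [e', show c' * m * X.x a u * (c' * m)⁻¹ = c' * (m * X.x a u * m⁻¹) * c'⁻¹ by group, k1,
        comm_S hS X.Sz_root (h1 a ha).1.1 (h1 a ha).2 hc']
    have k3 := h2 _ (h1 a ha) (κ * 1)
    rw [← k2, show y * ((d : Y) * X.x a 1 * (d : Y)⁻¹) * y⁻¹ = (y * d) * X.x a 1 * (y * d)⁻¹ by group, ← h.loc.comm d d.2,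
      show (d : Y) * y * X.x a 1 * ((d : Y) * y)⁻¹ = d * (y * X.x a 1 * y⁻¹) * (d : Y)⁻¹ by group, h2 a ha, k2] at k3
    have k4 := X.x_inj _ (h1 a ha).1.1 k3
    rw [mul_one, mul_one, mul_comm] at k4
    exact (mul_right_cancel₀ k0 k4).symm
  refine mem_centralizer_singleton_iff.1 ((RGD.Sup_le fun a ha v hv => ?_ : X.S _ ≤ centralizer {y}) hs)
  obtain ⟨u, rfl⟩ := (X.mem_X a ha.1.1 v).1 hv
  have h5 : ∀ n : ℕ, y ^ n * X.x a 1 * (y ^ n)⁻¹ = X.x a (X.χ a t ^ n) := fun n => by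
    induction n with
    | zero => simp
    | succ n ih => rw [pow_succ', pow_succ', ← h2 a ha, ← ih]; group
  have h6 := h5 (orderOf y)
  rw [pow_orderOf_eq_one, one_mul, inv_one, mul_one] at h6
  have h7 := pow_gcd_eq_one.2 ⟨cube_eq_one ha.1 (h4 a ha) (h4 _ (h1 a ha)), (X.x_inj _ ha.1.1 h6).symm⟩
  rw [(Nat.prime_three.coprime_iff_not_dvd.2 h.loc.reg).gcd_eq_one, pow_one] at h7
  rw [mem_centralizer_singleton_iff, eq_comm, ← mul_inv_eq_iff_eq_mul, h2 a ha, h7, one_mul]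

variable (hNA : BoxNA) (hp : 3 ≠ p) (hL : LC X)
include hNA hp hL

theorem kill {a : X.I → ℤ} (ha : a ∈ Ph X (ω d) (X.Sz A)) {ε : ℤ} (hε : ε = 1 ∨ ε = -1) (h1 : 3 ∣ ε * (p : ℤ) ^ X.ex a - 1)
    (h2 : Rl X (ω d) (Ph X (ω d) (X.Sz A)) (ε • X.g a) a) : False := by
  obtain ⟨v, k1, k2, k3⟩ := h2
  have k4 := pr_w hL.1 h3 ha.1
  have k5 : ε * ε = 1 := by rcases hε with rfl | rfl <;> rfl
  obtain ⟨c, -, hc⟩ := hL.2.1 a _ ha.1.1 (ha.1.1.act _) k4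
  refine hc (hNA X H D y _ a _ v ε hp h (fun _ e => e.1.1) (fun _ => ph_neg) (fun _ => W.ph_g h h3)
    (fun _ => W.y_comm h h3 hL.1) ha (ph_act h3 X.Sz_root (fun _ => W.st d) ha) k4
    ((hL.1 _ _ (ha.1.1.act _) ha.1.1).trans k4) k1 hε h1 ?_ ?_ c)
  · simpa only [a_smul, smul_smul, k5, one_smul] using congrArg (ε • ·) k2
  · simpa only [a_smul, smul_smul, k5, one_smul, W.g_act h d ha.1.1] using congrArg (ε • ·) k3

variable (h1 : ω d ≠ 1)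
include h1

/-- **`F` does not fix a line** -/
theorem kill2 {a : X.I → ℤ} (ha : a ∈ Ph X (ω d) (X.Sz A)) (h2 : Ln X (ω d) a (X.g a)) : False := by
  obtain ⟨t, ht, k1⟩ : ∃ t ∈ A, X.χ a t ≠ 1 := by
    by_contra e
    push Not at e
    exact (W.ad3 h3 h1).dj a ⟨ha.1.1, e⟩ ha.1
  have k2 := cube_eq_one ha.1 (W.chi d a ht) (W.chi d _ ht)
  have k3 := X.χ_F ha.1.1 (W.leT ht)
  rw [h.fix (W.le ht)] at k3
  have : Fact (Nat.Prime 3) := ⟨Nat.prime_three⟩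
  have k4 := orderOf_eq_prime k2 k1
  obtain ⟨i, e⟩ := h2
  have k5 := W.chi (d ^ i) a ht
  have k6 := (rl_pow hL.1 h3 X.Sz_root (fun _ => W.st d) ha i).2.symm
  rw [map_pow] at k5
  rcases e with e | e
  · refine W.kill h h3 hNA hp hL ha (.inl rfl) ?_ (by rwa [one_smul, e])
    rw [e, k5, ← Nat.sub_add_cancel (pow_pos (Fact.out : p.Prime).pos _), pow_succ,
      right_eq_mul₀ (X.χ_ne_zero a t), ← orderOf_dvd_iff_pow_eq_one, k4] at k3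
    have k7 := Int.natCast_dvd_natCast.2 k3
    rw [Nat.cast_sub (pow_pos (Fact.out : p.Prime).pos _)] at k7
    push_cast at k7
    omega
  · refine W.kill h h3 hNA hp hL ha (.inr rfl) ?_ (by rwa [e, neg_one_smul, neg_neg])
    rw [e, X.χ_neg, k5, eq_comm, ← mul_eq_one_iff_eq_inv₀ (X.χ_ne_zero a t), ← pow_succ, ← orderOf_dvd_iff_pow_eq_one,
      k4] at k3
    have k7 := Int.natCast_dvd_natCast.2 k3
    push_cast at k7
    omega

/-- **`Ph` is not connected** -/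
theorem kill1 (hc : Con X (Ph X (ω d) (X.Sz A))) : False := by
  obtain ⟨a, ha⟩ := hc.1
  have k1 : ¬ (3 : ℤ) ∣ (p : ℤ) ^ X.ex a := fun e => hp ((Nat.prime_dvd_prime_iff_eq Nat.prime_three Fact.out).1
    (Int.natCast_dvd_natCast.1 (Int.prime_three.dvd_of_dvd_pow e)))
  have k2 := (boxTW X _ _ hL.1 h3 X.Sz_root (fun _ => W.st d) a ha).2 hc
  have k3 := W.ph_g h h3 ha
  have k4 := W.kill2 h h3 hNA hp hL h1 ha
  rcases (by omega : 3 ∣ 1 * (p : ℤ) ^ X.ex a - 1 ∨ 3 ∣ -1 * (p : ℤ) ^ X.ex a - 1) with e | e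
  · exact W.kill h h3 hNA hp hL ha (.inl rfl) e (by rw [one_smul]; exact k2 _ k3 k4)
  · refine W.kill h h3 hNA hp hL ha (.inr rfl) e (by
      rw [neg_one_smul]
      exact k2 _ (ph_neg k3) fun ⟨i, e⟩ => k4 ⟨i, e.symm.imp neg_inj.1 neg_eq_iff_eq_neg.1⟩)

/-- **`ω d` moves some exponent by an element outside the coroot lattice** -/
theorem caseC (hC : ∀ (u μ : X.R → ℤ) (ζ : kˣ), X.τ (coch u ζ) ∈ A → X.Wm (ω d) *ᵥ u = u + (orderOf ζ : ℤ) • μ →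
    Nm X (ω d) μ = 0 → ∃ f : ℤ, ¬ 3 ∣ f ∧ InQ X (f • μ)) : False := by
  refine W.kill1 h h3 hNA hp hL h1 (hL.2.2 _ _ (W.ad3 h3 h1) fun a ha => ?_)
  obtain ⟨t, ht, k1⟩ : ∃ t ∈ A, X.χ a t ≠ 1 := by
    by_contra e
    push Not at e
    exact (W.ad3 h3 h1).dj a ⟨ha.1, e⟩ ha
  obtain ⟨ζ, u, k2, -, rfl⟩ := exists_exp X (W.leT ht)
  obtain ⟨-, -, m, hm, hc, -⟩ := W.rp d
  choose μ hμ using comm_exp X hm (centralizer_le (Set.singleton_subset_iff.2 ht) hc)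
  have k3 : X.Wm (ω d) *ᵥ u = u + (orderOf ζ : ℤ) • μ := funext fun j => eq_add_of_sub_eq' (hμ j)
  have k4 : Nm X (ω d) μ = 0 := by
    have e : X.Wm (ω d) *ᵥ X.Wm (ω d) *ᵥ X.Wm (ω d) *ᵥ u = u := by
      rw [mulVec_mulVec, mulVec_mulVec, ← X.Wm_mul, ← X.Wm_mul, ← sq, ← pow_succ, h3, X.Wm_one, one_mulVec]
    simp only [k3, mulVec_add, mulVec_smul] at e
    refine (smul_eq_zero.1 (?_ : (orderOf ζ : ℤ) • Nm X (ω d) μ = 0)).resolve_left (Int.natCast_pos.2 k2).ne'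
    rw [Nm, smul_add, smul_add]
    linear_combination e
  obtain ⟨f, k5, k6⟩ := hC u μ ζ ht k3 k4
  refine ⟨_, k6, ?_, fun e => k1 ((χ_exp X a u ζ).2 ?_)⟩
  · simpa only [Nm, mulVec_smul, smul_add, smul_zero] using congrArg (f • ·) k4
  rw [dotProduct_smul, smul_eq_mul] at e
  obtain ⟨c, e⟩ := (Int.prime_three.dvd_or_dvd e).resolve_left k5
  have k7 := fun b => congrArg (X.wt b ⬝ᵥ ·) k3
  simp only [dot_Wm, dotProduct_add, dotProduct_smul, smul_eq_mul] at k7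
  have k8 := k7 (X.act (ω d) a)
  have k9 := k7 (X.act (ω d) (X.act (ω d) (X.act (ω d) a)))
  have k10 := congrArg (X.wt · ⬝ᵥ u) ha.2
  rw [act_inv_act] at k8 k9
  rw [www h3] at k9
  simp only [map_add, map_sub, add_dotProduct, sub_dotProduct, map_zero, zero_dotProduct] at k10 e
  refine ⟨c, mul_left_cancel₀ three_ne_zero ?_⟩
  linear_combination k8 - k9 + k10 + (orderOf ζ : ℤ) * e

end Wa

theorem inQ_of_pi1 {f : ℕ} (h : Pi1 X f) {w : X.W} {μ : X.R → ℤ} (h1 : Nm X w μ = 0) : InQ X ((f : ℤ) • μ) := by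
  obtain ⟨β, hβ⟩ := exists_cl X μ w
  obtain ⟨γ, hγ⟩ := exists_cl X (X.Wm w *ᵥ μ) w
  refine h μ 3 ((-1 : ℤ) • (β + (β + γ))) three_ne_zero ?_
  rw [Nm, hγ, hβ] at h1
  rw [cl_smul, cl_add, cl_add]
  linear_combination h1

/-- abelian `3`-subgroups with local data are toral -/
theorem toral3 (hNA : BoxNA) (hp : 3 ≠ p) {f : ℕ} (h1 : Pi1 X f) (hf : ¬ 3 ∣ f) (hL : LC X) (h : Set3 F G H D y) :
    ∃ (g : Y) (hg : g ∈ G) (hN : g⁻¹ * F g ∈ X.NN), D ≤ (X.conj hg hN).T :=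
  (exists_wa hp h (fun X => Pi1 X f ∧ LC X) (fun _ _ hy hN e => ⟨e.1.conj hy hN, e.2.conj hy hN⟩) ⟨h1, hL⟩).resolve_right
    fun ⟨_, _, _, e, W, hn⟩ =>
      let ⟨_, h3, h4⟩ := W.exists_three h hn
      W.caseC h h3 hNA hp e.2 h4 fun _ _ _ _ _ e' => ⟨f, fun e => hf (Int.natCast_dvd_natCast.1 e), inQ_of_pi1 e.1 e'⟩

section Blk

variable {K : Type} [Group K] [Finite K] {j : K →* Y} {M : Ideal AlgInt} {B : Set (IrrCharacter K)} {D : Subgroup K}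

theorem inj_of (hD : IsPGroup 3 D) (h : ¬ 3 ∣ Nat.card j.ker) {d : K} (hd : d ∈ D) (e : j d = 1) : d = 1 := by
  obtain ⟨i, hi⟩ := hD ⟨d, hd⟩
  exact orderOf_eq_one_iff.1 (Nat.eq_one_of_dvd_coprimes ((Nat.prime_three.coprime_iff_not_dvd.2 h).pow_left i)
    (orderOf_dvd_of_pow_eq_one (congrArg Subtype.val hi)) (orderOf_dvd_natCard j.ker e))

/-- the setting for a block -/
theorem exists_set3 (hM : IsPModular 3 M) (hB : IsPBlock M B) (hD : IsDefectGroup 3 M B D) (hA : IsMulCommutative D)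
    (h1 : ∀ x, j x ∈ GF F G) (h2 : ∀ a ∈ GF F G, ∀ b ∈ GF F G, a * b * a⁻¹ * b⁻¹ ∈ j.range) (h3 : j.ker ≤ center K)
    (h4 : ¬ 3 ∣ Nat.card j.ker) : ∃ y, Set3 F G j.range (D.map j) y :=
  have : Fact (Nat.Prime 3) := ⟨Nat.prime_three⟩
  (boxLoc 3 K Y j.range j M B D hM hB hD (fun x => ⟨x, rfl⟩) h3 h4 fun _ e _ => e).imp fun _ e =>
    ⟨e, fun _ ⟨a, ha, e⟩ _ ⟨b, hb, e'⟩ => e ▸ e' ▸ by
      rw [← map_mul, ← map_mul]
      exact congrArg (fun x : D => j x) (hA.is_comm.comm ⟨a, ha⟩ ⟨b, hb⟩), fun _ ⟨x, e⟩ => e ▸ h1 x, h2⟩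

/-- **`E₇`, `E₈` at `l = 3`** -/
theorem main3 (hNA : BoxNA) (hp : 3 ≠ p) {f : ℕ} (k1 : Pi1 X f) (hf : ¬ 3 ∣ f) (hL : LC X) (hZ : ZCs X 3) (hK : Kt X)
    (hM : IsPModular 3 M) (hB : IsPBlock M B) (hD : IsDefectGroup 3 M B D) (hA : IsMulCommutative D)
    (h1 : ∀ x, j x ∈ GF F G) (h2 : ∀ a ∈ GF F G, ∀ b ∈ GF F G, a * b * a⁻¹ * b⁻¹ ∈ j.range) (h3 : j.ker ≤ center K)
    (h4 : ¬ 3 ∣ Nat.card j.ker) (h5 : 3 ^ 3 ∣ Nat.card D) : Toral X (D.map j) ∨ BK.HZ 3 B := by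
  obtain ⟨y, h⟩ := exists_set3 hM hB hD hA h1 h2 h3 h4
  obtain ⟨g, hg, hN, e⟩ := toral3 hNA hp k1 hf hL h
  have : Fact (Nat.Prime 3) := ⟨Nat.prime_three⟩
  have h6 := fun d hd => inj_of (j := j) (H592.Defect.isPGroup_of_isDefectGroup hD) h4 (d := d) hd
  rcases boxT (X.conj hg hN) _ hp hZ hK (h.fin X).to_subtype e h.el with e | e | e
  · exact .inl ⟨g, hg, hN, e⟩
  · have h7 : Nat.card D = Nat.card (D.map j) := Nat.card_congr (Equiv.ofBijective (j.subgroupMap D)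
      ⟨(injective_iff_map_eq_one _).2 fun d e => Subtype.ext (h6 d d.2 (congrArg Subtype.val e)), j.subgroupMap_surjective D⟩)
    have h8 := Nat.le_of_dvd Nat.card_pos h5
    omega
  · exact .inr (boxFlag K Y G j M B D hM hB hD hA (fun x => (h1 x).1) h6 (.inl e))

end Blk

end Cfsg.Agent.KM.Tor
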