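import Cfsg.Agent.KM.Ht.Z
import Cfsg.Agent.TO.X.Conn
import Cfsg.Agent.TO.E6.Tool
import Cfsg.Agent.SB.Exc.Max.Frame

/-!
# KM, toral subgroups: the generic lemma (helper13)

`Lev X l` : every `l`-element `t` of the torus lies in `Z0 X {t}` (lattice form).  If `l` is also prime to the torsion of
the fundamental group then the abelian `l`-subgroups are toral and have connected centralisers.
-/

set_option autoImplicit false
set_option linter.unusedSectionVars false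

namespace Cfsg.Agent.KM.Tor

open Cfsg Cfsg.Agent.DL Cfsg.Agent.Nodes.Reps Cfsg.Agent.Nodes.BNOf Matrix Subgroup Cfsg.Agent.KM.Ht
open Cfsg.Agent.TO.X.Cn (Pi1 exists_exp χ_exp χ_pow mem_cen)

variable {p : ℕ} [Fact p.Prime] {k : Type} [Field k] [CharP k p] {Y : Type} [Group Y] {N : Type} [Fintype N]
  [DecidableEq N] {ρ : Y →* GL N k} {F : MulAut Y} {G : Subgroup Y} [IsAlgClosed k] (X : Datum p ρ F G)

/-- the element with the exponent `u` modulo `n` lies in the connected centre of its centraliser -/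
def Lv (n : ℤ) (u : X.R → ℤ) : Prop :=
  ∃ c : ℤ, IsCoprime c n ∧ ∃ v, ∀ a, X.Rt a → n ∣ X.wt a ⬝ᵥ u → X.wt a ⬝ᵥ (c • u + n • v) = 0

/-- all `l`-elements of the torus are of Levi type -/
def Lev (l : ℕ) : Prop := ∀ (j : ℕ) (u : X.R → ℤ), Lv X ((l : ℤ) ^ j) u

/-- the roots which are trivial on `Z` are the roots orthogonal to a cocharacter -/
def QC (Z : Set Y) : Prop := ∃ v : X.R → ℤ, ∀ a, X.Rt a → (a ∈ X.Sz Z ↔ X.wt a ⬝ᵥ v = 0)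

/-- the centraliser of `Z` is connected -/
def CC (Z : Set Y) : Prop := ∀ y ∈ G, y ∈ centralizer Z → y ∈ X.cen Z

/-- a set of `l`-elements -/
def El (l : ℕ) (Z : Set Y) : Prop := ∀ z ∈ Z, ∃ j : ℕ, z ^ l ^ j = 1

variable {X}

theorem Lev.conj {l : ℕ} (h : Lev X l) {y : Y} (hy : y ∈ G) (hF : y⁻¹ * F y ∈ X.NN) : Lev (X.conj hy hF) l := h

theorem Z0_mono {A B : Set Y} (h : X.Sz B ⊆ X.Sz A) : Z0 X A ≤ Z0 X B :=
  closure_mono fun _ ⟨v, a, h1, h2⟩ => ⟨v, a, fun b hb => h1 b (h hb), h2⟩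

theorem Sz_anti {A B : Set Y} (h : A ⊆ B) : X.Sz B ⊆ X.Sz A := fun _ ha => ⟨ha.1, fun z hz => ha.2 z (h hz)⟩

theorem cen_congr {A B : Set Y} (h : X.Sz A = X.Sz B) : X.cen A = X.cen B := by rw [Datum.cen, h, Datum.cen]

theorem Lv.mem_Z0 {u : X.R → ℤ} {ζ : kˣ} (h : Lv X (orderOf ζ) u) : X.τ (coch u ζ) ∈ Z0 X {X.τ (coch u ζ)} := by
  obtain ⟨c, ⟨a, b, hc⟩, v, h1⟩ := h
  have h2 : coch u ζ = coch (c • u + (orderOf ζ : ℤ) • v) (ζ ^ a) := funext fun i => by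
    rw [coch_apply, coch_apply, ← _root_.zpow_mul, ← mul_inv_eq_one, ← _root_.zpow_sub, ← orderOf_dvd_iff_zpow_eq_one]
    refine ⟨b * u i - a * v i, ?_⟩
    simp only [Pi.add_apply, Pi.smul_apply, smul_eq_mul]
    linear_combination (-u i) * hc
  nth_rw 2 [h2]
  exact Ht.mem_Z0 (X := X) (A := {X.τ (coch u ζ)}) (fun x hx => h1 x hx.1 ((χ_exp X x u ζ).1 (hx.2 _ rfl))) (ζ ^ a)

theorem Lev.mem_Z0 {l : ℕ} (hl : l.Prime) (h : Lev X l) {t : Y} (ht : t ∈ X.T) {j : ℕ} (h1 : t ^ l ^ j = 1) :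
    t ∈ Z0 X {t} := by
  obtain ⟨ζ, u, -, h2, rfl⟩ := exists_exp X ht
  obtain ⟨i, -, hi⟩ := (Nat.dvd_prime_pow hl).1 (h2.trans (orderOf_dvd_of_pow_eq_one h1))
  exact Lv.mem_Z0 (by rw [hi, Nat.cast_pow]; exact h i u)

theorem exists_avoid {R : Type} [Fintype R] {P : Set (R → ℤ)} (s : Finset (R → ℤ))
    (h : ∀ a ∈ s, ∃ v, (∀ b ∈ P, b ⬝ᵥ v = 0) ∧ a ⬝ᵥ v ≠ 0) : ∃ v, (∀ b ∈ P, b ⬝ᵥ v = 0) ∧ ∀ a ∈ s, a ⬝ᵥ v ≠ 0 := by
  classical
  induction s using Finset.induction_on with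
  | empty => exact ⟨0, fun b _ => dotProduct_zero b, fun _ h => absurd h (Finset.notMem_empty _)⟩
  | insert f s _ ih =>
    obtain ⟨v, h1, h2⟩ := ih fun a ha => h a (Finset.mem_insert_of_mem ha)
    obtain ⟨w, h3, h4⟩ := h f (Finset.mem_insert_self _ _)
    obtain ⟨n, hn⟩ : ∃ n : ℤ, ∀ a ∈ insert f s, |a ⬝ᵥ w| < n := ⟨1 + ∑ a ∈ insert f s, |a ⬝ᵥ w|, fun a ha => by
      have := Finset.single_le_sum (f := fun a => |a ⬝ᵥ w|) (fun _ _ => abs_nonneg _) ha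
      omega⟩
    refine ⟨n • v + w, fun b hb => by rw [dotProduct_add, dotProduct_smul, h1 b hb, h3 b hb, smul_zero, add_zero],
      fun a ha h0 => ?_⟩
    rw [dotProduct_add, dotProduct_smul, smul_eq_mul] at h0
    have h5 := abs_lt.1 (hn a ha)
    have h6 : a ⬝ᵥ v = 0 := by
      rcases lt_trichotomy (a ⬝ᵥ v) 0 with h | h | h
      · nlinarith
      · exact h
      · nlinarith
    rcases Finset.mem_insert.1 ha with rfl | h7
    · exact h4 (by rwa [h6, mul_zero, zero_add] at h0)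
    · exact h2 a h7 h6

theorem χ_Z0 {A : Set Y} {a : X.I → ℤ} (h : ∀ v, (∀ b ∈ X.Sz A, X.wt b ⬝ᵥ v = 0) → X.wt a ⬝ᵥ v = 0) {z : Y}
    (hz : z ∈ Z0 X A) : X.χ a z = 1 := by
  induction hz using closure_induction with
  | mem z hz =>
    obtain ⟨v, c, h1, rfl⟩ := hz
    rw [X.χ_τ, chr_coch, show ∑ j, X.wt a j * v j = 0 from h v h1, zpow_zero, Units.val_one]
  | one => exact X.χ_one a
  | mul x y hx hy h1 h2 => rw [X.χ_mul a (Z0_le_T X A hx) (Z0_le_T X A hy), h1, h2, mul_one]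
  | inv x hx h1 => rw [X.χ_inv a (Z0_le_T X A hx), h1, inv_one]

theorem exists_prim (p : ℕ) [Fact p.Prime] (k : Type) [Field k] [CharP k p] [IsAlgClosed k] {n : ℕ} (hn : ¬ p ∣ n) :
    ∃ ζ : kˣ, orderOf ζ = n := by
  have h0 : n ≠ 0 := fun h => hn (h ▸ dvd_zero p)
  have : NeZero (n : k) := ⟨fun h => hn ((CharP.cast_eq_zero_iff k p _).1 h)⟩
  obtain ⟨ζ, h⟩ := HasEnoughRootsOfUnity.exists_primitiveRoot k n
  exact ⟨(h.isUnit h0).unit, (h.isUnit_unit h0).eq_orderOf.symm⟩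

theorem dot_eq_zero {A : Set Y} {a : X.I → ℤ} (ha : a ∈ X.Sz (Z0 X A)) {v : X.R → ℤ}
    (h : ∀ b ∈ X.Sz A, X.wt b ⬝ᵥ v = 0) : X.wt a ⬝ᵥ v = 0 := by
  obtain ⟨ζ, hζ⟩ := exists_prim p k (n := p * (X.wt a ⬝ᵥ v).natAbs + 1) fun h1 =>
    (Fact.out : p.Prime).one_lt.ne' (Nat.dvd_one.1 ((Nat.dvd_add_right (dvd_mul_right _ _)).1 h1))
  have h1 := (χ_exp X a v ζ).1 (ha.2 _ (Ht.mem_Z0 h ζ))
  rw [hζ, Int.natCast_dvd] at h1
  refine Int.natAbs_eq_zero.1 (Nat.eq_zero_of_dvd_of_lt h1 (Nat.lt_succ_of_le ?_))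
  exact Nat.le_mul_of_pos_left _ (Fact.out : p.Prime).pos

/-- a generic cocharacter of `Z0` -/
theorem exists_gen (A : Set Y) : ∃ v : X.R → ℤ, (∀ b ∈ X.Sz A, X.wt b ⬝ᵥ v = 0) ∧
    ∀ a, X.Rt a → (a ∈ X.Sz (Z0 X A) ↔ X.wt a ⬝ᵥ v = 0) := by
  classical
  obtain ⟨v, h1, h2⟩ := exists_avoid (P := X.wt '' X.Sz A)
    ((X.finite_roots.toFinset.filter fun a => a ∉ X.Sz (Z0 X A)).image X.wt) fun b hb => by
      obtain ⟨a, ha, rfl⟩ := Finset.mem_image.1 hb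
      obtain ⟨h3, h4⟩ := Finset.mem_filter.1 ha
      by_contra h5
      push Not at h5
      exact h4 ⟨X.finite_roots.mem_toFinset.1 h3, fun z hz =>
        χ_Z0 (fun v hv => h5 v fun _ ⟨c, hc, e⟩ => e ▸ hv c hc) hz⟩
  have h3 : ∀ b ∈ X.Sz A, X.wt b ⬝ᵥ v = 0 := fun b hb => h1 _ ⟨b, hb, rfl⟩
  exact ⟨v, h3, fun a ha => ⟨fun h => dot_eq_zero h h3, fun h => by_contra fun h4 => h2 _ (Finset.mem_image_of_mem _
    (Finset.mem_filter.2 ⟨X.finite_roots.mem_toFinset.2 ha, h4⟩)) h⟩⟩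

theorem qc_of_le {Z : Set Y} (h : Z ⊆ Z0 X Z) : QC X Z :=
  let ⟨v, _, h2⟩ := exists_gen (X := X) Z
  ⟨v, fun a ha => ⟨fun h3 => (h2 a ha).1 (Sz_le_Z0 X Z h3), fun h3 => Sz_anti h ((h2 a ha).2 h3)⟩⟩

theorem not_dvd_ord {l : ℕ} (hl : l.Prime) (h : l ≠ p) {z : Y} {j : ℕ} (hz : z ^ l ^ j = 1) : ¬ p ∣ orderOf z := fun e =>
  h ((Nat.prime_dvd_prime_iff_eq Fact.out hl).1
    ((Fact.out : p.Prime).dvd_of_dvd_pow (e.trans (orderOf_dvd_of_pow_eq_one hz)))).symm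

/-- **one element for `t` and `Z`** -/
theorem exists_one {l : ℕ} (hl : l.Prime) (hp : l ≠ p) {Z : Set Y} (h : QC X Z) {t : Y} (ht : t ∈ X.T) {j : ℕ}
    (h1 : t ^ l ^ j = 1) : ∃ s ∈ Z0 X Z, (∃ i : ℕ, (t * s) ^ l ^ i = 1) ∧ X.Sz {t * s} = X.Sz (insert t Z) := by
  classical
  obtain ⟨v, hv⟩ := h
  obtain ⟨i, hi⟩ : ∃ i : ℕ, ∀ a, X.Rt a → (X.wt a ⬝ᵥ v).natAbs < l ^ i :=
    ⟨∑ a ∈ X.finite_roots.toFinset, (X.wt a ⬝ᵥ v).natAbs, fun a ha => lt_of_le_of_lt (Finset.single_le_sum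
      (f := fun a => (X.wt a ⬝ᵥ v).natAbs) (fun _ _ => Nat.zero_le _) (X.finite_roots.mem_toFinset.2 ha))
      (Nat.lt_pow_self hl.one_lt)⟩
  obtain ⟨ζ, hζ⟩ := exists_prim p k (n := l ^ j * l ^ i) fun h => by
    rw [← pow_add] at h
    exact hp ((Nat.prime_dvd_prime_iff_eq Fact.out hl).1 ((Fact.out : p.Prime).dvd_of_dvd_pow h)).symm
  have h2 := X.τ_mem (coch v ζ)
  have h3 : ∀ n : ℕ, (t * X.τ (coch v ζ)) ^ n = t ^ n * X.τ (coch v ζ) ^ n := fun n =>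
    (show Commute t _ from X.T_comm ht h2).mul_pow n
  refine ⟨_, Ht.mem_Z0 (fun b hb => (hv b hb.1).1 hb) ζ, ⟨j + i, ?_⟩, Set.ext fun a => and_congr_right fun ha => ?_⟩
  · rw [h3, pow_add, pow_mul, h1, one_pow, one_mul, ← map_pow, ← map_pow, ← hζ, pow_orderOf_eq_one, map_one, map_one]
  simp only [Set.mem_singleton_iff, Set.mem_insert_iff, forall_eq, forall_eq_or_imp]
  constructor
  · intro h4
    have h5 := χ_pow X a (mul_mem ht h2) (l ^ j)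
    rw [h4, one_pow, h3, h1, one_mul, ← map_pow, ← map_pow, ← zpow_natCast, ← coch_zsmul, χ_exp, hζ, dotProduct_smul,
      smul_eq_mul, Nat.cast_mul, mul_dvd_mul_iff_left (Int.natCast_ne_zero.2 (pow_ne_zero j hl.ne_zero)),
      Int.natCast_dvd] at h5
    have h6 := Int.natAbs_eq_zero.1 (Nat.eq_zero_of_dvd_of_lt h5 (hi a ha))
    rw [X.χ_mul a ht h2, (χ_exp X a v ζ).2 (h6 ▸ dvd_zero _), mul_one] at h4
    exact ⟨h4, ((hv a ha).2 h6).2⟩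
  · rintro ⟨h4, h5⟩
    rw [X.χ_mul a ht h2, h4, one_mul, χ_exp, (hv a ha).1 ⟨ha, h5⟩]
    exact dvd_zero _

theorem CC.insert {f l : ℕ} (h : Pi1 X f) (hf : l.Coprime f) {Z : Set Y} (hc : CC X Z) {t s : Y} (ht : t ∈ X.T)
    (hs : s ∈ Z0 X Z) {i : ℕ} (h1 : (t * s) ^ l ^ i = 1) (h2 : X.Sz {t * s} = X.Sz (insert t Z)) : CC X (insert t Z) := by
  intro y hy h3
  rw [← cen_congr h2]
  refine mem_cen h (mul_mem ht (Z0_le_T X Z hs)) h1 (hf.pow_left i) hy ?_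
  rw [← mul_assoc, ← h3 t (Set.mem_insert _ _), mul_assoc,
    cen_comm_Z0 X Z (hc y hy fun z hz => h3 z (Set.mem_insert_of_mem _ hz)) hs, mul_assoc]

theorem qc_empty : QC X ∅ := ⟨0, fun _ ha => iff_of_true ⟨ha, fun _ h => h.elim⟩ (dotProduct_zero _)⟩

theorem cc_empty : CC X ∅ := fun y hy _ => by
  have h1 : G ≤ X.cen ∅ := by
    refine X.G_eq.ge.trans ?_
    rw [Nodes.Bruhat.GG]
    exact sup_le (X.T_le_cen _) ((RGD.Sup_mono (S' := X.Sz ∅) fun a ha => ⟨ha, fun _ h => h.elim⟩).trans (X.S_le_cen _))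
  exact h1 hy

/-- semisimple elements of a connected centraliser are toral in it -/
theorem toral_cen {Z : Set Y} (hZ : Z ⊆ X.T) (hf : Z.Finite) {y : Y} (hy : y ∈ X.cen Z) (h : ¬ p ∣ orderOf y) :
    ∃ g ∈ X.cen Z, g⁻¹ * y * g ∈ X.T := by
  have := hf.to_subtype
  obtain ⟨m, hm, h1⟩ := X.amb.exists_pow_fix fun o : Option Z => o.elim y Subtype.val
  obtain ⟨g, h2, -, h3⟩ := TO.E6.exists_frame_cen (X.pow hm) (Z := Z) hZ
    (fun z hz => by rw [show (F ^ m) z = z from h1 (some ⟨z, hz⟩)]; exact hz) hy (h1 none) h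
  exact ⟨g, h2, h3⟩

section good

variable {f l : ℕ} (h : Pi1 X f) (hl : l.Prime) (hp : l ≠ p) (hf : l.Coprime f) (hL : Lev X l)

include hl hL in
theorem Lev.le_Z0 {Z : Set Y} (hZ : Z ⊆ X.T) (he : El l Z) : Z ⊆ Z0 X Z := fun z hz =>
  let ⟨_, hj⟩ := he z hz
  Z0_mono (Sz_anti (Set.singleton_subset_iff.2 hz)) (hL.mem_Z0 hl (hZ hz) hj)

include h hl hp hf hL

/-- **connected centralisers** -/
theorem cc {Z : Set Y} (hfin : Z.Finite) (hZ : Z ⊆ X.T) (he : El l Z) : CC X Z := by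
  induction Z, hfin using Set.Finite.induction_on with
  | empty => exact cc_empty
  | @insert t Z _ _ ih =>
    have h1 : Z ⊆ X.T := (Set.subset_insert _ _).trans hZ
    have h2 : El l Z := fun z hz => he z (Set.mem_insert_of_mem _ hz)
    obtain ⟨j, hj⟩ := he t (Set.mem_insert _ _)
    obtain ⟨s, a1, ⟨i, a2⟩, a3⟩ := exists_one hl hp (qc_of_le (hL.le_Z0 hl h1 h2)) (hZ (Set.mem_insert _ _)) hj
    exact (ih h1 h2).insert h hf (hZ (Set.mem_insert _ _)) a1 a2 a3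

/-- **commuting `l`-elements are toral** -/
theorem exists_conj {Z : Set Y} (hfin : Z.Finite) (hG : Z ⊆ G) (he : El l Z) (hc : ∀ a ∈ Z, ∀ b ∈ Z, a * b = b * a) :
    ∃ g ∈ G, ∀ z ∈ Z, g⁻¹ * z * g ∈ X.T := by
  induction Z, hfin using Set.Finite.induction_on with
  | empty => exact ⟨1, one_mem _, fun _ h => h.elim⟩
  | @insert t Z _ hfin ih =>
    obtain ⟨g, hg, h1⟩ := ih ((Set.subset_insert _ _).trans hG) (fun z hz => he z (Set.mem_insert_of_mem _ hz))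
      fun a ha b hb => hc a (Set.mem_insert_of_mem _ ha) b (Set.mem_insert_of_mem _ hb)
    have e : ∀ z ∈ insert t Z, ∃ j : ℕ, (g⁻¹ * z * g) ^ l ^ j = 1 := fun z hz =>
      let ⟨j, hj⟩ := he z hz
      ⟨j, by rw [← inv_inv g, inv_inv g⁻¹, conj_pow, hj, mul_one, mul_inv_cancel]⟩
    have h2 : (fun z => g⁻¹ * z * g) '' Z ⊆ X.T := fun _ ⟨z, hz, e⟩ => e ▸ h1 z hz
    obtain ⟨j, hj⟩ := e t (Set.mem_insert _ _)
    obtain ⟨c, h3, h4⟩ := toral_cen h2 (hfin.image _) (y := g⁻¹ * t * g)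
      (cc h hl hp hf hL (hfin.image _) h2 (fun _ ⟨z, hz, e'⟩ => e' ▸ e z (Set.mem_insert_of_mem _ hz)) _
        (mul_mem (mul_mem (inv_mem hg) (hG (Set.mem_insert _ _))) hg) fun _ ⟨z, hz, e'⟩ => by
          rw [← e']
          calc g⁻¹ * z * g * (g⁻¹ * t * g) = g⁻¹ * (z * t) * g := by group
            _ = _ := by rw [hc z (Set.mem_insert_of_mem _ hz) t (Set.mem_insert _ _)]; group) (not_dvd_ord hl hp hj)
    refine ⟨g * c, mul_mem hg (X.cen_le_G _ h3), ?_⟩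
    rintro z (rfl | hz)
    · rwa [show (g * c)⁻¹ * z * (g * c) = c⁻¹ * (g⁻¹ * z * g) * c by group]
    · rw [show (g * c)⁻¹ * z * (g * c) = c⁻¹ * (g⁻¹ * z * g * c) by group, X.cen_le_centralizer h2 h3 _ ⟨z, hz, rfl⟩,
        inv_mul_cancel_left]
      exact h1 z hz

/-- **The generic lemma.** -/
theorem exists_frame {Z : Set Y} (hfin : Z.Finite) (hG : Z ⊆ G) (hF : ∀ z ∈ Z, F z ∈ Z) (he : El l Z)
    (hc : ∀ a ∈ Z, ∀ b ∈ Z, a * b = b * a) : ∃ (y : Y) (hy : y ∈ G) (hN : y⁻¹ * F y ∈ X.NN),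
      Z ⊆ (X.conj hy hN).T ∧ Z ⊆ Z0 (X.conj hy hN) Z ∧ CC (X.conj hy hN) Z := by
  obtain ⟨g, hg, h1⟩ := exists_conj h hl hp hf hL hfin hG he hc
  obtain ⟨y, hy, hN, h2, -⟩ := SB.Exc.Max.exists_conj_le_T X hF hg h1
  exact ⟨y, hy, hN, h2, (hL.conj hy hN).le_Z0 hl h2 he, cc (h.conj hy hN) hl hp hf (hL.conj hy hN) hfin h2 he⟩

theorem toral [Finite ↥(GF F G)] {D : Subgroup ↥(GF F G)} (hD : IsPGroup l D) (hc : IsMulCommutative D) :
    Toral X (D.map (GF F G).subtype) := by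
  obtain ⟨y, hy, hN, -, h1, -⟩ := exists_frame h hl hp hf hL (Z := D.map (GF F G).subtype)
    ((Set.toFinite (D : Set ↥(GF F G))).image _) (fun _ ⟨z, _, e⟩ => e ▸ z.2.1)
    (fun _ ⟨z, hz, e⟩ => ⟨z, hz, e ▸ z.2.2.symm⟩)
    (fun _ ⟨z, hz, e⟩ => let ⟨j, hj⟩ := hD ⟨z, hz⟩; ⟨j, e ▸ congrArg (fun x : D => ((x : GF F G) : Y)) hj⟩)
    fun _ ⟨a, ha, e⟩ _ ⟨b, hb, e'⟩ => e ▸ e' ▸ congrArg (fun x : D => ((x : GF F G) : Y)) (hc.is_comm.comm ⟨a, ha⟩ ⟨b, hb⟩)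
  exact ⟨y, hy, hN, h1⟩

end good

end Cfsg.Agent.KM.Tor
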