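import Cfsg.Agent.KM.Tor.Bad

/-!
# KM, `l = 3`, types `E₆`, `E₇`, `E₈` : maximal toral subgroups, definitions and boxes (helper13)

`A ≤ D` is a maximal toral subgroup, `D / A` embeds into the Weyl group (`Wa`).
-/

set_option autoImplicit false
set_option linter.unusedSectionVars false

namespace Cfsg.Agent.KM.Tor

open Cfsg Cfsg.Lie Cfsg.Agent.DL Cfsg.Agent.Nodes.Reps Cfsg.Agent.Nodes.BNOf Matrix Subgroup Cfsg.Agent.KM.Ht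
open Cfsg.Agent.KZ.DatX Cfsg.Agent.Nodes.RGDChev
open Cfsg.Agent.TO.X.Cn (Pi1 cl)

variable {p : ℕ} [Fact p.Prime] {k : Type} [Field k] [CharP k p] {Y : Type} [Group Y] {N : Type} [Fintype N]
  [DecidableEq N] {ρ : Y →* GL N k} {F : MulAut Y} {G : Subgroup Y} [IsAlgClosed k] (X : Datum p ρ F G)

/-! ### lattices -/

/-- the roots killed by `1 + w + w²` -/
def Nz (w : X.W) : Set (X.I → ℤ) := {a | X.Rt a ∧ a + X.act w a + X.act w (X.act w a) = 0}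

/-- the roots killed by `1 + w + w²` and orthogonal to `Ψ` -/
def Ph (w : X.W) (Ψ : Set (X.I → ℤ)) : Set (X.I → ℤ) := {a | a ∈ Nz X w ∧ ∀ b ∈ Ψ, X.wt a ⬝ᵥ X.cor b = 0}

/-- `1 + w + w²` on cocharacters -/
noncomputable def Nm (w : X.W) (v : X.R → ℤ) : X.R → ℤ := v + X.Wm w *ᵥ v + X.Wm w *ᵥ (X.Wm w *ᵥ v)

/-- the coroot lattice -/
def InQ (v : X.R → ℤ) : Prop := ∃ β, v = cl X β

/-- simply laced -/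
def Sl : Prop := ∀ a b, X.Rt a → X.Rt b → X.wt a ⬝ᵥ X.cor b = X.wt b ⬝ᵥ X.cor a

/-- the centre of a subsystem subgroup of type `A₂` is not central -/
def L2 : Prop := ∀ a b, X.Rt a → X.Rt b → X.wt a ⬝ᵥ X.cor b = -1 → ∃ c, X.Rt c ∧ ¬ 3 ∣ X.wt c ⬝ᵥ (X.cor a - X.cor b)

/-- an element of order three and a closed subsystem -/
structure Ad3 (w : X.W) (Ψ : Set (X.I → ℤ)) : Prop where
  cube : w ^ 3 = 1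
  ne : w ≠ 1
  cs : ∃ Λ : AddSubgroup (X.I → ℤ), ∀ a, a ∈ Ψ ↔ X.Rt a ∧ a ∈ Λ
  st : ∀ a ∈ Ψ, X.act w a ∈ Ψ
  dj : ∀ a ∈ Ψ, a ∉ Nz X w

/-- not empty and connected -/
def Con (Φ : Set (X.I → ℤ)) : Prop := Φ.Nonempty ∧
  ∀ a ∈ Φ, ∀ a' ∈ Φ, ∃ b ∈ Φ, X.wt a ⬝ᵥ X.cor b ≠ 0 ∧ X.wt a' ⬝ᵥ X.cor b ≠ 0

/-- `w` is not of type `A₂`, `2 A₂` -/
def Hk (w : X.W) : Prop := ∀ a ∈ Nz X w, ∃ v, InQ X v ∧ Nm X w v = 0 ∧ ¬ 3 ∣ X.wt (X.act w a - a) ⬝ᵥ v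

/-- the lattice facts for all three types -/
def LC : Prop := Sl X ∧ L2 X ∧ ∀ w Ψ, Ad3 X w Ψ → Hk X w → Con X (Ph X w Ψ)

/-- `a'` lies on the line of `a` -/
def Ln (w : X.W) (a a' : X.I → ℤ) : Prop := ∃ i : ℕ, a' = X.act (w ^ i) a ∨ a' = -X.act (w ^ i) a

/-- the two facts about an element `φ` which commutes with `w` of type `2 A₂` -/
structure Two3 (w φ : X.W) (Ψ : Set (X.I → ℤ)) : Prop where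
  sq : ∀ v, Pp X Ψ v → Nm X w v = 0 → ∃ i : ℕ, X.Wm (φ ^ 2) *ᵥ v = X.Wm (w ^ i) *ᵥ v
  cyc : ∀ m : ℤ, 3 ∣ m - 1 → ¬ 9 ∣ m - 1 → ∃ c : X.R → ℤ, ∀ (j : ℕ) (u μ ν : X.R → ℤ), InQ X μ →
    X.Wm w *ᵥ u = u + (3 : ℤ) ^ j • μ → Ψ ⊆ Rn X (3 ^ j) u → m • X.Wm φ *ᵥ u = u + (3 : ℤ) ^ j • ν →
    ∃ (n : ℤ) (v : X.R → ℤ), (3 : ℤ) • u = (3 : ℤ) ^ j • (n • c + (3 : ℤ) • v)

/-- the lattice facts for `E₆` -/
structure LN : Prop where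
  three : ∀ v, InQ X ((3 : ℤ) • v)
  idx : ∀ u v, ¬ InQ X u → InQ X v ∨ InQ X (u + v) ∨ InQ X (u - v)
  fix : ∀ w (u μ : X.R → ℤ) (n : ℤ), n ≠ 0 → X.Wm w *ᵥ u = u + n • μ → ¬ InQ X μ → ∀ v, X.Wm w *ᵥ v = v → InQ X v
  main : ∀ w Ψ, Ad3 X w Ψ → (∀ v, X.Wm w *ᵥ v = v → InQ X v) → Con X (Ph X w Ψ) ∨
    ({a | X.Rt a ∧ X.act w a = a}.ncard = 6 ∧ ∀ φ, φ * w = w * φ → (∀ a ∈ Ψ, X.act φ a ∈ Ψ) →
      (∃ a ∈ Ph X w Ψ, Ln X w a (X.act φ a)) ∨ Two3 X w φ Ψ)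

/-! ### groups -/

/-- the setting -/
structure Set3 (F : MulAut Y) (G H D : Subgroup Y) (y : Y) : Prop where
  loc : Loc 3 H D y
  ab : Ab D
  le : H ≤ GF F G
  comm : ∀ a ∈ GF F G, ∀ b ∈ GF F G, a * b * a⁻¹ * b⁻¹ ∈ H

/-- `A` is a maximal toral subgroup of `D`, the frame is adapted to `A` -/
structure Wa (D A : Subgroup Y) (ω : D →* X.W) : Prop where
  le : A ≤ D
  leT : A ≤ X.T
  cen : ∀ d ∈ D, d ∈ X.cen A → d ∈ A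
  qs : ∀ a ∈ X.Sz A, 0 ≤ a → 0 ≤ X.g a
  rp : ∀ d : D, ∃ c ∈ X.S (X.Sz A), ∃ m, X.Rp (ω d) m ∧ m ∈ centralizer (A : Set Y) ∧ (d : Y) = c * m
  pos : ∀ d : D, ∀ a ∈ X.Sz A, 0 ≤ a → 0 ≤ X.act (ω d) a

/-- [NA] a non-abelian `3`-subgroup in the centralizer of `y` -/
def BoxNA : Prop := AllD fun {p} _ _ _ _ {Y} _ _ _ _ _ {F} {G} _ X => ∀ (H D : Subgroup Y) (y : Y) (Φ : Set (X.I → ℤ))
  (a b : X.I → ℤ) (v : X.W) (ε : ℤ), 3 ≠ p → Set3 F G H D y → (∀ c ∈ Φ, X.Rt c) → (∀ c ∈ Φ, -c ∈ Φ) → (∀ c ∈ Φ, X.g c ∈ Φ) →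
  (∀ s ∈ X.S Φ, s * y = y * s) → a ∈ Φ → b ∈ Φ → X.wt a ⬝ᵥ X.cor b = -1 → X.wt b ⬝ᵥ X.cor a = -1 →
  v ∈ closure (X.rf '' Φ) → (ε = 1 ∨ ε = -1) → 3 ∣ ε * (p : ℤ) ^ X.ex a - 1 → X.act v (X.g a) = ε • a →
  X.act v (X.g b) = ε • b → ∀ c, 3 ∣ X.wt c ⬝ᵥ (X.cor a - X.cor b)

/-- [TW] the roots of a connected `Ph` on different lines are conjugate under the centralizer of `w` -/
def BoxTW : Prop := AllD fun X => ∀ (w : X.W) (Ψ : Set (X.I → ℤ)), Sl X → w ^ 3 = 1 → (∀ a ∈ Ψ, X.Rt a) →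
  (∀ a ∈ Ψ, X.act w a ∈ Ψ) → ∀ a ∈ Ph X w Ψ, (∀ i : ℕ, ∃ v ∈ closure (X.rf '' Ph X w Ψ), X.act v (X.act (w ^ i) a) = a ∧
    X.act v (X.act w (X.act (w ^ i) a)) = X.act w a) ∧ (Con X (Ph X w Ψ) → ∀ a' ∈ Ph X w Ψ, ¬ Ln X w a a' →
    ∃ v ∈ closure (X.rf '' Ph X w Ψ), X.act v a' = a ∧ X.act v (X.act w a') = X.act w a)

/-- [LC] -/
def BoxLC : Prop := (AllX hpE6 fun X => LC X) ∧ (AllX hpE7 fun X => LC X) ∧ AllX hpE8 fun X => LC X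

/-- [LN] -/
def BoxLN : Prop := AllX hpE6 fun X => LN X

/-- [KT8] -/
def BoxKt8 : Prop := AllX hpE8 fun X => ZCs X 3 ∧ Kt X

/-- [KT7] -/
def BoxKt7 : Prop := AllX hpE7 fun X => ZCs X 3 ∧ Kt X

end Cfsg.Agent.KM.Tor
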