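import Cfsg.Agent.KM.Tor.K0

/-!
# KM, odd bad primes: `boxK6`, `boxK4`, `boxK5` (helper5)
-/

set_option autoImplicit false
set_option linter.unusedSectionVars false

namespace Cfsg.Agent.KM.Tor

open Cfsg Cfsg.Lie Cfsg.Agent.DL Cfsg.Agent.Nodes.Reps Matrix Finset Cfsg.Agent.KZ.DatX Cfsg.Agent.Nodes.RGDChev
  Cfsg.Agent.ChevalleyStructure.NPerm Cfsg.Agent.ChevalleyStructure.CoxeterGeom
  Cfsg.Agent.ChevalleyStructure.CoxeterGeomTypes Cfsg.Agent.Tits.Roots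
open Cfsg.Agent.H931.KC (hr exists_ok exists_dom)
open Cfsg.Agent.TO.X.Cn (cl exists_cl cl_add cl_smul)
open Cfsg.Agent.KM.Ex (sr_dot Bad)

namespace K6

variable {C : ChevalleyDatum} {n : ℕ} {M : CoxeterMatrix (Fin n)} {hp : IsType C n M} {r : ℕ} [Fact r.Prime] {k : Type}
  [Field k] [CharP k r] [IsAlgClosed k] {Mx : Matrix (Fin n) (Fin n) ℤ} (X : XF hp r k Mx)

theorem all_eq : {a | X.D.Rt a} = RP X fun _ => True := Set.ext fun _ => (and_iff_left trivial).symm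

/-- one bad node -/
theorem ones {l N : ℕ} {i : Fin n} (hl : l.Prime) (hB : Bad C n l i) (h : 0 < N ∧ C.nroots = (l + 1) * N ∧
    #{s : Fin C.nroots | RS C n {i} (vec C n s)} = N) : Ones X.D l N {a | X.D.Rt a} := by
  refine ⟨h.1, (congrArg _ (all_eq X)).trans ((ncard_RP X _).trans (Eq.trans (by simp) h.2.1)), fun m hm u _ =>
    (kacD X hl hm u).imp_right fun ⟨w, s, c, h1, h2, _, _, h3, h4, h5⟩ => ?_⟩
  obtain rfl : s = {i} := h1.subset_singleton_iff.1 fun j hj => mem_singleton.2 (by_contra fun e => hB.2 j e (h2 j hj))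
  have h6 : {a | X.D.Rt a} ⊆ Cl X.D (Rn X.D m u) := fun a ha => h4.ge ⟨(rt_act _).2 ha, fun a ha b hb => by
    rw [mem_singleton.1 ha, mem_singleton.1 hb]⟩
  exact ⟨(congrArg _ h3).trans ((ncard_im _ _).trans ((ncard_RP X _).trans h.2.2)),
    fun a ha => hB.1 ▸ h5 i (mem_singleton_self i) a (h6 ha), h6⟩

/-- Levi subsystems are conjugate to standard ones -/
theorem std {Ψ : Set (X.D.I → ℤ)} (h0 : ∀ a ∈ Ψ, X.D.Rt a) (h : Lvs X.D Ψ) : ∃ (w : X.D.W) (J : Fin n → Prop),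
    Ψ = im X.D w (RP X fun a => ∀ i, J i → a i = 0) := by
  obtain ⟨_, _, _, _, H⟩ := exists_ok hp
  obtain ⟨v, hv⟩ := h
  obtain ⟨w, hw⟩ : ∃ w : X.D.W, ∀ i : Fin n, 0 ≤ X.D.wt (X.D.act w (sr i)) ⬝ᵥ v := exists_dom hp H (H931.KC.psi v)
  obtain ⟨c, hc⟩ : ∃ c : Fin n → ℤ, ∀ a : Fin n → ℤ, a ⬝ᵥ c = X.D.wt (X.D.act w a) ⬝ᵥ v :=
    ⟨X.D.Wm w⁻¹ *ᵥ v, fun a => dot_Wm' (X := X.D) w a v⟩
  have h1 : ∀ i, 0 ≤ c i := fun i => (hw i).trans_eq ((hc _).symm.trans (sr_dot i _))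
  have h2 : ∀ a : Fin n → ℤ, 0 ≤ a → (a ⬝ᵥ c = 0 ↔ ∀ i, c i ≠ 0 → a i = 0) := fun a ha => by
    rw [dotProduct, sum_eq_zero_iff_of_nonneg fun i _ => mul_nonneg (ha i) (h1 i)]
    exact forall_congr' fun i => by rw [mul_eq_zero]; simp only [mem_univ, true_imp_iff]; tauto
  have h3 := of_pos X (Q := fun a => a ⬝ᵥ c = 0 ↔ ∀ i, c i ≠ 0 → a i = 0) (fun a h => by
    simpa only [neg_dotProduct, Pi.neg_apply, neg_eq_zero] using h) fun a _ => h2 a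
  refine ⟨w, fun i => c i ≠ 0, Set.ext fun a => ?_⟩
  have h4 := (hc (X.D.act w⁻¹ a)).trans (congrArg (X.D.wt · ⬝ᵥ v) (act_act_inv (X := X.D) w a))
  refine ⟨fun ha => ⟨(h0 a ha).act _, (h3 _ ((h0 a ha).act _)).1 (h4.trans ((hv a (h0 a ha)).1 ha))⟩, fun ha => ?_⟩
  exact (hv a ((rt_act (X := X.D) _).1 ha.1)).2 (h4.symm.trans ((h3 _ ha.1).2 ha.2))

theorem pp_sr {J : Fin n → Prop} {i : Fin n} (h : J i) : Pp X.D (RP X fun a => ∀ i, J i → a i = 0) (sr i) :=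
  fun a ha => (dotProduct_comm (a : Fin n → ℤ) _).trans ((sr_dot i a).trans (ha.2 i h))

theorem of_pp {J : Fin n → Prop} {v : Fin n → ℤ} (h : Pp X.D (RP X fun a => ∀ i, J i → a i = 0) v) {i : Fin n}
    (hi : ¬ J i) : v i = 0 := (sr_dot i v).symm.trans (h (sr i) ⟨isRoot_sr _ _ i, fun _ hj => sr_ne fun e => hi (e ▸ hj)⟩)

theorem Wm_ne (w : X.D.W) {v : X.D.R → ℤ} (h : ∀ β, v ≠ cl X.D β) (β : X.D.I → ℤ) : X.D.Wm w *ᵥ v ≠ cl X.D β := fun e => by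
  obtain ⟨γ, hγ⟩ := exists_cl X.D v w
  refine h (β + (-1 : ℤ) • γ) ?_
  rw [cl_add, cl_smul, ← e, hγ, neg_one_smul, add_neg_cancel_right]

theorem cl_co (β : Fin n → ℤ) : cl X.D β = co C n β := funext fun _ => Finset.sum_apply _ _ _

theorem res (v₁ v₂ : Fin n → ℤ) (m : ℕ) (h : ∀ i j : Fin 3,
    #{s : Fin C.nroots | 3 ∣ vec C n s ⬝ᵥ (((i : ℕ) : ℤ) • v₁ + ((j : ℕ) : ℤ) • v₂)} = m ↔ j ≠ 0) (i j : ℤ) :
    (Rn X.D 3 (i • v₁ + j • v₂ : Fin n → ℤ)).ncard = m ↔ ¬ 3 ∣ j := by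
  have e : i • v₁ + j • v₂ = (((i % 3).toNat : ℤ) • v₁ + ((j % 3).toNat : ℤ) • v₂) + (3 : ℤ) • ((i / 3) • v₁ + (j / 3) • v₂) := by
    rw [Int.toNat_of_nonneg (by omega), Int.toNat_of_nonneg (by omega)]
    conv_lhs => rw [← Int.emod_add_mul_ediv i 3, ← Int.emod_add_mul_ediv j 3]
    module
  refine (congrArg (· = m) ((congrArg _ ((congrArg _ e).trans (Rn_add (X := X.D) 3 _ _))).trans
    (ncard_Rn X _ _))).to_iff.trans ((h ⟨(i % 3).toNat, by omega⟩ ⟨(j % 3).toNat, by omega⟩).trans ?_)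
  rw [Ne, Fin.ext_iff]
  simp only [Fin.val_zero]
  omega

theorem cent (β : Fin 6 → ℤ) : (3 : ℤ) ∣ ![1, 0, -1, 0, 1, -1] ⬝ᵥ co chevE6 6 β := by
  have h : ∀ i : Fin 6, (3 : ℤ) ∣ ∑ j, (![1, 0, -1, 0, 1, -1] : Fin 6 → ℤ) j * cartanOf chevE6 6 i j := by decide +kernel
  simp only [co, dotProduct, mul_sum]
  rw [sum_comm]
  refine dvd_sum fun i _ => ?_
  simp only [mul_left_comm _ (β i), ← mul_sum]
  exact (h i).mul_left _

theorem cnt : ∀ i j : Fin 3, #{s : Fin chevE6.nroots | 3 ∣ vec chevE6 6 s ⬝ᵥ (((i : ℕ) : ℤ) • sr 3 + ((j : ℕ) : ℤ) • sr 1)} = 30 ↔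
    j ≠ 0 := by decide +kernel

end K6

open K6

theorem boxK4 : BoxK4 := fun _ _ _ _ _ _ _ X => ⟨zcs X 3, ones X Nat.prime_three Ex.bad_F4 (by decide +kernel)⟩

theorem boxK5 : BoxK5 := fun _ _ _ _ _ _ _ X => ⟨zcs X 5, ones X Nat.prime_five Ex.bad_E8 (by decide +kernel)⟩

theorem boxK6 : BoxK6 := fun _ _ _ _ _ _ _ X => by
  refine ⟨zcs X 3, ones X Nat.prime_three Ex.bad_E6 (by decide +kernel), (all_eq X).symm ▸
    trs_RP X (by decide +kernel) 18 (hr chevE6 6) (by decide +kernel) (by decide +kernel), fun Ψ h0 h => ?_⟩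
  obtain ⟨w, J, rfl⟩ := std X h0 h
  by_cases h1 : ∃ i, J i ∧ i ≠ 1 ∧ i ≠ 3
  · obtain ⟨i, h1, h2⟩ := h1
    refine .inl ⟨_, (pp_sr X h1).im, Wm_ne X w fun β e => ?_⟩
    have h3 : ∀ i : Fin 6, i ≠ 1 ∧ i ≠ 3 → ¬ (3 : ℤ) ∣ ![1, 0, -1, 0, 1, -1] ⬝ᵥ sr i := by decide +kernel
    exact h3 i h2 ((e.trans (cl_co X β)).symm ▸ cent β)
  have h2 : ∀ v : Fin 6 → ℤ, Pp X.D (RP X fun a => ∀ i, J i → a i = 0) v → v = v 3 • sr 3 + v 1 • sr 1 := fun v hv => by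
    have h3 := fun i h => of_pp X hv (i := i) fun e => h1 ⟨i, e, h⟩
    funext i
    fin_cases i
    all_goals simp [sr]
    all_goals exact h3 _ (by decide)
  refine .inr (Cork.im ?_)
  by_cases h3 : J 1
  · by_cases h4 : J 3
    · exact .inr ⟨_, _, 30, pp_sr X h4, pp_sr X h3, fun v hv => ⟨_, _, h2 v hv⟩, res X _ _ _ cnt⟩
    · exact .inl ⟨sr (1 : Fin 6), fun (v : Fin 6 → ℤ) hv => ⟨v 1, (h2 v hv).trans (by rw [of_pp X hv h4, zero_smul, zero_add]; rfl)⟩⟩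
  · exact .inl ⟨sr (3 : Fin 6), fun (v : Fin 6 → ℤ) hv => ⟨v 3, (h2 v hv).trans (by rw [of_pp X hv h3, zero_smul, add_zero]; rfl)⟩⟩

end Cfsg.Agent.KM.Tor
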