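import Cfsg.Agent.KM.Sc.Lat
import Cfsg.Agent.KM.Tor.K6
import Cfsg.Agent.KM.Tor.Kill
import Cfsg.Agent.KM.Glue

/-!
# KM, `l = 3` : the rows `E₆`, `²E₆` from `BoxE6` (helper5)
-/

set_option autoImplicit false
set_option linter.unusedSectionVars false

namespace Cfsg.Agent.KM.Tor

open Cfsg Cfsg.Lie Cfsg.Agent.DL Matrix Cfsg.Agent.KZ.DatX Cfsg.Agent.Nodes.RGDChev
  Cfsg.Agent.ChevalleyStructure.NPerm Cfsg.Agent.ChevalleyStructure.CoxeterGeomTypes Cfsg.Agent.KM.Sc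

namespace E6R

variable {r : ℕ} [Fact r.Prime] {Mx : Matrix (Fin 6) (Fin 6) ℤ}

theorem inQ_iff {k : Type} [Field k] [CharP k r] [IsAlgClosed k] (X : XF hpE6 r k Mx) (x : Fin 6 → ℤ) :
    InQ X.D x ↔ 3 ∣ x 0 - x 2 + x 4 - x 5 := by
  have hA : cartanOf chevE6 6 = ![![2, 0, -1, 0, 0, 0], ![0, 2, 0, -1, 0, 0], ![-1, 0, 2, -1, 0, 0],
    ![0, -1, -1, 2, -1, 0], ![0, 0, 0, -1, 2, -1], ![0, 0, 0, 0, -1, 2]] := by decide +kernel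
  refine ⟨fun ⟨β, e⟩ => ?_, fun h => ⟨![(4 * x 0 + 3 * x 1 + 5 * x 2 + 6 * x 3 + 4 * x 4 + 2 * x 5) / 3,
    x 0 + 2 * x 1 + 2 * x 2 + 3 * x 3 + 2 * x 4 + x 5, (5 * x 0 + 6 * x 1 + 10 * x 2 + 12 * x 3 + 8 * x 4 + 4 * x 5) / 3,
    2 * x 0 + 3 * x 1 + 4 * x 2 + 6 * x 3 + 4 * x 4 + 2 * x 5,
    (4 * x 0 + 6 * x 1 + 8 * x 2 + 12 * x 3 + 10 * x 4 + 5 * x 5) / 3,
    (2 * x 0 + 3 * x 1 + 4 * x 2 + 6 * x 3 + 5 * x 4 + 4 * x 5) / 3], Eq.trans ?_ (K6.cl_co X _).symm⟩⟩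
  · have h := (e.trans (K6.cl_co X β)).symm ▸ K6.cent β
    simpa [dotProduct, Fin.sum_univ_six, sub_eq_add_neg] using h
  · funext j
    fin_cases j <;> simp [co, hA, Fin.sum_univ_six] <;> omega

variable {Adm : Matrix (Fin 6) (Fin 6) ℤ → Prop} {d : ℕ} {S : Type} [Group S] [Finite S]

theorem row (hE : BoxE6) (h : HasSc hpE6 r Mx Adm 3 d S) (hr : 3 ≠ r) {m : ℤ} (hm : Mx = m • 1 ∨ Mx = m • P6)
    {A : Type} [CommGroup A] (hA : HasSchurMultiplier S A) (h3 : Nat.card A ∣ 3) : Row 3 S := by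
  obtain ⟨k, _, _, _, X, t, -, Y, _, N, _, _, ρ, F, X', θ, s, ⟨I⟩, -, h2⟩ := h
  have := X'.amb.finite_GF ⊤
  have : Fact (Nat.Prime 3) := ⟨Nat.prime_three⟩
  have hR : I.Rg := I.rg s.pi1 three_ne_zero fun (v : Fin 6 → ℤ) => (inQ_iff X _).2 (by
    show 3 ∣ 3 * v 0 - 3 * v 2 + 3 * v 4 - 3 * v 5
    omega)
  have hH : t.ι.range = (GF F ⊤).map θ := le_antisymm
    (by
      rintro _ ⟨x, rfl⟩
      obtain ⟨x, rfl⟩ := s.surj x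
      exact ⟨x, x.2, (h2 x).symm⟩)
    (by
      rintro _ ⟨x, hx, rfl⟩
      exact ⟨_, h2 ⟨x, hx⟩⟩)
  obtain ⟨m, φ, hφ⟩ : ∃ (m : ℤ) (φ : X.D.W), X.D.Mx = m • X.D.Wm φ := hm.elim
    (fun e => ⟨m, 1, e.trans (congrArg _ X.D.Wm_one.symm)⟩) fun e =>
      let ⟨w, hw⟩ := X.exists_neg_E6
      ⟨-m, w, e.trans ((neg_smul_neg m P6).symm.trans (congrArg _ hw.symm))⟩
  have h4 : ¬ 3 ∣ Nat.card t.ι.ker := by
    rw [(MonoidHom.ker_eq_bot_iff _).2 t.ov.inj, Subgroup.card_bot]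
    decide
  refine boxMult 3 S S (MonoidHom.id S) Function.surjective_id (fun x (hx : x = 1) => hx ▸ one_mem _) ?_
    (by rw [MonoidHom.ker_id, Subgroup.card_bot]; decide) A 1 hA (h3.trans (dvd_mul_left _ _)) fun M hM B D hB hD hc => ?_
  · rw [commutator_def, ← MonoidHom.range_eq_top.2 s.surj, MonoidHom.range_eq_map, ← Subgroup.map_commutator,
      ← commutator_def, s.perf]
  have h1 : ∀ x, t.ι x ∈ GF X.F ⊤ := fun x => (t.ov.hom x).2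
  obtain ⟨y, hy⟩ := exists_set3 hM hB hD hc h1
    (fun a ha b hb => t.ov.mem_range.1 (t.ov.comm_mem ⟨a, ha⟩ ⟨b, hb⟩))
    (by rw [(MonoidHom.ker_eq_bot_iff _).2 t.ov.inj]; exact bot_le) h4
  have h5 := fun e => boxFlag S _ ⊤ t.ι M B D hM hB hD hc (fun _ => trivial)
    (fun d _ e => t.ov.inj (e.trans (map_one _).symm)) e
  rcases hE r k Mx X _ _ y m φ hr hφ hy fun g hg hN => hH ▸ Isog.dl_conj hR g hg hN with e | e | e | e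
  · obtain ⟨B', k1, k2, k3⟩ := Two.dom hM s.π s.surj s.ker.le (fun g => ⟨1, Subtype.ext (Subtype.ext
      (I.pow_eq_one g.1.2.1 (by rw [← h2, MonoidHom.mem_ker.1 g.2, map_one])))⟩) hB hD
    refine k3 (hz_of_toral s.qs Nat.prime_three hr hM k1 k2 (Isog.pull' Nat.prime_three hR
      (fun (v : Fin 6 → ℤ) hv (μ : Fin 6 → ℤ) => ?_) le_top ?_))
    · replace hv := mt (inQ_iff X v).2 hv
      obtain ⟨c, hc⟩ : ∃ c : ℤ, 3 ∣ μ 0 + c * v 0 - (μ 2 + c * v 2) + (μ 4 + c * v 4) - (μ 5 + c * v 5) := by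
        refine ⟨-((μ 0 - μ 2 + μ 4 - μ 5) * (v 0 - v 2 + v 4 - v 5)), ?_⟩
        rcases (by omega : 3 ∣ v 0 - v 2 + v 4 - v 5 - 1 ∨ 3 ∣ v 0 - v 2 + v 4 - v 5 + 1) with h | h
        · exact (h.mul_left (-((μ 0 - μ 2 + μ 4 - μ 5) * (v 0 - v 2 + v 4 - v 5 + 1)))).trans (Eq.dvd (by ring))
        · exact (h.mul_left (-((μ 0 - μ 2 + μ 4 - μ 5) * (v 0 - v 2 + v 4 - v 5 - 1)))).trans (Eq.dvd (by ring))
      exact ⟨c, (inQ_iff X _).2 hc⟩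
    · rwa [Subgroup.map_map, show θ.comp (GF F ⊤).subtype = t.ι.comp s.π from MonoidHom.ext fun h => (h2 h).symm,
        ← Subgroup.map_map, Subgroup.map_comap_eq_self_of_surjective s.surj]
  · exact KM.A.hz_of_card hM hB hD ((Subgroup.card_map_of_injective t.ov.inj).symm.trans_le e)
  · exact h5 (.inl e)
  · exact h5 (.inr e)

end E6R

theorem at_e6 (hE : BoxE6) : At CE6 3 := fun _ _ _ _ _ ⟨F, _, _, h1, ⟨i⟩⟩ => by
  have : Fact (Nat.Prime 3) := ⟨Nat.prime_three⟩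
  obtain ⟨r, e, _, _, hr, he, hF⟩ := Nt.exists_char F h1
  have := Finite.of_equiv _ i.toEquiv
  exact Row.of_equiv i (E6R.row hE (sc_E6 hF) hr (.inl rfl) (S2105.result hF) (BD.card_cyc _ ▸ Nat.gcd_dvd_left _ _))

theorem at_te6 (hE : BoxE6) (h62 : ∀ (K : Type) [Field K] [Fintype K], Fintype.card K = 2 ^ 2 → Row 3 ↥(twistedE6 K 2)) :
    At CTe6 3 := fun _ _ _ _ _ ⟨F, _, _, q, h1, hq, hF, ⟨i⟩⟩ => by
  have : Fact (Nat.Prime 3) := ⟨Nat.prime_three⟩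
  obtain ⟨r, e, _, _, hr, he, rfl⟩ := Nt.exists_char' F h1 hq two_ne_zero hF
  have := Finite.of_equiv _ i.toEquiv
  refine Row.of_equiv i ?_
  by_cases h2 : r ^ e = 2
  · rw [h2] at hF ⊢
    exact h62 F hF
  exact E6R.row hE (sc_2E6 hF) hr (.inr rfl) (S2108.result hq hF h2) (BD.card_cyc _ ▸ Nat.gcd_dvd_left _ _)

end Cfsg.Agent.KM.Tor
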