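import Cfsg.Agent.KM.Tor.K7a

/-!
# KM, odd bad primes: `boxK7` (helper5)
-/

set_option autoImplicit false
set_option linter.unusedSectionVars false

namespace Cfsg.Agent.KM.Tor

open Cfsg Cfsg.Lie Cfsg.Agent.DL Cfsg.Agent.Nodes.Reps Matrix Finset Cfsg.Agent.KZ.DatX Cfsg.Agent.Nodes.RGDChev
  Cfsg.Agent.ChevalleyStructure.NPerm Cfsg.Agent.ChevalleyStructure.CoxeterGeom
  Cfsg.Agent.ChevalleyStructure.CoxeterGeomTypes Cfsg.Agent.Tits.Roots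
open Cfsg.Agent.H931.KC (hr Kac)
open Cfsg.Agent.KM.Ex (sr_dot)

namespace K7

section Dat

variable {p : ℕ} [Fact p.Prime] {k : Type} [Field k] [CharP k p] {Y : Type} [Group Y] {N : Type} [Fintype N]
  [DecidableEq N] {ρ : Y →* GL N k} {F : MulAut Y} {G : Subgroup Y} [IsAlgClosed k]

/-- good systems -/
def Good (X : Datum p ρ F G) (Ψ : Set (X.I → ℤ)) : Prop :=
  (Lvs X Ψ ∧ Gds X 3 Ψ) ∨ ∃ a b, Spl X Ψ a b ∧ Gds X 3 (Ψ \ A2 X a b)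

theorem Good.im {X : Datum p ρ F G} {Ψ : Set (X.I → ℤ)} (h : Good X Ψ) (h0 : ∀ a ∈ Ψ, X.Rt a) (w : X.W) :
    Good X (im X w Ψ) :=
  h.imp (fun h => ⟨h.1.im, h.2.im⟩) fun ⟨a, b, h1, h2⟩ => ⟨_, _, h1.im h0, (im_diff w Ψ a b).symm ▸ h2.im⟩

end Dat

variable {r : ℕ} [Fact r.Prime] {k : Type} [Field k] [CharP k r] [IsAlgClosed k] {Mx : Matrix (Fin 7) (Fin 7) ℤ}
  (X : XF hpE7 r k Mx)

theorem chk' (y : Fin 7 → ℤ) : ∃ t : ℤ, (Rn X.D 3 (t • sr 6 + y : Fin 7 → ℤ)).ncard ≠ 72 := by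
  have h : ∀ i, (y i % 3).toNat < 3 := fun i => by omega
  obtain ⟨g, -, h1⟩ := chk _ (h 0) _ (h 1) _ (h 2) _ (h 3) _ (h 4) _ (h 5)
  have e : (g - y 6 % 3) • sr 6 + y = ![((y 0 % 3).toNat : ℤ), (y 1 % 3).toNat, (y 2 % 3).toNat, (y 3 % 3).toNat,
      (y 4 % 3).toNat, (y 5 % 3).toNat, g] + (3 : ℤ) • fun i => y i / 3 := by
    funext i
    fin_cases i <;> simp [sr] <;> omega
  exact ⟨_, fun h2 => h1 ((card_eq _).symm.trans ((ncard_Rn X _ _).symm.trans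
    ((congrArg _ ((congrArg _ e).trans (Rn_add (X := X.D) 3 _ _))).symm.trans h2)))⟩

theorem rk {i : Fin 7} (hi : hr chevE7 7 i = 3) : Rk7 X.D (RP X (RS chevE7 7 {i})) := by
  refine ⟨_, _, 3, by decide, fun j => ⟨?_, (rkT i hi).1 j⟩, (rkT i hi).2⟩
  split_ifs
  exacts [rt_hr X, isRoot_sr _ _ j]

theorem kt : Kt X.D := fun j u h => by
  obtain ⟨w, s, c, h1, h2, -, -, h3, h4, h5⟩ :=
    (kacD X Nat.prime_three (m := 3 ^ j) (by positivity) u).resolve_left fun e => h (Lq.lvs Nat.prime_three e)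
  obtain ⟨h6, h7⟩ := tab s h1 h2
  obtain ⟨i, hi⟩ := h1
  have h8 := (congrArg Set.ncard h3).trans ((ncard_im _ _).trans (ncard_RP X _))
  have h9 := (congrArg Set.ncard h4).trans ((ncard_im _ _).trans (ncard_RP X _))
  refine ⟨(h6 i hi).1 ▸ h5 i hi, h3 ▸ Cork.im (.inl ⟨![0, 0, 1, 0, -1, 0, 0], fun (v : Fin 7 → ℤ) hv => ⟨v 2, ?_⟩⟩),
    h7.imp (fun e => ⟨h9.trans e.1, h8.trans e.2⟩) fun ⟨⟨m, e⟩, e'⟩ =>
      ⟨h3 ▸ e ▸ (rk X (h6 m (e ▸ mem_singleton_self m)).1).im, .inr (.inl ⟨h9.trans e'.1, h8.trans e'.2⟩)⟩⟩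
  obtain ⟨a1, a2⟩ := (pp_RS X).1 hv
  have a3 := fun i (h : ¬ (i = 2 ∨ i = 4)) => a1 i fun e => h (h6 i e).2
  have b0 := a3 0 (by decide)
  have b1 := a3 1 (by decide)
  have b3 := a3 3 (by decide)
  have b5 := a3 5 (by decide)
  have b6 := a3 6 (by decide)
  rw [hr7] at a2
  simp [dotProduct, Fin.sum_univ_seven] at a2
  show v = v 2 • (![0, 0, 1, 0, -1, 0, 0] : Fin 7 → ℤ)
  funext i
  fin_cases i <;> simp <;> omega

theorem good_of {c a b v₁ v₂ : Fin 7 → ℤ} {σ : Fin 3 → Fin chevE7.nroots} (h : Ce c a b v₁ v₂ σ) : Good X.D (Rn X.D 3 c) :=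
  have h1 := spl_RP X (P := fun x => 3 ∣ x ⬝ᵥ c) sl (kt X) a b v₁ v₂ σ 30 h.1 h.2.1 h.2.2.1 h.2.2.2.1
  .inr ⟨a, b, h1, gds_lt (kt X) (fun _ h => h.1.1) h1.lv2 ((Set.ncard_le_ncard Set.sdiff_subset (fin_of_rt Rn_rt)).trans_lt
    ((ncard_Rn X _ _).trans_lt h.2.2.2.2))⟩

theorem cls (x : Fin 7 → ℤ) : (∀ i, 3 ∣ x i) ∨ Good X.D (Rn X.D 3 x) ∨ ((Rn X.D 3 x).ncard = 72 ∧
    ∃ (w : X.D.W) (e : ℤ) (d : X.D.R → ℤ), e * e = 1 ∧ x = X.D.Wm w *ᵥ (e • sr 6 : Fin 7 → ℤ) + (3 : ℤ) • d) := by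
  obtain ⟨w, c, c0, d, K, e⟩ := alc X Nat.prime_three.pos x
  have h := ty K
  generalize (fun i => (c i : ℤ)) = c at e h
  have h1 : Rn X.D 3 x = im X.D w (Rn X.D 3 c) := (congrArg _ e).trans ((Rn_add (X := X.D) 3 _ d).trans (Rn_Wm w _ _))
  rw [h1]
  rcases h with h | h | rfl | rfl | h
  · refine .inl fun i => (congrArg (3 ∣ ·) ((sr_dot i x).symm.trans ((congrArg _ e).trans
      (dot_Wm_add (X := X.D) w (sr i) 3 c d)))).mpr (dvd_add (dvd_sum fun j _ => (h j).mul_left _) (dvd_mul_right _ _))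
  · have h2 : Lvs X.D (Rn X.D 3 c) := lvs_RP X _ h.1
    exact .inr (.inl (Good.im (.inl ⟨h2, gds_lt (kt X) Rn_rt h2 ((ncard_Rn X _ _).trans_lt h.2)⟩) Rn_rt w))
  · exact .inr (.inl ((good_of X ce2).im Rn_rt w))
  · exact .inr (.inl ((good_of X ce4).im Rn_rt w))
  refine .inr (.inr ⟨(ncard_im _ _).trans ((ncard_Rn X _ _).trans h.2), w, ?_⟩)
  rcases h.1 with rfl | rfl
  · exact ⟨1, d, rfl, e.trans (by rw [one_smul]; rfl)⟩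
  · refine ⟨-1, X.D.Wm w *ᵥ (sr 6 : Fin 7 → ℤ) + d, rfl, e.trans ?_⟩
    refine (congrArg (· + _) ((mulVec_add (X.D.Wm w) _ _).trans (congrArg _ (mulVec_smul _ _ _)))).trans ?_
    exact (add_assoc _ _ _).trans (congrArg _ (smul_add _ _ _).symm)

theorem pln : Pln X.D := fun u v h => by_contra fun h0 => by
  have h1 := fun (i j : ℤ) (e : ¬ (3 ∣ i ∧ 3 ∣ j)) => ((cls X (i • u + j • v)).resolve_left fun e' => e (h i j e')).resolve_left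
    fun e' => h0 ⟨i, j, e'.imp_right fun ⟨a, b, h2, h3⟩ => ⟨a, b, h2, .inl h3⟩⟩
  obtain ⟨w, e, d, h2, h3⟩ := (h1 1 0 (by decide)).2
  obtain ⟨t, ht⟩ := chk' X (X.D.Wm w⁻¹ *ᵥ v)
  refine ht (Eq.trans ?_ (h1 (t * e) 1 fun e => absurd e.2 (by decide)).1)
  have h4 : ∀ z : X.D.R → ℤ, (1 : ℤ) • u + (0 : ℤ) • v = X.D.Wm w *ᵥ (e • z) + (3 : ℤ) • d →
      (t * e) • u + (1 : ℤ) • v = X.D.Wm w *ᵥ (t • z + X.D.Wm w⁻¹ *ᵥ v) + (3 : ℤ) • ((t * e) • d) := fun z h4 => by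
    rw [one_smul, zero_smul, add_zero] at h4
    rw [mulVec_add, Wm_Wm_inv, h4, mulVec_smul, mulVec_smul, smul_add, smul_smul, mul_assoc, h2, mul_one, one_smul,
      smul_comm (3 : ℤ), add_right_comm]
  exact ((congrArg _ ((congrArg _ (h4 _ h3)).trans ((Rn_add _ _ _).trans (Rn_Wm w _ _)))).trans (ncard_im _ _)).symm

end K7

theorem boxK7 : BoxK7 := fun _ _ _ _ _ _ _ X => ⟨zcs X 3, K7.kt X, K7.pln X⟩

end Cfsg.Agent.KM.Tor
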