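import Cfsg.Agent.KM.Tor.K6

/-!
# KM, `l = 3`: the finite checks for `boxLC` (helper14)

A root is a pair of lists (root, coroot); `K` are the nodes of a Levi subsystem, `J` the other nodes.
-/

set_option autoImplicit false
set_option maxRecDepth 100000
set_option synthInstance.maxSize 4096

namespace Cfsg.Agent.KM.Tor.Lc

open Cfsg Cfsg.Lie Matrix Cfsg.Agent.Nodes.RGDChev Cfsg.Agent.ChevalleyStructure.CoxeterGeomTypes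

/-- root and coroot -/
abbrev En := List ℤ × List ℤ

variable {n : ℕ}

/-- the coefficients -/
def u (e : En) (j : Fin n) : ℤ := e.1.getD j 0

/-- the values on the simple roots -/
def v (e : En) (j : Fin n) : ℤ := e.2.getD j 0

/-- the pairing -/
def B (e f : En) : ℤ := (List.zipWith (· * ·) e.1 f.2).sum

/-- the entry of a vector -/
def ent (C : ChevalleyDatum) (n : ℕ) (a : Fin n → ℤ) : En := (List.ofFn a, List.ofFn (co C n a))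

variable {C : ChevalleyDatum}

theorem u_ent (a : Fin n → ℤ) (j : Fin n) : u (ent C n a) j = a j := by simp [u, ent]

theorem v_ent (a : Fin n → ℤ) (j : Fin n) : v (ent C n a) j = co C n a j := by simp [v, ent]

theorem B_ent (a b : Fin n → ℤ) : B (ent C n a) (ent C n b) = a ⬝ᵥ co C n b := by
  rw [dotProduct, ← List.sum_ofFn]
  exact congrArg List.sum (List.ext_getElem (by simp [ent]) fun i _ _ => by simp [ent])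

variable (K J : List (Fin n))

/-- in the Levi subsystem -/
def Z (e : En) : Prop := ∀ j ∈ J, u e j = 0

/-- orthogonal to the Levi subsystem -/
def Fx (e : En) : Prop := ∀ j ∈ K, v e j = 0

/-- the same class -/
def Sm (e f : En) : Prop := ∀ j ∈ J, u e j = u f j

/-- the class of `± (f - k g)` -/
def Pm (e f : En) (k : ℤ) (g : En) : Prop := (∀ j ∈ J, u e j = u f j - k * u g j) ∨ ∀ j ∈ J, -u e j = u f j - k * u g j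

/-- dominant -/
def D1 (a : En) : Prop := ∀ j ∈ K, 0 ≤ v a j

/-- dominant on the second level -/
def D2 (a b : En) : Prop := ∀ j ∈ K, v a j = 0 → 0 ≤ v b j

/-- dominant on the third level -/
def D3 (a b c : En) : Prop := ∀ j ∈ K, v a j = 0 → v b j = 0 → 0 ≤ v c j

/-- dominant on the fourth level -/
def D4 (a b c d : En) : Prop := ∀ j ∈ K, v a j = 0 → v b j = 0 → v c j = 0 → 0 ≤ v d j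

variable (R : List En)

/-- two trios have a common orthogonal root -/
def T2 : Prop := ∀ c ∈ R, ¬ Z J c → D1 K c → ∀ c' ∈ R, Sm J c' c → D2 K c c' → B c c' = 0 → ∀ d ∈ R, ¬ Z J d → D3 K c c' d →
  ∀ d' ∈ R, Sm J d' d → D4 K c c' d d' → B d d' = 0 → ∃ a ∈ R, Z J a ∧ B a c = 0 ∧ B a c' = 0 ∧ B a d = 0 ∧ B a d' = 0

/-- no `2 A₂` in `D₅` -/
def T3 : Prop := ∀ a ∈ R, Z J a → D1 K a → ∀ a' ∈ R, Z J a' → D2 K a a' → B a a' = -1 → ∀ c ∈ R, ¬ Z J c → B a c = 0 →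
  B a' c = 0 → Fx K c ∨ ∀ b ∈ R, Z J b → B b a = 0 → B b a' = 0 → B b c = 0 → ∀ b' ∈ R, Z J b' → B b b' = -1 → B b' a = 0 →
    B b' a' = 0 → B b' c ≠ 0

/-- connected -/
def T4 : Prop := ∀ a ∈ R, Z J a → D1 K a → ∀ a' ∈ R, Z J a' → ∃ b ∈ R, Z J b ∧ B a b ≠ 0 ∧ B a' b ≠ 0

/-- three classes -/
def T6 : Prop := ∀ c ∈ R, ¬ Z J c → D1 K c → ∀ c' ∈ R, Sm J c' c → D2 K c c' → B c c' = 0 → ∀ c'' ∈ R, Sm J c'' c →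
  B c c'' = 0 → B c' c'' = 0 → ∀ d ∈ R, ¬ Z J d → D3 K c c' d → Pm J d c 0 c ∨ Fx K d ∨ ∃ x ∈ [c, c', c''], ∀ y ∈ R,
    ¬ Z J y → ¬ Fx K y → Pm J y c 0 c ∨ Pm J y d 0 c ∨ Pm J y d (B d x) c

/-- the checks for one Levi subsystem -/
def Core : Prop := (∀ i, i ∈ K ↔ i ∉ J) ∧ T2 K J R ∧ T3 K J R ∧ T4 K J R ∧ T6 K J R

/-! ### the programs -/

/-- bounded implication -/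
def al (p q : En → Bool) : Bool := R.all fun e => !p e || q e

theorem al_iff (p q : En → Bool) : al R p q = true ↔ ∀ e ∈ R, p e = true → q e = true := by
  simp only [al, List.all_eq_true, Bool.or_eq_true, Bool.not_eq_true', ← Bool.not_eq_true, ← imp_iff_not_or]

/-- the class -/
def cl (e : En) : List ℤ := J.map (u e)

/-- `Z` -/
def z (e : En) : Bool := J.all fun j => u e j == 0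

/-- `Fx` -/
def fx (e : En) : Bool := K.all fun j => v e j == 0

/-- `Sm` -/
def sm (e f : En) : Bool := cl J e == cl J f

/-- `Pm` -/
def pm (e f : En) (k : ℤ) (g : En) : Bool :=
  cl J e == (J.map fun j => u f j - k * u g j) || (J.map fun j => -u e j) == J.map fun j => u f j - k * u g j

/-- `D1` -/
def d1 (a : En) : Bool := K.all fun j => 0 ≤ v a j

/-- `D2` -/
def d2 (a b : En) : Bool := K.all fun j => v a j != 0 || 0 ≤ v b j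

/-- `D3` -/
def d3 (a b c : En) : Bool := K.all fun j => v a j != 0 || (v b j != 0 || 0 ≤ v c j)

/-- `D4` -/
def d4 (a b c d : En) : Bool := K.all fun j => v a j != 0 || (v b j != 0 || (v c j != 0 || 0 ≤ v d j))

theorem z_iff (e : En) : z J e = true ↔ Z J e := by simp [z, Z]
theorem nz_iff (e : En) : (!z J e) = true ↔ ¬ Z J e := by rw [← z_iff]; simp
theorem fx_iff (e : En) : fx K e = true ↔ Fx K e := by simp [fx, Fx]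
theorem nfx_iff (e : En) : (!fx K e) = true ↔ ¬ Fx K e := by rw [← fx_iff]; simp
theorem sm_iff (e f : En) : sm J e f = true ↔ Sm J e f := by simp [sm, Sm, cl]
theorem pm_iff (e f : En) (k : ℤ) (g : En) : pm J e f k g = true ↔ Pm J e f k g := by simp [pm, Pm, cl]
theorem d1_iff (a : En) : d1 K a = true ↔ D1 K a := by simp [d1, D1]
theorem d2_iff (a b : En) : d2 K a b = true ↔ D2 K a b := by simp [d2, D2, imp_iff_not_or]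
theorem d3_iff (a b c : En) : d3 K a b c = true ↔ D3 K a b c := by simp [d3, D3, imp_iff_not_or]
theorem d4_iff (a b c d : En) : d4 K a b c d = true ↔ D4 K a b c d := by simp [d4, D4, imp_iff_not_or]

/-- `T2` -/
def t2 : Bool := al R (fun c => !z J c && d1 K c) fun c => al R (fun c' => sm J c' c && d2 K c c' && B c c' == 0) fun c' =>
  al R (fun d => !z J d && d3 K c c' d) fun d => al R (fun d' => sm J d' d && d4 K c c' d d' && B d d' == 0) fun d' =>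
    (R.filter (z J)).any fun a => B a c == 0 && (B a c' == 0 && (B a d == 0 && B a d' == 0))

/-- `T3` -/
def t3 : Bool := al R (fun a => z J a && d1 K a) fun a => al R (fun a' => z J a' && d2 K a a' && B a a' == -1) fun a' =>
  al R (fun c => !z J c && B a c == 0 && B a' c == 0) fun c => fx K c ||
    al (R.filter (z J)) (fun b => B b a == 0 && B b a' == 0 && B b c == 0) fun b =>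
      al (R.filter (z J)) (fun b' => B b b' == -1 && B b' a == 0 && B b' a' == 0) fun b' => B b' c != 0

/-- `T4` -/
def t4 : Bool := al R (fun a => z J a && d1 K a) fun a => al R (z J) fun a' =>
  (R.filter (z J)).any fun b => B a b != 0 && B a' b != 0

/-- `T6` -/
def t6 : Bool := al R (fun c => !z J c && d1 K c) fun c => al R (fun c' => sm J c' c && d2 K c c' && B c c' == 0) fun c' =>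
  al R (fun c'' => sm J c'' c && B c c'' == 0 && B c' c'' == 0) fun c'' => al R (fun d => !z J d && d3 K c c' d) fun d =>
    pm J d c 0 c || (fx K d || [c, c', c''].any fun x => (R.filter fun y => !z J y && !fx K y).all fun y =>
      pm J y c 0 c || (pm J y d 0 c || pm J y d (B d x) c))

theorem core_of (h : ∀ i, i ∈ K ↔ i ∉ J) (h2 : t2 K J R = true) (h3 : t3 K J R = true) (h4 : t4 K J R = true)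
    (h6 : t6 K J R = true) : Core K J R := by
  simp only [t2, t3, t4, t6, al_iff, Bool.and_eq_true, Bool.or_eq_true, z_iff, nz_iff, fx_iff, nfx_iff, sm_iff, pm_iff, d1_iff,
    d2_iff, d3_iff, d4_iff, beq_iff_eq, bne_iff_ne, List.any_eq_true, List.all_eq_true, List.mem_filter, and_imp,
    and_assoc] at h2 h3 h4 h6
  exact ⟨h, h2, h3, h4, h6⟩

/-- witnesses for the exponent of `P / Q` -/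
def WL : List (List ℤ × ℤ) :=
  [([1,0,0,0,0,0,0,0],2),([0,1,0,0,0,0,0,0],2),([0,0,0,0,0,0,0,1],2),([0,0,0,0,0,0,1,0],2),([0,0,1,0,0,0,0,0],2),
  ([0,1,1,0,0,0,0,0],2),([0,0,0,0,0,1,0,0],2),([0,0,0,0,0,1,0,1],2),([0,0,0,0,1,0,0,0],2),([0,1,0,0,1,0,0,0],2),
  ([0,0,0,1,0,0,0,0],2),([1,0,0,1,0,0,0,0],2),([1,4,2,3,0,0,0,0],5),([0,0,1,0,1,0,0,0],2),([0,0,0,0,1,0,1,0],2),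
  ([1,0,2,3,4,0,0,0],5),([0,0,0,0,1,2,3,4],5),([0,1,0,0,1,0,1,0],2),([0,0,0,1,0,1,0,0],2),([0,1,0,2,3,4,0,0],5),
  ([0,0,1,2,3,4,0,0],5),([0,0,0,1,2,3,4,0],5),([1,0,0,1,0,1,0,0],2),([0,0,1,0,1,0,1,0],2),([0,0,0,1,0,1,0,1],2),
  ([1,0,2,3,4,5,6,0],7),([0,1,0,2,3,4,5,6],7),([0,0,1,2,3,4,5,6],7),([1,0,0,1,0,1,0,1],2)]

variable (C n)

/-- the exponent of `P / Q` does not divide three -/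
def Wit (S : Finset (Fin n)) : Prop := ∃ x ∈ WL, (∀ i, i ∉ S → x.1.getD i 0 = 0) ∧ (∃ i : Fin n, ¬ x.2 ∣ 3 * x.1.getD i 0) ∧
  ∀ j ∈ S, x.2 ∣ co C n (fun i => x.1.getD i 0) j

/-- a component of type `A₂` -/
def Two (S : Finset (Fin n)) : Prop := ∃ i ∈ S, ∀ b ∈ R, (∀ j, j ∉ S → u b j = 0) → v b i = -1 → ∀ j ∈ S,
  3 ∣ v b j - cartanOf C n i j

/-- the list of the roots; the lattice fact `L2` -/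
def Ok : Prop := SL C n ∧ R = (List.finRange C.nroots).map (fun s : Fin C.nroots => ent C n (vec C n s)) ∧
  ∀ i : Fin n, ∀ b ∈ R, v b i = -1 → ∃ j, ¬ 3 ∣ v b j - cartanOf C n i j

instance Wit.dec (S : Finset (Fin n)) : Decidable (Wit n C S) := by unfold Wit; infer_instance
instance Two.dec (S : Finset (Fin n)) : Decidable (Two n C R S) := by unfold Two; infer_instance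
instance Ok.dec : Decidable (Ok n C R) := by unfold Ok; infer_instance

section

local notation "m1" => Int.negSucc 0
local notation "m2" => Int.negSucc 1
local notation "m3" => Int.negSucc 2
local notation "m4" => Int.negSucc 3
local notation "m5" => Int.negSucc 4
local notation "m6" => Int.negSucc 5
local notation "e" => @Prod.mk (List ℤ) (List ℤ)

/-- the roots and coroots of `E6` -/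
def R6 : List En :=
  [e [m1,m2,m2,m3,m2,m1] [0,m1,0,0,0,0],e [m1,m1,m2,m3,m2,m1] [0,1,0,m1,0,0],e [m1,m1,m2,m2,m2,m1] [0,0,m1,1,m1,0],
  e [m1,m1,m2,m2,m1,m1] [0,0,m1,0,1,m1],e [m1,m1,m2,m2,m1,0] [0,0,m1,0,0,1],e [m1,m1,m1,m2,m2,m1] [m1,0,1,0,m1,0],
  e [m1,m1,m1,m2,m1,m1] [m1,0,1,m1,1,m1],e [m1,m1,m1,m2,m1,0] [m1,0,1,m1,0,1],e [m1,m1,m1,m1,m1,m1] [m1,m1,0,1,0,m1],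
  e [m1,m1,m1,m1,m1,0] [m1,m1,0,1,m1,1],e [m1,m1,m1,m1,0,0] [m1,m1,0,0,1,0],e [m1,0,m1,m1,m1,m1] [m1,1,0,0,0,m1],
  e [m1,0,m1,m1,m1,0] [m1,1,0,0,m1,1],e [m1,0,m1,m1,0,0] [m1,1,0,m1,1,0],e [m1,0,m1,0,0,0] [m1,0,m1,1,0,0],
  e [m1,0,0,0,0,0] [m2,0,1,0,0,0],e [0,m1,m1,m2,m2,m1] [1,0,0,0,m1,0],e [0,m1,m1,m2,m1,m1] [1,0,0,m1,1,m1],
  e [0,m1,m1,m2,m1,0] [1,0,0,m1,0,1],e [0,m1,m1,m1,m1,m1] [1,m1,m1,1,0,m1],e [0,m1,m1,m1,m1,0] [1,m1,m1,1,m1,1],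
  e [0,m1,m1,m1,0,0] [1,m1,m1,0,1,0],e [0,m1,0,m1,m1,m1] [0,m1,1,0,0,m1],e [0,m1,0,m1,m1,0] [0,m1,1,0,m1,1],
  e [0,m1,0,m1,0,0] [0,m1,1,m1,1,0],e [0,m1,0,0,0,0] [0,m2,0,1,0,0],e [0,0,m1,m1,m1,m1] [1,1,m1,0,0,m1],
  e [0,0,m1,m1,m1,0] [1,1,m1,0,m1,1],e [0,0,m1,m1,0,0] [1,1,m1,m1,1,0],e [0,0,m1,0,0,0] [1,0,m2,1,0,0],
  e [0,0,0,m1,m1,m1] [0,1,1,m1,0,m1],e [0,0,0,m1,m1,0] [0,1,1,m1,m1,1],e [0,0,0,m1,0,0] [0,1,1,m2,1,0],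
  e [0,0,0,0,m1,m1] [0,0,0,1,m1,m1],e [0,0,0,0,m1,0] [0,0,0,1,m2,1],e [0,0,0,0,0,m1] [0,0,0,0,1,m2],
  e [0,0,0,0,0,1] [0,0,0,0,m1,2],e [0,0,0,0,1,0] [0,0,0,m1,2,m1],e [0,0,0,0,1,1] [0,0,0,m1,1,1],
  e [0,0,0,1,0,0] [0,m1,m1,2,m1,0],e [0,0,0,1,1,0] [0,m1,m1,1,1,m1],e [0,0,0,1,1,1] [0,m1,m1,1,0,1],
  e [0,0,1,0,0,0] [m1,0,2,m1,0,0],e [0,0,1,1,0,0] [m1,m1,1,1,m1,0],e [0,0,1,1,1,0] [m1,m1,1,0,1,m1],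
  e [0,0,1,1,1,1] [m1,m1,1,0,0,1],e [0,1,0,0,0,0] [0,2,0,m1,0,0],e [0,1,0,1,0,0] [0,1,m1,1,m1,0],
  e [0,1,0,1,1,0] [0,1,m1,0,1,m1],e [0,1,0,1,1,1] [0,1,m1,0,0,1],e [0,1,1,1,0,0] [m1,1,1,0,m1,0],
  e [0,1,1,1,1,0] [m1,1,1,m1,1,m1],e [0,1,1,1,1,1] [m1,1,1,m1,0,1],e [0,1,1,2,1,0] [m1,0,0,1,0,m1],
  e [0,1,1,2,1,1] [m1,0,0,1,m1,1],e [0,1,1,2,2,1] [m1,0,0,0,1,0],e [1,0,0,0,0,0] [2,0,m1,0,0,0],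
  e [1,0,1,0,0,0] [1,0,1,m1,0,0],e [1,0,1,1,0,0] [1,m1,0,1,m1,0],e [1,0,1,1,1,0] [1,m1,0,0,1,m1],
  e [1,0,1,1,1,1] [1,m1,0,0,0,1],e [1,1,1,1,0,0] [1,1,0,0,m1,0],e [1,1,1,1,1,0] [1,1,0,m1,1,m1],
  e [1,1,1,1,1,1] [1,1,0,m1,0,1],e [1,1,1,2,1,0] [1,0,m1,1,0,m1],e [1,1,1,2,1,1] [1,0,m1,1,m1,1],
  e [1,1,1,2,2,1] [1,0,m1,0,1,0],e [1,1,2,2,1,0] [0,0,1,0,0,m1],e [1,1,2,2,1,1] [0,0,1,0,m1,1],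
  e [1,1,2,2,2,1] [0,0,1,m1,1,0],e [1,1,2,3,2,1] [0,m1,0,1,0,0],e [1,2,2,3,2,1] [0,1,0,0,0,0]]

/-- the roots and coroots of `E7` -/
def R7 : List En :=
  [e [m2,m2,m3,m4,m3,m2,m1] [m1,0,0,0,0,0,0],e [m1,m2,m3,m4,m3,m2,m1] [1,0,m1,0,0,0,0],
  e [m1,m2,m2,m4,m3,m2,m1] [0,0,1,m1,0,0,0],e [m1,m2,m2,m3,m3,m2,m1] [0,m1,0,1,m1,0,0],
  e [m1,m2,m2,m3,m2,m2,m1] [0,m1,0,0,1,m1,0],e [m1,m2,m2,m3,m2,m1,m1] [0,m1,0,0,0,1,m1],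
  e [m1,m2,m2,m3,m2,m1,0] [0,m1,0,0,0,0,1],e [m1,m1,m2,m3,m3,m2,m1] [0,1,0,0,m1,0,0],
  e [m1,m1,m2,m3,m2,m2,m1] [0,1,0,m1,1,m1,0],e [m1,m1,m2,m3,m2,m1,m1] [0,1,0,m1,0,1,m1],
  e [m1,m1,m2,m3,m2,m1,0] [0,1,0,m1,0,0,1],e [m1,m1,m2,m2,m2,m2,m1] [0,0,m1,1,0,m1,0],
  e [m1,m1,m2,m2,m2,m1,m1] [0,0,m1,1,m1,1,m1],e [m1,m1,m2,m2,m2,m1,0] [0,0,m1,1,m1,0,1],
  e [m1,m1,m2,m2,m1,m1,m1] [0,0,m1,0,1,0,m1],e [m1,m1,m2,m2,m1,m1,0] [0,0,m1,0,1,m1,1],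
  e [m1,m1,m2,m2,m1,0,0] [0,0,m1,0,0,1,0],e [m1,m1,m1,m2,m2,m2,m1] [m1,0,1,0,0,m1,0],
  e [m1,m1,m1,m2,m2,m1,m1] [m1,0,1,0,m1,1,m1],e [m1,m1,m1,m2,m2,m1,0] [m1,0,1,0,m1,0,1],
  e [m1,m1,m1,m2,m1,m1,m1] [m1,0,1,m1,1,0,m1],e [m1,m1,m1,m2,m1,m1,0] [m1,0,1,m1,1,m1,1],
  e [m1,m1,m1,m2,m1,0,0] [m1,0,1,m1,0,1,0],e [m1,m1,m1,m1,m1,m1,m1] [m1,m1,0,1,0,0,m1],
  e [m1,m1,m1,m1,m1,m1,0] [m1,m1,0,1,0,m1,1],e [m1,m1,m1,m1,m1,0,0] [m1,m1,0,1,m1,1,0],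
  e [m1,m1,m1,m1,0,0,0] [m1,m1,0,0,1,0,0],e [m1,0,m1,m1,m1,m1,m1] [m1,1,0,0,0,0,m1],e [m1,0,m1,m1,m1,m1,0] [m1,1,0,0,0,m1,1],
  e [m1,0,m1,m1,m1,0,0] [m1,1,0,0,m1,1,0],e [m1,0,m1,m1,0,0,0] [m1,1,0,m1,1,0,0],e [m1,0,m1,0,0,0,0] [m1,0,m1,1,0,0,0],
  e [m1,0,0,0,0,0,0] [m2,0,1,0,0,0,0],e [0,m1,m1,m2,m2,m2,m1] [1,0,0,0,0,m1,0],e [0,m1,m1,m2,m2,m1,m1] [1,0,0,0,m1,1,m1],
  e [0,m1,m1,m2,m2,m1,0] [1,0,0,0,m1,0,1],e [0,m1,m1,m2,m1,m1,m1] [1,0,0,m1,1,0,m1],e [0,m1,m1,m2,m1,m1,0] [1,0,0,m1,1,m1,1],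
  e [0,m1,m1,m2,m1,0,0] [1,0,0,m1,0,1,0],e [0,m1,m1,m1,m1,m1,m1] [1,m1,m1,1,0,0,m1],
  e [0,m1,m1,m1,m1,m1,0] [1,m1,m1,1,0,m1,1],e [0,m1,m1,m1,m1,0,0] [1,m1,m1,1,m1,1,0],e [0,m1,m1,m1,0,0,0] [1,m1,m1,0,1,0,0],
  e [0,m1,0,m1,m1,m1,m1] [0,m1,1,0,0,0,m1],e [0,m1,0,m1,m1,m1,0] [0,m1,1,0,0,m1,1],e [0,m1,0,m1,m1,0,0] [0,m1,1,0,m1,1,0],
  e [0,m1,0,m1,0,0,0] [0,m1,1,m1,1,0,0],e [0,m1,0,0,0,0,0] [0,m2,0,1,0,0,0],e [0,0,m1,m1,m1,m1,m1] [1,1,m1,0,0,0,m1],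
  e [0,0,m1,m1,m1,m1,0] [1,1,m1,0,0,m1,1],e [0,0,m1,m1,m1,0,0] [1,1,m1,0,m1,1,0],e [0,0,m1,m1,0,0,0] [1,1,m1,m1,1,0,0],
  e [0,0,m1,0,0,0,0] [1,0,m2,1,0,0,0],e [0,0,0,m1,m1,m1,m1] [0,1,1,m1,0,0,m1],e [0,0,0,m1,m1,m1,0] [0,1,1,m1,0,m1,1],
  e [0,0,0,m1,m1,0,0] [0,1,1,m1,m1,1,0],e [0,0,0,m1,0,0,0] [0,1,1,m2,1,0,0],e [0,0,0,0,m1,m1,m1] [0,0,0,1,m1,0,m1],
  e [0,0,0,0,m1,m1,0] [0,0,0,1,m1,m1,1],e [0,0,0,0,m1,0,0] [0,0,0,1,m2,1,0],e [0,0,0,0,0,m1,m1] [0,0,0,0,1,m1,m1],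
  e [0,0,0,0,0,m1,0] [0,0,0,0,1,m2,1],e [0,0,0,0,0,0,m1] [0,0,0,0,0,1,m2],e [0,0,0,0,0,0,1] [0,0,0,0,0,m1,2],
  e [0,0,0,0,0,1,0] [0,0,0,0,m1,2,m1],e [0,0,0,0,0,1,1] [0,0,0,0,m1,1,1],e [0,0,0,0,1,0,0] [0,0,0,m1,2,m1,0],
  e [0,0,0,0,1,1,0] [0,0,0,m1,1,1,m1],e [0,0,0,0,1,1,1] [0,0,0,m1,1,0,1],e [0,0,0,1,0,0,0] [0,m1,m1,2,m1,0,0],
  e [0,0,0,1,1,0,0] [0,m1,m1,1,1,m1,0],e [0,0,0,1,1,1,0] [0,m1,m1,1,0,1,m1],e [0,0,0,1,1,1,1] [0,m1,m1,1,0,0,1],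
  e [0,0,1,0,0,0,0] [m1,0,2,m1,0,0,0],e [0,0,1,1,0,0,0] [m1,m1,1,1,m1,0,0],e [0,0,1,1,1,0,0] [m1,m1,1,0,1,m1,0],
  e [0,0,1,1,1,1,0] [m1,m1,1,0,0,1,m1],e [0,0,1,1,1,1,1] [m1,m1,1,0,0,0,1],e [0,1,0,0,0,0,0] [0,2,0,m1,0,0,0],
  e [0,1,0,1,0,0,0] [0,1,m1,1,m1,0,0],e [0,1,0,1,1,0,0] [0,1,m1,0,1,m1,0],e [0,1,0,1,1,1,0] [0,1,m1,0,0,1,m1],
  e [0,1,0,1,1,1,1] [0,1,m1,0,0,0,1],e [0,1,1,1,0,0,0] [m1,1,1,0,m1,0,0],e [0,1,1,1,1,0,0] [m1,1,1,m1,1,m1,0],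
  e [0,1,1,1,1,1,0] [m1,1,1,m1,0,1,m1],e [0,1,1,1,1,1,1] [m1,1,1,m1,0,0,1],e [0,1,1,2,1,0,0] [m1,0,0,1,0,m1,0],
  e [0,1,1,2,1,1,0] [m1,0,0,1,m1,1,m1],e [0,1,1,2,1,1,1] [m1,0,0,1,m1,0,1],e [0,1,1,2,2,1,0] [m1,0,0,0,1,0,m1],
  e [0,1,1,2,2,1,1] [m1,0,0,0,1,m1,1],e [0,1,1,2,2,2,1] [m1,0,0,0,0,1,0],e [1,0,0,0,0,0,0] [2,0,m1,0,0,0,0],
  e [1,0,1,0,0,0,0] [1,0,1,m1,0,0,0],e [1,0,1,1,0,0,0] [1,m1,0,1,m1,0,0],e [1,0,1,1,1,0,0] [1,m1,0,0,1,m1,0],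
  e [1,0,1,1,1,1,0] [1,m1,0,0,0,1,m1],e [1,0,1,1,1,1,1] [1,m1,0,0,0,0,1],e [1,1,1,1,0,0,0] [1,1,0,0,m1,0,0],
  e [1,1,1,1,1,0,0] [1,1,0,m1,1,m1,0],e [1,1,1,1,1,1,0] [1,1,0,m1,0,1,m1],e [1,1,1,1,1,1,1] [1,1,0,m1,0,0,1],
  e [1,1,1,2,1,0,0] [1,0,m1,1,0,m1,0],e [1,1,1,2,1,1,0] [1,0,m1,1,m1,1,m1],e [1,1,1,2,1,1,1] [1,0,m1,1,m1,0,1],
  e [1,1,1,2,2,1,0] [1,0,m1,0,1,0,m1],e [1,1,1,2,2,1,1] [1,0,m1,0,1,m1,1],e [1,1,1,2,2,2,1] [1,0,m1,0,0,1,0],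
  e [1,1,2,2,1,0,0] [0,0,1,0,0,m1,0],e [1,1,2,2,1,1,0] [0,0,1,0,m1,1,m1],e [1,1,2,2,1,1,1] [0,0,1,0,m1,0,1],
  e [1,1,2,2,2,1,0] [0,0,1,m1,1,0,m1],e [1,1,2,2,2,1,1] [0,0,1,m1,1,m1,1],e [1,1,2,2,2,2,1] [0,0,1,m1,0,1,0],
  e [1,1,2,3,2,1,0] [0,m1,0,1,0,0,m1],e [1,1,2,3,2,1,1] [0,m1,0,1,0,m1,1],e [1,1,2,3,2,2,1] [0,m1,0,1,m1,1,0],
  e [1,1,2,3,3,2,1] [0,m1,0,0,1,0,0],e [1,2,2,3,2,1,0] [0,1,0,0,0,0,m1],e [1,2,2,3,2,1,1] [0,1,0,0,0,m1,1],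
  e [1,2,2,3,2,2,1] [0,1,0,0,m1,1,0],e [1,2,2,3,3,2,1] [0,1,0,m1,1,0,0],e [1,2,2,4,3,2,1] [0,0,m1,1,0,0,0],
  e [1,2,3,4,3,2,1] [m1,0,1,0,0,0,0],e [2,2,3,4,3,2,1] [1,0,0,0,0,0,0]]

/-- the roots and coroots of `E8` -/
def R8 : List En :=
  [e [m2,m3,m4,m6,m5,m4,m3,m2] [0,0,0,0,0,0,0,m1],e [m2,m3,m4,m6,m5,m4,m3,m1] [0,0,0,0,0,0,m1,1],
  e [m2,m3,m4,m6,m5,m4,m2,m1] [0,0,0,0,0,m1,1,0],e [m2,m3,m4,m6,m5,m3,m2,m1] [0,0,0,0,m1,1,0,0],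
  e [m2,m3,m4,m6,m4,m3,m2,m1] [0,0,0,m1,1,0,0,0],e [m2,m3,m4,m5,m4,m3,m2,m1] [0,m1,m1,1,0,0,0,0],
  e [m2,m3,m3,m5,m4,m3,m2,m1] [m1,m1,1,0,0,0,0,0],e [m2,m2,m4,m5,m4,m3,m2,m1] [0,1,m1,0,0,0,0,0],
  e [m2,m2,m3,m5,m4,m3,m2,m1] [m1,1,1,m1,0,0,0,0],e [m2,m2,m3,m4,m4,m3,m2,m1] [m1,0,0,1,m1,0,0,0],
  e [m2,m2,m3,m4,m3,m3,m2,m1] [m1,0,0,0,1,m1,0,0],e [m2,m2,m3,m4,m3,m2,m2,m1] [m1,0,0,0,0,1,m1,0],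
  e [m2,m2,m3,m4,m3,m2,m1,m1] [m1,0,0,0,0,0,1,m1],e [m2,m2,m3,m4,m3,m2,m1,0] [m1,0,0,0,0,0,0,1],
  e [m1,m3,m3,m5,m4,m3,m2,m1] [1,m1,0,0,0,0,0,0],e [m1,m2,m3,m5,m4,m3,m2,m1] [1,1,0,m1,0,0,0,0],
  e [m1,m2,m3,m4,m4,m3,m2,m1] [1,0,m1,1,m1,0,0,0],e [m1,m2,m3,m4,m3,m3,m2,m1] [1,0,m1,0,1,m1,0,0],
  e [m1,m2,m3,m4,m3,m2,m2,m1] [1,0,m1,0,0,1,m1,0],e [m1,m2,m3,m4,m3,m2,m1,m1] [1,0,m1,0,0,0,1,m1],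
  e [m1,m2,m3,m4,m3,m2,m1,0] [1,0,m1,0,0,0,0,1],e [m1,m2,m2,m4,m4,m3,m2,m1] [0,0,1,0,m1,0,0,0],
  e [m1,m2,m2,m4,m3,m3,m2,m1] [0,0,1,m1,1,m1,0,0],e [m1,m2,m2,m4,m3,m2,m2,m1] [0,0,1,m1,0,1,m1,0],
  e [m1,m2,m2,m4,m3,m2,m1,m1] [0,0,1,m1,0,0,1,m1],e [m1,m2,m2,m4,m3,m2,m1,0] [0,0,1,m1,0,0,0,1],
  e [m1,m2,m2,m3,m3,m3,m2,m1] [0,m1,0,1,0,m1,0,0],e [m1,m2,m2,m3,m3,m2,m2,m1] [0,m1,0,1,m1,1,m1,0],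
  e [m1,m2,m2,m3,m3,m2,m1,m1] [0,m1,0,1,m1,0,1,m1],e [m1,m2,m2,m3,m3,m2,m1,0] [0,m1,0,1,m1,0,0,1],
  e [m1,m2,m2,m3,m2,m2,m2,m1] [0,m1,0,0,1,0,m1,0],e [m1,m2,m2,m3,m2,m2,m1,m1] [0,m1,0,0,1,m1,1,m1],
  e [m1,m2,m2,m3,m2,m2,m1,0] [0,m1,0,0,1,m1,0,1],e [m1,m2,m2,m3,m2,m1,m1,m1] [0,m1,0,0,0,1,0,m1],
  e [m1,m2,m2,m3,m2,m1,m1,0] [0,m1,0,0,0,1,m1,1],e [m1,m2,m2,m3,m2,m1,0,0] [0,m1,0,0,0,0,1,0],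
  e [m1,m1,m2,m3,m3,m3,m2,m1] [0,1,0,0,0,m1,0,0],e [m1,m1,m2,m3,m3,m2,m2,m1] [0,1,0,0,m1,1,m1,0],
  e [m1,m1,m2,m3,m3,m2,m1,m1] [0,1,0,0,m1,0,1,m1],e [m1,m1,m2,m3,m3,m2,m1,0] [0,1,0,0,m1,0,0,1],
  e [m1,m1,m2,m3,m2,m2,m2,m1] [0,1,0,m1,1,0,m1,0],e [m1,m1,m2,m3,m2,m2,m1,m1] [0,1,0,m1,1,m1,1,m1],
  e [m1,m1,m2,m3,m2,m2,m1,0] [0,1,0,m1,1,m1,0,1],e [m1,m1,m2,m3,m2,m1,m1,m1] [0,1,0,m1,0,1,0,m1],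
  e [m1,m1,m2,m3,m2,m1,m1,0] [0,1,0,m1,0,1,m1,1],e [m1,m1,m2,m3,m2,m1,0,0] [0,1,0,m1,0,0,1,0],
  e [m1,m1,m2,m2,m2,m2,m2,m1] [0,0,m1,1,0,0,m1,0],e [m1,m1,m2,m2,m2,m2,m1,m1] [0,0,m1,1,0,m1,1,m1],
  e [m1,m1,m2,m2,m2,m2,m1,0] [0,0,m1,1,0,m1,0,1],e [m1,m1,m2,m2,m2,m1,m1,m1] [0,0,m1,1,m1,1,0,m1],
  e [m1,m1,m2,m2,m2,m1,m1,0] [0,0,m1,1,m1,1,m1,1],e [m1,m1,m2,m2,m2,m1,0,0] [0,0,m1,1,m1,0,1,0],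
  e [m1,m1,m2,m2,m1,m1,m1,m1] [0,0,m1,0,1,0,0,m1],e [m1,m1,m2,m2,m1,m1,m1,0] [0,0,m1,0,1,0,m1,1],
  e [m1,m1,m2,m2,m1,m1,0,0] [0,0,m1,0,1,m1,1,0],e [m1,m1,m2,m2,m1,0,0,0] [0,0,m1,0,0,1,0,0],
  e [m1,m1,m1,m2,m2,m2,m2,m1] [m1,0,1,0,0,0,m1,0],e [m1,m1,m1,m2,m2,m2,m1,m1] [m1,0,1,0,0,m1,1,m1],
  e [m1,m1,m1,m2,m2,m2,m1,0] [m1,0,1,0,0,m1,0,1],e [m1,m1,m1,m2,m2,m1,m1,m1] [m1,0,1,0,m1,1,0,m1],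
  e [m1,m1,m1,m2,m2,m1,m1,0] [m1,0,1,0,m1,1,m1,1],e [m1,m1,m1,m2,m2,m1,0,0] [m1,0,1,0,m1,0,1,0],
  e [m1,m1,m1,m2,m1,m1,m1,m1] [m1,0,1,m1,1,0,0,m1],e [m1,m1,m1,m2,m1,m1,m1,0] [m1,0,1,m1,1,0,m1,1],
  e [m1,m1,m1,m2,m1,m1,0,0] [m1,0,1,m1,1,m1,1,0],e [m1,m1,m1,m2,m1,0,0,0] [m1,0,1,m1,0,1,0,0],
  e [m1,m1,m1,m1,m1,m1,m1,m1] [m1,m1,0,1,0,0,0,m1],e [m1,m1,m1,m1,m1,m1,m1,0] [m1,m1,0,1,0,0,m1,1],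
  e [m1,m1,m1,m1,m1,m1,0,0] [m1,m1,0,1,0,m1,1,0],e [m1,m1,m1,m1,m1,0,0,0] [m1,m1,0,1,m1,1,0,0],
  e [m1,m1,m1,m1,0,0,0,0] [m1,m1,0,0,1,0,0,0],e [m1,0,m1,m1,m1,m1,m1,m1] [m1,1,0,0,0,0,0,m1],
  e [m1,0,m1,m1,m1,m1,m1,0] [m1,1,0,0,0,0,m1,1],e [m1,0,m1,m1,m1,m1,0,0] [m1,1,0,0,0,m1,1,0],
  e [m1,0,m1,m1,m1,0,0,0] [m1,1,0,0,m1,1,0,0],e [m1,0,m1,m1,0,0,0,0] [m1,1,0,m1,1,0,0,0],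
  e [m1,0,m1,0,0,0,0,0] [m1,0,m1,1,0,0,0,0],e [m1,0,0,0,0,0,0,0] [m2,0,1,0,0,0,0,0],
  e [0,m1,m1,m2,m2,m2,m2,m1] [1,0,0,0,0,0,m1,0],e [0,m1,m1,m2,m2,m2,m1,m1] [1,0,0,0,0,m1,1,m1],
  e [0,m1,m1,m2,m2,m2,m1,0] [1,0,0,0,0,m1,0,1],e [0,m1,m1,m2,m2,m1,m1,m1] [1,0,0,0,m1,1,0,m1],
  e [0,m1,m1,m2,m2,m1,m1,0] [1,0,0,0,m1,1,m1,1],e [0,m1,m1,m2,m2,m1,0,0] [1,0,0,0,m1,0,1,0],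
  e [0,m1,m1,m2,m1,m1,m1,m1] [1,0,0,m1,1,0,0,m1],e [0,m1,m1,m2,m1,m1,m1,0] [1,0,0,m1,1,0,m1,1],
  e [0,m1,m1,m2,m1,m1,0,0] [1,0,0,m1,1,m1,1,0],e [0,m1,m1,m2,m1,0,0,0] [1,0,0,m1,0,1,0,0],
  e [0,m1,m1,m1,m1,m1,m1,m1] [1,m1,m1,1,0,0,0,m1],e [0,m1,m1,m1,m1,m1,m1,0] [1,m1,m1,1,0,0,m1,1],
  e [0,m1,m1,m1,m1,m1,0,0] [1,m1,m1,1,0,m1,1,0],e [0,m1,m1,m1,m1,0,0,0] [1,m1,m1,1,m1,1,0,0],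
  e [0,m1,m1,m1,0,0,0,0] [1,m1,m1,0,1,0,0,0],e [0,m1,0,m1,m1,m1,m1,m1] [0,m1,1,0,0,0,0,m1],
  e [0,m1,0,m1,m1,m1,m1,0] [0,m1,1,0,0,0,m1,1],e [0,m1,0,m1,m1,m1,0,0] [0,m1,1,0,0,m1,1,0],
  e [0,m1,0,m1,m1,0,0,0] [0,m1,1,0,m1,1,0,0],e [0,m1,0,m1,0,0,0,0] [0,m1,1,m1,1,0,0,0],
  e [0,m1,0,0,0,0,0,0] [0,m2,0,1,0,0,0,0],e [0,0,m1,m1,m1,m1,m1,m1] [1,1,m1,0,0,0,0,m1],
  e [0,0,m1,m1,m1,m1,m1,0] [1,1,m1,0,0,0,m1,1],e [0,0,m1,m1,m1,m1,0,0] [1,1,m1,0,0,m1,1,0],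
  e [0,0,m1,m1,m1,0,0,0] [1,1,m1,0,m1,1,0,0],e [0,0,m1,m1,0,0,0,0] [1,1,m1,m1,1,0,0,0],
  e [0,0,m1,0,0,0,0,0] [1,0,m2,1,0,0,0,0],e [0,0,0,m1,m1,m1,m1,m1] [0,1,1,m1,0,0,0,m1],
  e [0,0,0,m1,m1,m1,m1,0] [0,1,1,m1,0,0,m1,1],e [0,0,0,m1,m1,m1,0,0] [0,1,1,m1,0,m1,1,0],
  e [0,0,0,m1,m1,0,0,0] [0,1,1,m1,m1,1,0,0],e [0,0,0,m1,0,0,0,0] [0,1,1,m2,1,0,0,0],
  e [0,0,0,0,m1,m1,m1,m1] [0,0,0,1,m1,0,0,m1],e [0,0,0,0,m1,m1,m1,0] [0,0,0,1,m1,0,m1,1],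
  e [0,0,0,0,m1,m1,0,0] [0,0,0,1,m1,m1,1,0],e [0,0,0,0,m1,0,0,0] [0,0,0,1,m2,1,0,0],
  e [0,0,0,0,0,m1,m1,m1] [0,0,0,0,1,m1,0,m1],e [0,0,0,0,0,m1,m1,0] [0,0,0,0,1,m1,m1,1],
  e [0,0,0,0,0,m1,0,0] [0,0,0,0,1,m2,1,0],e [0,0,0,0,0,0,m1,m1] [0,0,0,0,0,1,m1,m1],e [0,0,0,0,0,0,m1,0] [0,0,0,0,0,1,m2,1],
  e [0,0,0,0,0,0,0,m1] [0,0,0,0,0,0,1,m2],e [0,0,0,0,0,0,0,1] [0,0,0,0,0,0,m1,2],e [0,0,0,0,0,0,1,0] [0,0,0,0,0,m1,2,m1],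
  e [0,0,0,0,0,0,1,1] [0,0,0,0,0,m1,1,1],e [0,0,0,0,0,1,0,0] [0,0,0,0,m1,2,m1,0],e [0,0,0,0,0,1,1,0] [0,0,0,0,m1,1,1,m1],
  e [0,0,0,0,0,1,1,1] [0,0,0,0,m1,1,0,1],e [0,0,0,0,1,0,0,0] [0,0,0,m1,2,m1,0,0],e [0,0,0,0,1,1,0,0] [0,0,0,m1,1,1,m1,0],
  e [0,0,0,0,1,1,1,0] [0,0,0,m1,1,0,1,m1],e [0,0,0,0,1,1,1,1] [0,0,0,m1,1,0,0,1],e [0,0,0,1,0,0,0,0] [0,m1,m1,2,m1,0,0,0],
  e [0,0,0,1,1,0,0,0] [0,m1,m1,1,1,m1,0,0],e [0,0,0,1,1,1,0,0] [0,m1,m1,1,0,1,m1,0],e [0,0,0,1,1,1,1,0] [0,m1,m1,1,0,0,1,m1],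
  e [0,0,0,1,1,1,1,1] [0,m1,m1,1,0,0,0,1],e [0,0,1,0,0,0,0,0] [m1,0,2,m1,0,0,0,0],e [0,0,1,1,0,0,0,0] [m1,m1,1,1,m1,0,0,0],
  e [0,0,1,1,1,0,0,0] [m1,m1,1,0,1,m1,0,0],e [0,0,1,1,1,1,0,0] [m1,m1,1,0,0,1,m1,0],e [0,0,1,1,1,1,1,0] [m1,m1,1,0,0,0,1,m1],
  e [0,0,1,1,1,1,1,1] [m1,m1,1,0,0,0,0,1],e [0,1,0,0,0,0,0,0] [0,2,0,m1,0,0,0,0],e [0,1,0,1,0,0,0,0] [0,1,m1,1,m1,0,0,0],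
  e [0,1,0,1,1,0,0,0] [0,1,m1,0,1,m1,0,0],e [0,1,0,1,1,1,0,0] [0,1,m1,0,0,1,m1,0],e [0,1,0,1,1,1,1,0] [0,1,m1,0,0,0,1,m1],
  e [0,1,0,1,1,1,1,1] [0,1,m1,0,0,0,0,1],e [0,1,1,1,0,0,0,0] [m1,1,1,0,m1,0,0,0],e [0,1,1,1,1,0,0,0] [m1,1,1,m1,1,m1,0,0],
  e [0,1,1,1,1,1,0,0] [m1,1,1,m1,0,1,m1,0],e [0,1,1,1,1,1,1,0] [m1,1,1,m1,0,0,1,m1],e [0,1,1,1,1,1,1,1] [m1,1,1,m1,0,0,0,1],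
  e [0,1,1,2,1,0,0,0] [m1,0,0,1,0,m1,0,0],e [0,1,1,2,1,1,0,0] [m1,0,0,1,m1,1,m1,0],e [0,1,1,2,1,1,1,0] [m1,0,0,1,m1,0,1,m1],
  e [0,1,1,2,1,1,1,1] [m1,0,0,1,m1,0,0,1],e [0,1,1,2,2,1,0,0] [m1,0,0,0,1,0,m1,0],e [0,1,1,2,2,1,1,0] [m1,0,0,0,1,m1,1,m1],
  e [0,1,1,2,2,1,1,1] [m1,0,0,0,1,m1,0,1],e [0,1,1,2,2,2,1,0] [m1,0,0,0,0,1,0,m1],e [0,1,1,2,2,2,1,1] [m1,0,0,0,0,1,m1,1],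
  e [0,1,1,2,2,2,2,1] [m1,0,0,0,0,0,1,0],e [1,0,0,0,0,0,0,0] [2,0,m1,0,0,0,0,0],e [1,0,1,0,0,0,0,0] [1,0,1,m1,0,0,0,0],
  e [1,0,1,1,0,0,0,0] [1,m1,0,1,m1,0,0,0],e [1,0,1,1,1,0,0,0] [1,m1,0,0,1,m1,0,0],e [1,0,1,1,1,1,0,0] [1,m1,0,0,0,1,m1,0],
  e [1,0,1,1,1,1,1,0] [1,m1,0,0,0,0,1,m1],e [1,0,1,1,1,1,1,1] [1,m1,0,0,0,0,0,1],e [1,1,1,1,0,0,0,0] [1,1,0,0,m1,0,0,0],
  e [1,1,1,1,1,0,0,0] [1,1,0,m1,1,m1,0,0],e [1,1,1,1,1,1,0,0] [1,1,0,m1,0,1,m1,0],e [1,1,1,1,1,1,1,0] [1,1,0,m1,0,0,1,m1],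
  e [1,1,1,1,1,1,1,1] [1,1,0,m1,0,0,0,1],e [1,1,1,2,1,0,0,0] [1,0,m1,1,0,m1,0,0],e [1,1,1,2,1,1,0,0] [1,0,m1,1,m1,1,m1,0],
  e [1,1,1,2,1,1,1,0] [1,0,m1,1,m1,0,1,m1],e [1,1,1,2,1,1,1,1] [1,0,m1,1,m1,0,0,1],e [1,1,1,2,2,1,0,0] [1,0,m1,0,1,0,m1,0],
  e [1,1,1,2,2,1,1,0] [1,0,m1,0,1,m1,1,m1],e [1,1,1,2,2,1,1,1] [1,0,m1,0,1,m1,0,1],e [1,1,1,2,2,2,1,0] [1,0,m1,0,0,1,0,m1],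
  e [1,1,1,2,2,2,1,1] [1,0,m1,0,0,1,m1,1],e [1,1,1,2,2,2,2,1] [1,0,m1,0,0,0,1,0],e [1,1,2,2,1,0,0,0] [0,0,1,0,0,m1,0,0],
  e [1,1,2,2,1,1,0,0] [0,0,1,0,m1,1,m1,0],e [1,1,2,2,1,1,1,0] [0,0,1,0,m1,0,1,m1],e [1,1,2,2,1,1,1,1] [0,0,1,0,m1,0,0,1],
  e [1,1,2,2,2,1,0,0] [0,0,1,m1,1,0,m1,0],e [1,1,2,2,2,1,1,0] [0,0,1,m1,1,m1,1,m1],e [1,1,2,2,2,1,1,1] [0,0,1,m1,1,m1,0,1],
  e [1,1,2,2,2,2,1,0] [0,0,1,m1,0,1,0,m1],e [1,1,2,2,2,2,1,1] [0,0,1,m1,0,1,m1,1],e [1,1,2,2,2,2,2,1] [0,0,1,m1,0,0,1,0],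
  e [1,1,2,3,2,1,0,0] [0,m1,0,1,0,0,m1,0],e [1,1,2,3,2,1,1,0] [0,m1,0,1,0,m1,1,m1],e [1,1,2,3,2,1,1,1] [0,m1,0,1,0,m1,0,1],
  e [1,1,2,3,2,2,1,0] [0,m1,0,1,m1,1,0,m1],e [1,1,2,3,2,2,1,1] [0,m1,0,1,m1,1,m1,1],e [1,1,2,3,2,2,2,1] [0,m1,0,1,m1,0,1,0],
  e [1,1,2,3,3,2,1,0] [0,m1,0,0,1,0,0,m1],e [1,1,2,3,3,2,1,1] [0,m1,0,0,1,0,m1,1],e [1,1,2,3,3,2,2,1] [0,m1,0,0,1,m1,1,0],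
  e [1,1,2,3,3,3,2,1] [0,m1,0,0,0,1,0,0],e [1,2,2,3,2,1,0,0] [0,1,0,0,0,0,m1,0],e [1,2,2,3,2,1,1,0] [0,1,0,0,0,m1,1,m1],
  e [1,2,2,3,2,1,1,1] [0,1,0,0,0,m1,0,1],e [1,2,2,3,2,2,1,0] [0,1,0,0,m1,1,0,m1],e [1,2,2,3,2,2,1,1] [0,1,0,0,m1,1,m1,1],
  e [1,2,2,3,2,2,2,1] [0,1,0,0,m1,0,1,0],e [1,2,2,3,3,2,1,0] [0,1,0,m1,1,0,0,m1],e [1,2,2,3,3,2,1,1] [0,1,0,m1,1,0,m1,1],
  e [1,2,2,3,3,2,2,1] [0,1,0,m1,1,m1,1,0],e [1,2,2,3,3,3,2,1] [0,1,0,m1,0,1,0,0],e [1,2,2,4,3,2,1,0] [0,0,m1,1,0,0,0,m1],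
  e [1,2,2,4,3,2,1,1] [0,0,m1,1,0,0,m1,1],e [1,2,2,4,3,2,2,1] [0,0,m1,1,0,m1,1,0],e [1,2,2,4,3,3,2,1] [0,0,m1,1,m1,1,0,0],
  e [1,2,2,4,4,3,2,1] [0,0,m1,0,1,0,0,0],e [1,2,3,4,3,2,1,0] [m1,0,1,0,0,0,0,m1],e [1,2,3,4,3,2,1,1] [m1,0,1,0,0,0,m1,1],
  e [1,2,3,4,3,2,2,1] [m1,0,1,0,0,m1,1,0],e [1,2,3,4,3,3,2,1] [m1,0,1,0,m1,1,0,0],e [1,2,3,4,4,3,2,1] [m1,0,1,m1,1,0,0,0],
  e [1,2,3,5,4,3,2,1] [m1,m1,0,1,0,0,0,0],e [1,3,3,5,4,3,2,1] [m1,1,0,0,0,0,0,0],e [2,2,3,4,3,2,1,0] [1,0,0,0,0,0,0,m1],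
  e [2,2,3,4,3,2,1,1] [1,0,0,0,0,0,m1,1],e [2,2,3,4,3,2,2,1] [1,0,0,0,0,m1,1,0],e [2,2,3,4,3,3,2,1] [1,0,0,0,m1,1,0,0],
  e [2,2,3,4,4,3,2,1] [1,0,0,m1,1,0,0,0],e [2,2,3,5,4,3,2,1] [1,m1,m1,1,0,0,0,0],e [2,2,4,5,4,3,2,1] [0,m1,1,0,0,0,0,0],
  e [2,3,3,5,4,3,2,1] [1,1,m1,0,0,0,0,0],e [2,3,4,5,4,3,2,1] [0,1,1,m1,0,0,0,0],e [2,3,4,6,4,3,2,1] [0,0,0,1,m1,0,0,0],
  e [2,3,4,6,5,3,2,1] [0,0,0,0,1,m1,0,0],e [2,3,4,6,5,4,2,1] [0,0,0,0,0,1,m1,0],e [2,3,4,6,5,4,3,1] [0,0,0,0,0,0,1,m1],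
  e [2,3,4,6,5,4,3,2] [0,0,0,0,0,0,0,1]]

end

theorem ok6 : Ok 6 chevE6 R6 := by decide +kernel

theorem ok7 : Ok 7 chevE7 R7 := by decide +kernel

theorem ok8 : Ok 8 chevE8 R8 := by decide +kernel

theorem cls6 : ∀ S : Finset (Fin 6), S = ∅ ∨ Wit 6 chevE6 S ∨ S = [0, 1, 2, 3, 4, 5].toFinset ∨ Two 6 chevE6 R6 S := by
  decide +kernel

theorem cls7 : ∀ S : Finset (Fin 7), S = ∅ ∨ Wit 7 chevE7 S ∨ S = [0, 1, 2, 3, 4, 5].toFinset ∨ Two 7 chevE7 R7 S := by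
  decide +kernel

theorem cls8 : ∀ S : Finset (Fin 8), S = ∅ ∨ Wit 8 chevE8 S ∨
    (S = [0, 1, 2, 3, 4, 5].toFinset ∨ S = [0, 1, 2, 3, 4, 5, 6, 7].toFinset) ∨ Two 8 chevE8 R8 S := by
  decide +kernel

theorem core6 : Core (n := 6) [0, 1, 2, 3, 4, 5] [] R6 :=
  core_of _ _ _ (by decide) (by decide +kernel) (by decide +kernel) (by decide +kernel) (by decide +kernel)

theorem core7 : Core (n := 7) [0, 1, 2, 3, 4, 5] [6] R7 :=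
  core_of _ _ _ (by decide) (by decide +kernel) (by decide +kernel) (by decide +kernel) (by decide +kernel)

theorem core8 : Core (n := 8) [0, 1, 2, 3, 4, 5] [6, 7] R8 :=
  core_of _ _ _ (by decide) (by decide +kernel) (by decide +kernel) (by decide +kernel) (by decide +kernel)

theorem core8' : Core (n := 8) [0, 1, 2, 3, 4, 5, 6, 7] [] R8 :=
  core_of _ _ _ (by decide) (by decide +kernel) (by decide +kernel) (by decide +kernel) (by decide +kernel)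

end Cfsg.Agent.KM.Tor.Lc
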