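import Cfsg.Agent.KM.Tor.LC0
import Cfsg.Agent.KM.Tor.LC1

/-!
# KM, `l = 3`: `boxLC` (helper14)
-/

set_option autoImplicit false
set_option linter.unusedSectionVars false

namespace Cfsg.Agent.KM.Tor

open Cfsg Cfsg.Lie Cfsg.Agent.DL Cfsg.Agent.Nodes.Reps Matrix Cfsg.Agent.KZ.DatX Cfsg.Agent.Nodes.RGDChev
  Cfsg.Agent.ChevalleyStructure.NPerm Cfsg.Agent.ChevalleyStructure.CoxeterGeom
  Cfsg.Agent.ChevalleyStructure.CoxeterGeomTypes Cfsg.Agent.Tits.Roots TW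
open Cfsg.Agent.H92.NE (bl bl_comm bl_rep)
open Cfsg.Agent.TO.X.Cn (cl_add)
open Cfsg.Agent.KM.Ex (sr_dot)

namespace Lc

variable {C : ChevalleyDatum} {n : ℕ} {M : CoxeterMatrix (Fin n)} {hp : IsType C n M} {r : ℕ} [Fact r.Prime] {k : Type}
  [Field k] [CharP k r] [IsAlgClosed k] {Mx : Matrix (Fin n) (Fin n) ℤ} (X : XF hp r k Mx) {R : List En}
  {K J : List (Fin n)} {w : X.D.W} {Ψ : Set (X.D.I → ℤ)} {a b c d : X.D.I → ℤ}

theorem pr_co (h : SL C n) (a : X.D.I → ℤ) (hb : X.D.Rt b) : pr X.D a b = (a : Fin n → ℤ) ⬝ᵥ co C n b :=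
  congrArg ((a : Fin n → ℤ) ⬝ᵥ ·) (cor_eq X h hb)

theorem co_comm (h : SL C n) (a b : Fin n → ℤ) : a ⬝ᵥ co C n b = b ⬝ᵥ co C n a := by
  rw [dot_co, dot_co, bl_comm h.1.1]

theorem sl (h : SL C n) : Sl X.D := fun a b ha hb => (pr_co X h a hb).trans ((co_comm h a b).trans (pr_co X h b ha).symm)

theorem co_pr (h : SL C n) (a : X.D.I → ℤ) (j : Fin n) : co C n a j = pr X.D a (sr j) :=
  (sr_dot j _).symm.trans ((co_comm h _ a).trans (pr_co X h a (isRoot_sr _ _ j)).symm)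

theorem cartan_pr (h : SL C n) (i j : Fin n) : cartanOf C n i j = pr X.D (sr i) (sr j) :=
  (sr_dot i fun m => cartanOf C n m j).symm.trans (co_pr X h (sr i) j)

theorem B_pr (h : SL C n) (a : X.D.I → ℤ) (hb : X.D.Rt b) : B (ent C n a) (ent C n b) = pr X.D a b :=
  (B_ent a b).trans (pr_co X h a hb).symm

theorem v_pr (h : SL C n) (a : X.D.I → ℤ) (j : Fin n) : v (ent C n a) j = pr X.D a (sr j) := (v_ent a j).trans (co_pr X h a j)

theorem ent_mem (h : Ok n C R) (ha : X.D.Rt a) : ent C n a ∈ R := by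
  obtain ⟨s, hs, rfl⟩ := (X.rt_iff a).1 ha
  exact h.2.1 ▸ List.mem_map.2 ⟨⟨s, hs⟩, List.mem_finRange _, rfl⟩

theorem ex_ent (h : Ok n C R) {e : En} (he : e ∈ R) : ∃ a : X.D.I → ℤ, X.D.Rt a ∧ ent C n a = e :=
  let ⟨s, _, hs⟩ := List.mem_map.1 (h.2.1 ▸ he)
  ⟨_, rt_vec X s, hs⟩

theorem l2 (h : Ok n C R) : L2 X.D := fun a b ⟨g, i, ha⟩ hb e => by
  have h1 := rta g⁻¹ hb
  have h2 : pr X.D (sr i) (X.D.act g⁻¹ b) = -1 := by
    rw [← pr_act g _ h1, act_act_inv]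
    exact (congrArg (pr X.D · b) ha).symm.trans e
  obtain ⟨j, hj⟩ := h.2.2 i _ (ent_mem X h h1) ((v_pr X h.1 _ i).trans ((sl X h.1 _ _ h1 (isRoot_sr _ _ i)).trans h2))
  refine ⟨X.D.act g (sr j), rta g (isRoot_sr _ _ j), fun h3 => hj ?_⟩
  have h4 : pr X.D (X.D.act g (sr j)) a = cartanOf C n i j :=
    (congrArg _ ha).trans ((pr_act (X := X.D) g (sr j) (isRoot_sr _ _ i)).trans
      ((sl X h.1 _ _ (isRoot_sr _ _ j) (isRoot_sr _ _ i)).trans (cartan_pr X h.1 i j).symm))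
  have h5 : pr X.D (X.D.act g (sr j)) b = v (ent C n (X.D.act g⁻¹ b)) j := by
    rw [v_pr X h.1, ← act_act_inv g b, pr_act g _ h1, act_inv_act]
    exact sl X h.1 _ _ (isRoot_sr _ _ j) h1
  rw [dotProduct_sub] at h3
  rw [← h4, ← h5, ← dvd_neg, neg_sub]
  exact h3

theorem Wm_cl (h : SL C n) (w : X.D.W) (β : X.D.I → ℤ) : X.D.Wm w *ᵥ TO.X.Cn.cl X.D β = TO.X.Cn.cl X.D (X.D.act w β) := by
  refine (congrArg _ (K6.cl_co X β)).trans (Eq.trans (funext fun j => ?_) (K6.cl_co X _).symm)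
  refine (sr_dot j _).symm.trans ((dot_Wm (X := X.D) w (sr j) _).trans (Eq.trans ?_ (sr_dot j _)))
  have e := bl_rep hp h.1 w β (Ex.rp hp w⁻¹ (sr j))
  rw [show rep M.toCoxeterSystem hp.isCartan w (Ex.rp hp w⁻¹ (sr j)) = sr j from rep_apply_inv ..] at e
  exact (dot_co _ _).trans (e.symm.trans (dot_co _ _).symm)

theorem cl_inj {β : X.D.I → ℤ} (h : TO.X.Cn.cl X.D β = 0) : β = 0 := by
  refine eq_zero_of_mulVec_eq_zero (PP.det_cartan X.D) ?_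
  rw [← mulVec_mulVec, show (of X.D.cw)ᵀ *ᵥ β = TO.X.Cn.cl X.D β from funext fun j => by
    simp [TO.X.Cn.cl, mulVec, dotProduct, Finset.sum_apply, mul_comm], h, mulVec_zero]

theorem not_two (h : Ok n C R) {S : Finset (Fin n)} (hN : Nf X.D w S) (hk : Hk X.D w) : ¬ Two n C R S := by
  rintro ⟨i, hi, h1⟩
  have h2 := hN.sr_mem hi
  obtain ⟨_, ⟨β, rfl⟩, h3, h4⟩ := hk _ h2
  rw [Nm, Wm_cl X h.1, Wm_cl X h.1, ← cl_add, ← cl_add] at h3
  have h5 := h1 _ (ent_mem X h (rta w h2.1)) (fun j hj => (u_ent _ j).trans ((hN.cls _ hj).trans (sr_ne fun e => hj (e ▸ hi))))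
    ((v_pr X h.1 _ i).trans ((sl X h.1 _ _ (rta w h2.1) h2.1).trans (pr_w (sl X h.1) hN.cube h2)))
  refine h4 (((congrArg _ (K6.cl_co X β)).trans (co_comm h.1 _ β)).symm ▸ Finset.dvd_sum fun j _ => ?_)
  by_cases hj : j ∈ S
  · have h6 := h5 j hj
    rw [v_pr X h.1, cartan_pr X h.1, ← pr_sub, ← co_pr X h.1] at h6
    exact h6.mul_left _
  · have h6 := hN.nr_apply β hj
    rw [show Nr X.D w β = 0 from cl_inj X h3] at h6
    rw [show β j = 0 by have : (0 : ℤ) = 3 * β j := h6; omega, zero_mul]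
    exact dvd_zero _

/-- the classification of the normal forms -/
def Cls (C : ChevalleyDatum) (n : ℕ) (R : List En) : Prop :=
  ∀ S : Finset (Fin n), S = ∅ ∨ Wit n C S ∨ (∃ K J, S = K.toFinset ∧ Core K J R) ∨ Two n C R S

theorem good (h : Ok n C R) (hC : Cls C n R) {S : Finset (Fin n)} (hN : Nf X.D w S) (h1 : w ≠ 1) (hk : Hk X.D w) :
    ∃ K J, S = K.toFinset ∧ Core K J R := by
  rcases hC S with rfl | ⟨x, -, h2, ⟨i, h3⟩, h4⟩ | h2 | h2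
  · obtain ⟨a, ha⟩ := nz_ne hN.cube h1
    have h2 := pr_self ha.1
    rw [pr_lin, Finset.sum_eq_zero fun i _ => by rw [(hN.nz a ha.1).1 ha i (Finset.notMem_empty i), zero_mul]] at h2
    omega
  · exact (h3 (Nf.dvd (X := X.D) (x := fun i : Fin n => x.1.getD i 0) (sl X h.1) hN (fun i hi => h2 i hi)
      (fun j hj => (h4 j hj).trans (dvd_of_eq (co_pr X h.1 _ j))) i)).elim
  · exact h2
  · exact (not_two X h hN hk h2).elim

section

variable (h : Ok n C R) (hC : Core K J R) (hN : Nf X.D w K.toFinset)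
include h hC hN

omit h hN in
theorem mem_J {i : Fin n} : i ∉ K.toFinset ↔ i ∈ J := by rw [List.mem_toFinset, hC.1, not_not]

omit h in
theorem Z_iff (ha : X.D.Rt a) : Z J (ent C n a) ↔ a ∈ Nz X.D w :=
  (forall_congr' fun i => imp_congr (mem_J hC).symm (congrArg (· = 0) (u_ent a i)).to_iff).trans (hN.nz a ha).symm

omit hC in
theorem fix_of (e : Fx K (ent C n a)) : X.D.act w a = a :=
  let ⟨_, hy⟩ := hN.fix (d := 0) (sl X h.1) fun j hj => ((v_pr X h.1 a j).symm.trans (e j (List.mem_toFinset.1 hj))).symm ▸ dvd_rfl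
  hy.trans (by rw [zero_smul, add_zero])

omit h in
theorem sm_act (a : X.D.I → ℤ) : Sm J (ent C n (X.D.act w a)) (ent C n a) := fun j hj =>
  (u_ent _ j).trans ((hN.cls a ((mem_J hC).2 hj)).trans (u_ent _ j).symm)

omit h in
theorem ec_of {x y : X.D.I → ℤ} {m : ℤ} (e : Pm J (ent C n y) (ent C n a) m (ent C n b))
    (hx : ∀ i, i ∉ K.toFinset → x i = a i - m * b i) : Ec X.D w x y := by
  have h1 : ∀ i, i ∉ K.toFinset → u (ent C n a) i - m * u (ent C n b) i = x i := fun i hi =>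
    (congrArg₂ (· - m * ·) (u_ent a i) (u_ent b i)).trans (hx i hi).symm
  exact e.imp (fun e => hN.nr_eq fun i hi => (u_ent y i).symm.trans ((e i ((mem_J hC).1 hi)).trans (h1 i hi))) fun e =>
    hN.nr_eq fun i hi => (congrArg Neg.neg (u_ent y i)).symm.trans ((e i ((mem_J hC).1 hi)).trans (h1 i hi))

omit hC hN in
theorem dom {a b c d : X.D.I → ℤ} (e : ∀ j ∈ K.toFinset, Lex (pr X.D a (sr j)) (pr X.D b (sr j)) (pr X.D c (sr j))
    (pr X.D d (sr j))) : D1 K (ent C n a) ∧ D2 K (ent C n a) (ent C n b) ∧ D3 K (ent C n a) (ent C n b) (ent C n c) ∧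
      D4 K (ent C n a) (ent C n b) (ent C n c) (ent C n d) := by
  simp only [D1, D2, D3, D4, v_pr X h.1]
  exact ⟨fun j hj => (e j (List.mem_toFinset.2 hj)).1, fun j hj => (e j (List.mem_toFinset.2 hj)).2.1,
    fun j hj => (e j (List.mem_toFinset.2 hj)).2.2.1, fun j hj => (e j (List.mem_toFinset.2 hj)).2.2.2⟩

variable (hA : Ad3 X.D w Ψ)
include hA

theorem ne_nf (hc : c ∈ Ψ) (hd : d ∈ Ψ) (h1 : X.D.act w c ≠ c) (h2 : X.D.act w d ≠ d)
    (e : ∀ j ∈ K.toFinset, Lex (pr X.D c (sr j)) (pr X.D (X.D.act w c) (sr j)) (pr X.D d (sr j)) (pr X.D (X.D.act w d) (sr j)))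
    (h3 : ¬ Ec X.D w c d ∨ ∀ y ∈ Ψ, X.D.act w y ≠ y → Ec X.D w c y) : (Ph X.D w Ψ).Nonempty := by
  have hS := sl X h.1
  obtain ⟨d1, d2, d3, d4⟩ := dom X h e
  have c0 := hA.rt c hc
  have c1 := rta w c0
  have c2 := rta w c1
  have e0 := hA.rt d hd
  have nz : ∀ y ∈ Ψ, ¬ Z J (ent C n y) := fun y hy e => hA.dj y hy ((Z_iff X hC hN (hA.rt y hy)).1 e)
  have t1 := hA.trio hS hc h1
  obtain ⟨_, h4, h5⟩ := hC.2.1 _ (ent_mem X h c0) (nz c hc) d1 _ (ent_mem X h c1) (sm_act X hC hN c) d2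
    ((B_pr X h.1 _ c1).trans t1.1) _ (ent_mem X h e0) (nz d hd) d3 _ (ent_mem X h (rta w e0)) (sm_act X hC hN d) d4
    ((B_pr X h.1 _ (rta w e0)).trans (hA.trio hS hd h2).1)
  obtain ⟨a, ha, rfl⟩ := ex_ent X h h4
  rw [Z_iff X hC hN ha, B_pr X h.1 _ c0, B_pr X h.1 _ c1, B_pr X h.1 _ e0, B_pr X h.1 _ (rta w e0)] at h5
  obtain ⟨a0, a1, a2, a3, a4⟩ := h5
  have k1 := fun y hy => hA.orth hS a0 hc a1 a2 (y := y) hy
  have k2 := fun y hy => hA.orth hS a0 hd a3 a4 (y := y) hy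
  refine ⟨a, a0, fun y hy => (em _).elim (hA.orth0 a0 hy) fun hn => h3.elim (fun h3 => ?_) fun h3 => k1 y hy (h3 y hy hn)⟩
  have z0 : ∀ (x z : X.D.I → ℤ) i, i ∉ K.toFinset → x i = x i - 0 * z i := fun _ _ _ _ => by rw [zero_mul, sub_zero]
  have key : ∀ x ∈ Ψ, (∀ i, i ∉ K.toFinset → x i = c i) → Nr X.D w x = Nr X.D w c →
      Pm J (ent C n y) (ent C n d) (B (ent C n d) (ent C n x)) (ent C n c) → pr X.D a y = 0 := fun x hx x1 x2 x3 => by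
    have x4 := hA.rf hd hx
    have x5 := hA.rt _ x4
    have x6 := hA.st x hx
    rw [B_pr X h.1 _ (hA.rt x hx)] at x3
    refine hA.orth hS a0 x4 ?_ ?_ hy (ec_of X hC hN x3 fun i hi => by rw [← x1 i hi]; rfl)
    · rw [show pr X.D a _ = pr X.D _ a from hS _ _ ha x5, pr_sub, pr_smul, show pr X.D d a = 0 from (hS _ _ e0 ha).trans a3,
        show pr X.D x a = 0 from (hS _ _ (hA.rt x hx) ha).trans (k1 x hx (.inl x2)), mul_zero, sub_zero]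
    · rw [show pr X.D a _ = pr X.D _ a from hS _ _ ha (rta w x5), a_sub, a_smul, pr_sub, pr_smul,
        show pr X.D (X.D.act w d) a = 0 from (hS _ _ (rta w e0) ha).trans a4, show pr X.D (X.D.act w x) a = 0 from
        (hS _ _ (hA.rt _ x6) ha).trans (k1 _ x6 (.inl ((nr_act hA.cube x).trans x2))), mul_zero, sub_zero]
  rcases hC.2.2.2.2 _ (ent_mem X h c0) (nz c hc) d1 _ (ent_mem X h c1) (sm_act X hC hN c) d2 ((B_pr X h.1 _ c1).trans t1.1)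
    _ (ent_mem X h c2) (fun j hj => (sm_act X hC hN _ j hj).trans (sm_act X hC hN _ j hj)) ((B_pr X h.1 _ c2).trans t1.2)
    ((B_pr X h.1 _ c2).trans ((pr_act w c c1).trans t1.1)) _ (ent_mem X h e0) (nz d hd) d3 with h6 | h6 | ⟨x, hx, h6⟩
  · exact (h3 (ec_of X hC hN h6 (z0 c c))).elim
  · exact (h2 (fix_of X h hN h6)).elim
  rcases h6 _ (ent_mem X h (hA.rt y hy)) (nz y hy) (fun e => hn (fix_of X h hN e)) with h7 | h7 | h7
  · exact k1 y hy (ec_of X hC hN h7 (z0 c c))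
  · exact k2 y hy (ec_of X hC hN h7 (z0 d c))
  simp only [List.mem_cons, List.not_mem_nil, or_false] at hx
  rcases hx with rfl | rfl | rfl
  · exact key c hc (fun _ _ => rfl) rfl h7
  · exact key _ (hA.st c hc) (fun i hi => hN.cls c hi) (nr_act hA.cube c) h7
  · exact key _ (hA.st _ (hA.st c hc)) (fun i hi => (hN.cls _ hi).trans (hN.cls c hi))
      ((nr_act hA.cube _).trans (nr_act hA.cube c)) h7

theorem con_nf (ha : a ∈ Ph X.D w Ψ) (hb : b ∈ Ph X.D w Ψ)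
    (e : ∀ j ∈ K.toFinset, Lex (pr X.D a (sr j)) (pr X.D (X.D.act w a) (sr j)) (pr X.D a (sr j)) (pr X.D a (sr j))) :
    ∃ x ∈ Ph X.D w Ψ, pr X.D a x ≠ 0 ∧ pr X.D b x ≠ 0 := by
  have hS := sl X h.1
  obtain ⟨d1, d2, -⟩ := dom X h e
  have z : ∀ x ∈ Ph X.D w Ψ, Z J (ent C n x) := fun x hx => (Z_iff X hC hN hx.1.1).2 hx.1
  by_cases h1 : ∀ c ∈ Ψ, X.D.act w c = c
  · obtain ⟨_, h2, h3⟩ := hC.2.2.2.1 _ (ent_mem X h ha.1.1) (z a ha) d1 _ (ent_mem X h hb.1.1) (z b hb)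
    obtain ⟨x, hx, rfl⟩ := ex_ent X h h2
    rw [Z_iff X hC hN hx, B_pr X h.1 _ hx, B_pr X h.1 _ hx] at h3
    exact ⟨x, ⟨h3.1, fun c hc => hA.orth0 h3.1 hc (h1 c hc)⟩, h3.2⟩
  obtain ⟨c, h1⟩ := not_forall.1 h1
  obtain ⟨hc, h1⟩ := Classical.not_imp.1 h1
  have a1 := ph_act hA.cube hA.rt hA.st ha
  have b1 := ph_act hA.cube hA.rt hA.st hb
  have c0 := hA.rt c hc
  by_cases h2 : pr X.D b a = 0
  swap
  · exact ⟨a, ha, by rw [pr_self ha.1.1]; omega, h2⟩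
  by_cases h3 : pr X.D b (X.D.act w a) = 0
  swap
  · exact ⟨_, a1, by rw [pr_w hS hA.cube ha.1]; omega, h3⟩
  have h4 := sum3 hS ha.1.1 hb.1
  have h5 := pr_act w (X.D.act w (X.D.act w b)) ha.1.1
  rw [www hA.cube, h3] at h5
  rw [show pr X.D a b = 0 from (hS _ _ ha.1.1 hb.1.1).trans h2, show pr X.D a (X.D.act w (X.D.act w b)) = 0 from
    (hS _ _ ha.1.1 (rta w b1.1.1)).trans h5.symm, zero_add, add_zero] at h4
  refine ((hC.2.2.1 _ (ent_mem X h ha.1.1) (z a ha) d1 _ (ent_mem X h a1.1.1) (z _ a1) d2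
    ((B_pr X h.1 _ a1.1.1).trans (pr_w hS hA.cube ha.1)) _ (ent_mem X h c0) (fun e => hA.dj c hc ((Z_iff X hC hN c0).1 e))
    ((B_pr X h.1 _ c0).trans (ha.2 c hc)) ((B_pr X h.1 _ c0).trans (a1.2 c hc))).elim (fun e => h1 (fix_of X h hN e))
    fun e => e _ (ent_mem X h hb.1.1) (z b hb) ((B_pr X h.1 _ ha.1.1).trans h2) ((B_pr X h.1 _ a1.1.1).trans h3)
      ((B_pr X h.1 _ c0).trans (hb.2 c hc)) _ (ent_mem X h b1.1.1) (z _ b1)
      ((B_pr X h.1 _ b1.1.1).trans (pr_w hS hA.cube hb.1)) ((B_pr X h.1 _ ha.1.1).trans ((hS _ _ b1.1.1 ha.1.1).trans h4))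
      ((B_pr X h.1 _ a1.1.1).trans ((pr_act w b ha.1.1).trans h2)) ((B_pr X h.1 _ c0).trans (b1.2 c hc))).elim

end

theorem lc (h : Ok n C R) (hC : Cls C n R) : LC X.D := by
  have hS := sl X h.1
  refine ⟨hS, l2 X h, fun w Ψ hA hk => ⟨?_, fun a ha b hb => ?_⟩⟩
  · by_cases h1 : ∀ c ∈ Ψ, X.D.act w c = c
    · exact (nz_ne hA.cube hA.ne).imp fun a ha => ⟨ha, fun c hc => hA.orth0 ha hc (h1 c hc)⟩
    obtain ⟨c, h1⟩ := not_forall.1 h1
    obtain ⟨hc, h1⟩ := Classical.not_imp.1 h1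
    obtain ⟨d, hd, h2, h3⟩ : ∃ d ∈ Ψ, X.D.act w d ≠ d ∧ (¬ Ec X.D w c d ∨ ∀ y ∈ Ψ, X.D.act w y ≠ y → Ec X.D w c y) :=
      by_contra fun h2 => h2 ⟨c, hc, h1, .inr fun y hy h3 => by_contra fun h4 => h2 ⟨y, hy, h3, .inl h4⟩⟩
    obtain ⟨g, S, hN, e⟩ := nf hS hA.cube (hA.rt c hc) (rta w (hA.rt c hc)) (hA.rt d hd) (rta w (hA.rt d hd))
    obtain ⟨K, J, rfl, h4⟩ := good X h hC hN (hA.cj g).ne (hk.cj g)
    have h5 : ∀ y, X.D.act (g * w * g⁻¹) (X.D.act g y) ≠ X.D.act g y ↔ X.D.act w y ≠ y := fun y => by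
      rw [act_cj, (act_inj g).ne_iff]
    obtain ⟨a, ha⟩ := ne_nf X h h4 hN (hA.cj g) (act_mem_im.2 hc) (act_mem_im.2 hd) ((h5 c).2 h1) ((h5 d).2 h2)
      (by rw [act_cj, act_cj]; exact e) (h3.imp (mt (ec_cj g).1) fun h3 y hy h6 => by
        obtain ⟨x, hx, rfl⟩ := ex_im hy
        exact (ec_cj g).2 (h3 x hx ((h5 x).1 h6)))
    exact ⟨_, (ph_cj g hA.rt).1 ((act_act_inv g a).symm ▸ ha)⟩
  · obtain ⟨g, S, hN, e⟩ := nf hS hA.cube ha.1.1 (rta w ha.1.1) ha.1.1 ha.1.1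
    obtain ⟨K, J, rfl, h4⟩ := good X h hC hN (hA.cj g).ne (hk.cj g)
    obtain ⟨x, hx, h5⟩ := con_nf X h h4 hN (hA.cj g) ((ph_cj g hA.rt).2 ha) ((ph_cj g hA.rt).2 hb)
      (by rw [act_cj]; exact e)
    rw [← act_act_inv g x] at hx h5
    have h6 := (ph_cj g hA.rt).1 hx
    rw [pr_act g _ h6.1.1, pr_act g _ h6.1.1] at h5
    exact ⟨_, h6, h5⟩

end Lc

open Lc

theorem boxLC : BoxLC :=
  ⟨fun _ _ _ _ _ _ _ X => lc X ok6 fun S => (cls6 S).imp_right (.imp_right (.imp_left fun e => ⟨_, _, e, core6⟩)),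
    fun _ _ _ _ _ _ _ X => lc X ok7 fun S => (cls7 S).imp_right (.imp_right (.imp_left fun e => ⟨_, _, e, core7⟩)),
    fun _ _ _ _ _ _ _ X => lc X ok8 fun S => (cls8 S).imp_right (.imp_right (.imp_left fun e =>
      e.elim (fun e => ⟨_, _, e, core8⟩) fun e => ⟨_, _, e, core8'⟩))⟩

end Cfsg.Agent.KM.Tor
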