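import Cfsg.Agent.KM.Tor.Bad2
import Cfsg.Agent.TO.X5.GeoA

/-!
# KM, `l = 3` : box NA, a non-abelian `3`-subgroup in the centralizer of `y` (helper30)
-/

set_option autoImplicit false
set_option linter.unusedSectionVars false
set_option maxHeartbeats 200000

namespace Cfsg.Agent.KM.Tor

open Cfsg Cfsg.Lie Cfsg.Agent.DL Cfsg.Agent.Nodes.Reps Cfsg.Agent.Nodes.BNOf Matrix Subgroup Cfsg.Agent.KM.Ht
open Cfsg.Agent.ChevalleyStructure.CoxeterGeom Cfsg.Agent.Tits.Roots Cfsg.Agent.Nodes Cfsg.Agent.Nodes.Coroot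
open Cfsg.Agent.TO.X5 (ct ct_mem ct_S)
open Cfsg.Agent.DL.CF (act_mul act_one)
open scoped Pointwise

namespace NA

/-- the `l`-subgroups of the centralizer of `y` are abelian -/
theorem ab_of_loc {Y : Type} [Group Y] {l : ℕ} [Fact l.Prime] {H D Q : Subgroup Y} {y : Y} [Finite H] (h : Loc l H D y)
    (hab : Ab D) (hQ : Q ≤ H) (pg : IsPGroup l Q) (hc : ∀ x ∈ Q, x * y = y * x) : Ab Q := by
  let C : Subgroup Y := H ⊓ centralizer {y}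
  have : Finite C := Finite.of_injective _ (inclusion_injective (inf_le_left : C ≤ H))
  have hm : ∀ {x : Y}, x ∈ H → x * y = y * x → x ∈ C := fun h1 h2 => ⟨h1, mem_centralizer_singleton_iff.2 h2⟩
  let P : Sylow l C := ⟨D.subgroupOf C, h.pg.comap_subtype, fun {Q'} h1 h2 => le_antisymm (fun x hx =>
    h.syl (Q'.map C.subtype) ((map_subtype_le _).trans inf_le_left) (h1.map _)
      (fun d hd => ⟨⟨d, hm (h.le hd) (h.comm d hd)⟩, h2 hd, rfl⟩)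
      (by
        rintro _ ⟨z, -, rfl⟩
        exact mem_centralizer_singleton_iff.1 z.2.2) ⟨x, hx, rfl⟩) h2⟩
  obtain ⟨P', h1⟩ := (pg.comap_subtype (K := C)).exists_le_sylow
  obtain ⟨g, rfl⟩ := MulAction.exists_smul_eq C P P'
  have key : ∀ x ∈ Q, (g : Y)⁻¹ * x * g ∈ D := fun x hx => by
    have h2 : (⟨x, hm (hQ hx) (hc x hx)⟩ : C) ∈ MulAut.conj g • (P : Subgroup C) := h1 hx
    rw [mem_pointwise_smul_iff_inv_smul_mem, MulAut.smul_def, MulAut.conj_inv_apply] at h2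
    exact h2
  intro a ha b hb
  have h2 := hab _ (key a ha) _ (key b hb)
  calc a * b = g * ((g : Y)⁻¹ * a * g * ((g : Y)⁻¹ * b * g)) * (g : Y)⁻¹ := by group
    _ = _ := by
      rw [h2]
      group

variable {p : ℕ} [Fact p.Prime] {k : Type} [Field k] [CharP k p] {Y : Type} [Group Y] {N : Type} [Fintype N]
  [DecidableEq N] {ρ : Y →* GL N k} {F : MulAut Y} {G : Subgroup Y} [IsAlgClosed k] {X : Datum p ρ F G}
  {Φ : Set (X.I → ℤ)}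

theorem conj_TS (hΦ : ∀ c ∈ Φ, X.Rt c) {z u : Y} (hz : z ∈ X.T ⊔ X.S Φ) (hu : u ∈ X.S Φ) : z * u * z⁻¹ ∈ X.S Φ := by
  obtain ⟨s, hs, t, ht, rfl⟩ := (X.mem_TS hΦ).1 hz
  rw [show s * t * u * (s * t)⁻¹ = s * (t * u * t⁻¹) * s⁻¹ by group]
  exact mul_mem (mul_mem hs (X.conj_mem_S_of_T hΦ ht hu)) (inv_mem hs)

theorem comm_TS (hΦ : ∀ c ∈ Φ, X.Rt c) {x z : Y} (hx : x ∈ X.T ⊔ X.S Φ) (hz : z ∈ X.T ⊔ X.S Φ) :
    x * z * x⁻¹ * z⁻¹ ∈ X.S Φ := by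
  obtain ⟨s, hs, t, ht, rfl⟩ := (X.mem_TS hΦ).1 hx
  obtain ⟨s', hs', t', ht', rfl⟩ := (X.mem_TS hΦ).1 hz
  have h1 := X.T_comm ht ht'
  rw [show s * t * (s' * t') * (s * t)⁻¹ * (s' * t')⁻¹ = s * (t * s' * t⁻¹) * ((t * t') * (t⁻¹ * s⁻¹ * t⁻¹⁻¹) * (t * t')⁻¹) *
    (t * t' * t⁻¹ * t'⁻¹) * s'⁻¹ by group, h1, mul_inv_cancel_right, mul_inv_cancel, mul_one]
  exact mul_mem (mul_mem (mul_mem hs (X.conj_mem_S_of_T hΦ ht hs')) (X.conj_mem_S_of_T hΦ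
    (mul_mem ht' ht) (X.conj_mem_S_of_T hΦ (inv_mem ht) (inv_mem hs)))) (inv_mem hs')

theorem rp_TS (hΦ : ∀ c ∈ Φ, X.Rt c) (hn : ∀ c ∈ Φ, -c ∈ Φ) {v : X.W} (hv : v ∈ closure (X.rf '' Φ)) :
    ∃ n ∈ X.T ⊔ X.S Φ, X.Rp v n := by
  induction hv using closure_induction with
  | mem x hx =>
    obtain ⟨a, ha, rfl⟩ := hx
    obtain ⟨m, h1, h2⟩ := X.exists_rp_rf (hΦ a ha)
    exact ⟨m, sup_le_sup_left (sup_le (RGD.le_Sup ha) (RGD.le_Sup (hn a ha))) _ h1, h2⟩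
  | one => exact ⟨1, one_mem _, rp_one⟩
  | mul x y _ _ hx hy =>
    obtain ⟨a, h1, h2⟩ := hx
    obtain ⟨b, h3, h4⟩ := hy
    exact ⟨a * b, mul_mem h1 h3, h2.mul h4⟩
  | inv x _ hx =>
    obtain ⟨a, h1, h2⟩ := hx
    exact ⟨a⁻¹, inv_mem h1, h2.inv⟩

theorem fix_rep (hΦ : ∀ c ∈ Φ, X.Rt c) (hn : ∀ c ∈ Φ, -c ∈ Φ) {a : X.I → ℤ} (ha : a ∈ Φ) {ε : ℤ} (hε : ε = 1 ∨ ε = -1)
    (h : X.g a = ε • a) : ∃ n ∈ X.T ⊔ X.S Φ, n ∈ GF F G ∧ X.Rp (X.rf a) n := by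
  obtain ⟨m, h1, h2⟩ := X.exists_rp_fix (w := X.rf a) (by
    rw [X.Fw_rf (hΦ a ha), h]
    rcases hε with rfl | rfl
    · rw [one_smul]
    · rw [neg_one_smul, X.rf_neg (hΦ a ha)])
  obtain ⟨n, h3, h4⟩ := rp_TS hΦ hn (subset_closure ⟨a, ha, rfl⟩)
  refine ⟨m, ?_, ⟨Datum.Rp.mem_G h1, h2⟩, h1⟩
  rw [← mul_inv_cancel_left n m]
  exact mul_mem h3 (mem_sup_left (h4.unique h1))

theorem conj_ct {w : X.W} {m : Y} (hm : X.Rp w m) {a : X.I → ℤ} (ha : X.Rt a) (s : kˣ) :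
    m * ct X a s * m⁻¹ = ct X (X.act w a) s := by
  rw [ct, ct, X.conj_τ hm, mon_coch, X.cor_act w ha]

variable {H D : Subgroup Y} {y : Y} {a b : X.I → ℤ} {ε : ℤ}

/-- the frame is adapted to `a` and `b` -/
theorem core (hp : 3 ≠ p) (h : Set3 F G H D y) (hΦ : ∀ c ∈ Φ, X.Rt c) (hn : ∀ c ∈ Φ, -c ∈ Φ)
    (hy : ∀ s ∈ X.S Φ, s * y = y * s) (ha : a ∈ Φ) (hb : b ∈ Φ) (h1 : X.wt a ⬝ᵥ X.cor b = -1) (h2 : X.wt b ⬝ᵥ X.cor a = -1)
    (hε : ε = 1 ∨ ε = -1) (h3 : 3 ∣ ε * (p : ℤ) ^ X.ex a - 1) (h4 : X.g a = ε • a) (h5 : X.g b = ε • b) (c : X.I → ℤ) :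
    3 ∣ X.wt c ⬝ᵥ (X.cor a - X.cor b) := by
  have : Fact (Nat.Prime 3) := ⟨Nat.prime_three⟩
  have := X.amb.finite_GF G
  have : Finite H := Finite.of_injective _ (inclusion_injective h.le)
  have ra := hΦ a ha
  have rb := hΦ b hb
  obtain ⟨ζ, hζ⟩ := exists_prim p k (n := 3) fun e => hp ((Nat.prime_dvd_prime_iff_eq Fact.out Nat.prime_three).1 e).symm
  obtain ⟨na, a1, a2, a3⟩ := fix_rep hΦ hn ha hε h4
  obtain ⟨nb, b1, b2, b3⟩ := fix_rep hΦ hn hb hε h5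
  have t1 : ct X a ζ ^ 3 = 1 := by rw [ct, ← map_pow, ← map_pow, ← hζ, pow_orderOf_eq_one, map_one, map_one]
  have t2 : ct X a ζ ∈ GF F G := by
    refine ⟨X.T_le_G (ct_mem a ζ), ?_⟩
    have e : X.cor (ε • a) = ε • X.cor a := by
      rcases hε with rfl | rfl
      · rw [one_smul, one_smul]
      · rw [neg_one_smul, neg_one_smul, X.cor_neg ra]
    have e2 : ζ ^ ((p : ℤ) ^ X.ex a * ε) = ζ := by
      rw [← mul_inv_eq_one, ← _root_.zpow_sub_one, ← orderOf_dvd_iff_zpow_eq_one, hζ, mul_comm]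
      exact h3
    change F (ct X a ζ) = ct X a ζ
    rw [ct, X.F_τ, mon_coch, X.Mx_cor ra, h4, e, smul_smul, coch_zsmul, e2]
  have t3 : ct X a ζ ∈ H := by
    refine TO.E6.mem_of_real h.comm t2 a2 ?_ (n := 3) (by decide) t1
    rw [conj_ct a3 ra, X.act_rf_self ra, TO.X5.ct_neg ra, ct, ct, map_inv, map_inv]
  have t4 : ct X a ζ ∈ X.S Φ := RGD.Sup_mono (by
    rintro x (rfl | rfl)
    · exact ha
    · exact hn a ha) (ct_S ra ζ)
  -- the element of the Weyl group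
  have c1 : cpr X.cs X.h a b = -1 := (X.pair_cor rb a).symm.trans h1
  have c2 : cpr X.cs X.h b a = -1 := (X.pair_cor ra b).symm.trans h2
  have e1 : rep X.cs X.h (X.rf a) a = -a := X.act_rf_self ra
  have e2 : rep X.cs X.h (X.rf b) b = -b := X.act_rf_self rb
  have e3 : rep X.cs X.h (X.rf a) b = b + a := (X.act_rf ra b).trans (by rw [c2, neg_one_smul, sub_neg_eq_add])
  have e4 : rep X.cs X.h (X.rf b) a = a + b := (X.act_rf rb a).trans (by rw [c1, neg_one_smul, sub_neg_eq_add])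
  have i1 : (X.rf a)⁻¹ = X.rf a := inv_eq_of_mul_eq_one_right (X.rf_mul_self ra)
  have i2 : (X.rf b)⁻¹ = X.rf b := inv_eq_of_mul_eq_one_right (X.rf_mul_self rb)
  set w := X.rf b * X.rf a * (X.rf b)⁻¹ * (X.rf a)⁻¹ with hw
  have w1 : X.act w a = b := by
    rw [hw, i1, i2, act_mul, act_mul, act_mul]
    simp only [Datum.act, map_neg, map_add, e1, e2, e3, e4]
    abel
  have w2 : X.act w b = -(a + b) := by
    rw [hw, i1, i2, act_mul, act_mul, act_mul]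
    simp only [Datum.act, map_neg, map_add, e1, e2, e3, e4]
    abel
  have w3 : X.act (w ^ 3) a = a := by
    rw [pow_succ, pow_two, act_mul, act_mul, w1, w2, Datum.act, map_neg, map_add]
    change -(X.act w a + X.act w b) = a
    rw [w1, w2]
    abel
  have w4 : ∀ j : ℕ, X.act ((w ^ 3) ^ j) a = a := fun j => by
    induction j with
    | zero => rw [pow_zero, act_one]
    | succ j ih => rw [pow_succ, act_mul, w3, ih]
  set n := nb * na * nb⁻¹ * na⁻¹ with hn'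
  have n1 : X.Rp w n := ((b3.mul a3).mul b3.inv).mul a3.inv
  have n2 : n ∈ H := h.comm _ b2 _ a2
  have n3 : n ∈ X.S Φ := comm_TS hΦ b1 a1
  obtain ⟨j, m, hm, e⟩ := Nat.exists_eq_pow_mul_and_not_dvd (X.amb.isOfFinOrder n).orderOf_pos.ne' 3 (by norm_num)
  obtain ⟨i, hi⟩ : ∃ i, m * m = 1 + 3 * i := by
    refine ⟨m * m / 3, ?_⟩
    have h6 : m % 3 = 1 ∨ m % 3 = 2 := by omega
    have h7 : m * m % 3 = 1 := by rcases h6 with h6 | h6 <;> rw [Nat.mul_mod, h6]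
    omega
  have m1 : X.Rp (w ^ (m * m)) (n ^ (m * m)) := KFacts.RgdDiag.rp_pow n1 _
  have m2 : X.act (w ^ (m * m)) a = b := by rw [hi, pow_add, pow_one, pow_mul, act_mul, w4, w1]
  have m3 : (n ^ (m * m)) ^ 3 ^ j = 1 := by
    rw [← pow_mul, show m * m * 3 ^ j = 3 ^ j * m * m by ring, ← e, pow_mul, pow_orderOf_eq_one, one_pow]
  generalize hx : n ^ (m * m) = x at m1 m3
  have x2 : x ∈ H := hx ▸ pow_mem n2 _
  have x3 : x ∈ X.S Φ := hx ▸ pow_mem n3 _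
  -- the `3`-group
  let K : Subgroup Y :=
    { carrier := {s | s ∈ X.T ⊓ (X.S Φ ⊓ H) ∧ s ^ 3 = 1}
      one_mem' := ⟨one_mem _, one_pow _⟩
      mul_mem' := fun {s t} hs ht => ⟨mul_mem hs.1 ht.1, by
        rw [Commute.mul_pow (X.T_comm hs.1.1 ht.1.1), hs.2, ht.2, mul_one]⟩
      inv_mem' := fun {s} hs => ⟨inv_mem hs.1, by rw [inv_pow, hs.2, inv_one]⟩ }
  have k1 : IsPGroup 3 K := fun s => ⟨1, Subtype.ext (by rw [pow_one]; exact s.2.2)⟩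
  have k2 : IsPGroup 3 (zpowers x) := by
    rintro ⟨_, z, rfl⟩
    exact ⟨j, Subtype.ext (by
      change (x ^ z) ^ 3 ^ j = 1
      rw [← _root_.zpow_natCast, ← _root_.zpow_mul, mul_comm, _root_.zpow_mul, _root_.zpow_natCast, m3, _root_.one_zpow])⟩
  have k3 : ∀ g ∈ X.NN, g ∈ X.S Φ → g ∈ H → ∀ s ∈ K, g * s * g⁻¹ ∈ K := fun g g1 g2 g3 s hs =>
    ⟨⟨X.conj_mem_T g1 hs.1.1, (X.S Φ).mul_mem ((X.S Φ).mul_mem g2 hs.1.2.1) (inv_mem g2),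
      H.mul_mem (H.mul_mem g3 hs.1.2.2) (inv_mem g3)⟩, by
      rw [conj_pow, hs.2, mul_one, mul_inv_cancel]⟩
  have x1 : x ∈ X.NN := ⟨_, m1⟩
  have k4 : zpowers x ≤ normalizer (K : Set Y) := zpowers_le.2 (mem_normalizer_iff.2 fun s => ⟨k3 x x1 x3 x2 s, fun hs => by
    have h6 := k3 x⁻¹ (inv_mem x1) (inv_mem x3) (inv_mem x2) _ hs
    rwa [show x⁻¹ * (x * s * x⁻¹) * x⁻¹⁻¹ = s by group] at h6⟩)
  have k5 : zpowers x ⊔ K ≤ X.S Φ ⊓ H := sup_le (zpowers_le.2 ⟨x3, x2⟩) fun s hs => hs.1.2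
  have k6 := ab_of_loc h.loc h.ab (k5.trans inf_le_right) (k2.to_sup_of_normal_right' k1 k4) (fun s hs => hy s (k5 hs).1)
    x (mem_sup_left (mem_zpowers x)) (ct X a ζ) (mem_sup_right ⟨⟨ct_mem a ζ, t4, t3⟩, t1⟩)
  have k7 := conj_ct m1 ra ζ
  rw [k6, mul_inv_cancel_right, m2] at k7
  have k8 := (TO.X.Cn.χ_exp X c (X.cor a - X.cor b) ζ).1 (by
    rw [sub_eq_add_neg, coch_add, coch_neg, map_mul, map_inv]
    change X.χ c (ct X a ζ * (ct X b ζ)⁻¹) = 1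
    rw [k7, mul_inv_cancel, X.χ_one])
  rwa [hζ] at k8

end NA

/-- **box NA** -/
theorem boxNA : BoxNA := by
  intro p _ k _ _ Y _ N _ _ ρ F G _ X H D y Φ a b v ε hp h hΦ hn hg hy ha hb h1 h2 hv hε h3 h4 h5 c
  obtain ⟨n, k1, k2⟩ := NA.rp_TS hΦ hn hv
  obtain ⟨z, k3, rfl⟩ := X.lang_TS hΦ hg k1
  have hz : z ∈ G := sup_le X.T_le_G (X.S_le_G hΦ) k3
  have hN : z⁻¹ * F z ∈ X.NN := ⟨v, k2⟩
  have e : (X.conj hz hN).cor = X.cor := funext fun a => by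
    unfold Datum.cor
    rw [show (X.conj hz hN).Wm = X.Wm from funext (TO.E6.conj_Wm X hz hN)]
  have h6 := NA.core (X := X.conj hz hN) (Φ := Φ) (a := a) (b := b) hp h hΦ hn (fun s hs => by
    rw [Datum.conj_S] at hs
    obtain ⟨u, hu, rfl⟩ := hs
    exact hy _ (NA.conj_TS hΦ k3 hu)) ha hb (by rw [e]; exact h1) (by rw [e]; exact h2) hε h3
    (by rw [Datum.conj_g, Datum.Rp.pr_eq k2]; exact h4) (by rw [Datum.conj_g, Datum.Rp.pr_eq k2]; exact h5) c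
  rwa [e] at h6

end Cfsg.Agent.KM.Tor
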