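import Cfsg.Agent.KM.Tor.LN0
import Cfsg.Agent.KM.Tor.TW
import Cfsg.Agent.TO.X.ConnA

/-!
# KM, `E₆`: `boxLN` (helper89)
-/

set_option autoImplicit false
set_option linter.unusedSectionVars false
set_option maxHeartbeats 400000

namespace Cfsg.Agent.KM.Tor

open Cfsg Cfsg.Lie Cfsg.Agent.DL Cfsg.Agent.Nodes.Reps Matrix Finset Cfsg.Agent.KZ.DatX Cfsg.Agent.Nodes.RGDChev
  Cfsg.Agent.ChevalleyStructure.NPerm Cfsg.Agent.ChevalleyStructure.CoxeterGeom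
  Cfsg.Agent.ChevalleyStructure.CoxeterGeomTypes Cfsg.Agent.Tits.Roots
open Cfsg.Agent.TO.X.Cn (cl exists_cl cl_add cl_smul mem_of_sum)
open Cfsg.Agent.KM.Ex (sr_dot)
open Cfsg.Agent.H92.NE (bl bl_rep)

namespace LN6

open TW

section Dat

variable {p : ℕ} [Fact p.Prime] {k : Type} [Field k] [CharP k p] {Y : Type} [Group Y] {N : Type} [Fintype N]
  [DecidableEq N] {ρ : Y →* GL N k} {F : MulAut Y} {G : Subgroup Y} [IsAlgClosed k] (X : Datum p ρ F G)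

/-- the statement without the closedness of `Ψ` -/
def Mn (w : X.W) : Prop := ∀ Ψ : Set (X.I → ℤ), (∀ a ∈ Ψ, X.Rt a) → (∀ a ∈ Ψ, X.act w a ∈ Ψ) → (∀ a ∈ Ψ, a ∉ Nz X w) →
  Con X (Ph X w Ψ) ∨ ({a | X.Rt a ∧ X.act w a = a}.ncard = 6 ∧ ∀ φ, φ * w = w * φ → (∀ a ∈ Ψ, X.act φ a ∈ Ψ) →
    (∃ a ∈ Ph X w Ψ, Ln X w a (X.act φ a)) ∨ Two3 X w φ Ψ)

variable {X} {w g φ : X.W} {Ψ : Set (X.I → ℤ)} {a : X.I → ℤ} {v : X.R → ℤ}

theorem Wm_mul' (g h : X.W) (v : X.R → ℤ) : X.Wm (g * h) *ᵥ v = X.Wm g *ᵥ X.Wm h *ᵥ v := by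
  rw [mulVec_mulVec, X.Wm_mul]

theorem Wm_inv_Wm (g : X.W) (v : X.R → ℤ) : X.Wm g⁻¹ *ᵥ X.Wm g *ᵥ v = v := by
  simpa only [inv_inv] using Wm_Wm_inv g⁻¹ v

theorem act_one (a : X.I → ℤ) : X.act 1 a = a := congrFun (congrArg _ (map_one (rep X.cs X.h))) a

theorem act_cj (g w : X.W) (a : X.I → ℤ) : X.act (g⁻¹ * w * g) (X.act g⁻¹ a) = X.act g⁻¹ (X.act w a) := by
  rw [act_mul', act_mul', act_act_inv]

theorem Wm_cj (g w : X.W) (v : X.R → ℤ) : X.Wm (g⁻¹ * w * g) *ᵥ X.Wm g⁻¹ *ᵥ v = X.Wm g⁻¹ *ᵥ X.Wm w *ᵥ v := by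
  rw [Wm_mul', Wm_mul', Wm_Wm_inv]

theorem act_eq_zero : X.act g a = 0 ↔ a = 0 :=
  ⟨fun h => act_inj g (h.trans (map_zero (rep X.cs X.h g)).symm), fun h => h ▸ map_zero (rep X.cs X.h g)⟩

theorem nz_cj : X.act g⁻¹ a ∈ Nz X (g⁻¹ * w * g) ↔ a ∈ Nz X w :=
  and_congr (rt_act _) (by rw [act_cj, act_cj, ← a_add, ← a_add, act_eq_zero])

theorem inQ_Wm (g : X.W) : InQ X (X.Wm g *ᵥ v) ↔ InQ X v := by
  obtain ⟨γ, h⟩ := exists_cl X v g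
  rw [h]
  refine ⟨fun ⟨β, e⟩ => ⟨β + (-1 : ℤ) • γ, ?_⟩, fun ⟨β, e⟩ => ⟨β + γ, by rw [cl_add, e]⟩⟩
  rw [cl_add, cl_smul, ← e, neg_one_smul, add_neg_cancel_right]

theorem ph_cj (h0 : ∀ a ∈ Ψ, X.Rt a) : X.act g⁻¹ a ∈ Ph X (g⁻¹ * w * g) (im X g⁻¹ Ψ) ↔ a ∈ Ph X w Ψ := by
  refine and_congr nz_cj ⟨fun h b hb => ?_, fun h b hb => ?_⟩
  · exact (pr_act g⁻¹ a (h0 b hb)).symm.trans (h _ (act_mem_im.2 hb))
  · obtain ⟨c, hc, rfl⟩ := (im_eq g⁻¹ Ψ).le hb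
    exact (pr_act g⁻¹ a (h0 c hc)).trans (h c hc)

theorem Mn.cj (g : X.W) (h : Mn X (g⁻¹ * w * g)) : Mn X w := by
  intro Ψ h0 h1 h2
  have sj : ∀ a, ∃ b, a = X.act g⁻¹ b := fun a => ⟨X.act g a, (act_inv_act g a).symm⟩
  have st : ∀ φ : X.W, (∀ a ∈ Ψ, X.act φ a ∈ Ψ) → ∀ a ∈ im X g⁻¹ Ψ, X.act (g⁻¹ * φ * g) a ∈ im X g⁻¹ Ψ := fun φ k a ha => by
    obtain ⟨a, rfl⟩ := sj a
    rw [act_cj]
    exact act_mem_im.2 (k a (act_mem_im.1 ha))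
  have pw : ∀ (φ : X.W) (i : ℕ), (g⁻¹ * φ * g) ^ i = g⁻¹ * φ ^ i * g := fun φ i => by
    simpa only [inv_inv] using conj_pow (a := g⁻¹) (b := φ) (i := i)
  have h3 : ∀ a ∈ im X g⁻¹ Ψ, a ∉ Nz X (g⁻¹ * w * g) := fun a ha => by
    obtain ⟨a, rfl⟩ := sj a
    exact fun k => h2 a (act_mem_im.1 ha) (nz_cj.1 k)
  rcases h (im X g⁻¹ Ψ) (im_rt h0) (st w h1) h3 with ⟨⟨a, ha⟩, k⟩ | ⟨k1, k2⟩
  · obtain ⟨a, rfl⟩ := sj a
    refine .inl ⟨⟨a, (ph_cj h0).1 ha⟩, fun b hb b' hb' => ?_⟩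
    obtain ⟨c, hc, k1, k2⟩ := k _ ((ph_cj h0).2 hb) _ ((ph_cj h0).2 hb')
    obtain ⟨c, rfl⟩ := sj c
    have h3 := (ph_cj h0).1 hc
    exact ⟨c, h3, fun e => k1 ((pr_act g⁻¹ b h3.1.1).trans e), fun e => k2 ((pr_act g⁻¹ b' h3.1.1).trans e)⟩
  refine .inr ⟨?_, fun φ e1 e2 => ?_⟩
  · rw [← k1, ← ncard_im g⁻¹]
    congr 1
    ext a
    obtain ⟨a, rfl⟩ := sj a
    rw [act_mem_im]
    exact and_congr (rt_act _).symm (by rw [act_cj, (act_inj _).eq_iff])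
  have e0 : g⁻¹ * φ * g * (g⁻¹ * w * g) = g⁻¹ * w * g * (g⁻¹ * φ * g) := by
    rw [show g⁻¹ * φ * g * (g⁻¹ * w * g) = g⁻¹ * (φ * w) * g by group, e1]
    group
  rcases k2 (g⁻¹ * φ * g) e0 (st φ e2) with ⟨a, ha, i, k⟩ | k
  · obtain ⟨a, rfl⟩ := sj a
    rw [act_cj, pw, act_cj, ← a_neg, (act_inj _).eq_iff, (act_inj _).eq_iff] at k
    exact .inl ⟨a, (ph_cj h0).1 ha, i, k⟩
  refine .inr ⟨fun v e3 e4 => ?_, fun m e3 e4 => ?_⟩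
  · obtain ⟨i, k⟩ := k.sq (X.Wm g⁻¹ *ᵥ v) e3.im (by
      unfold Nm at e4 ⊢
      rw [Wm_cj, Wm_cj, ← mulVec_add, ← mulVec_add, e4, mulVec_zero])
    rw [pw, pw, Wm_cj, Wm_cj] at k
    exact ⟨i, by rw [← Wm_Wm_inv g (X.Wm _ *ᵥ v), k, Wm_Wm_inv]⟩
  · obtain ⟨c, k⟩ := k.cyc m e3 e4
    refine ⟨X.Wm g *ᵥ c, fun j u μ ν e5 e6 e7 e8 => ?_⟩
    obtain ⟨n, v, k⟩ := k j (X.Wm g⁻¹ *ᵥ u) (X.Wm g⁻¹ *ᵥ μ) (X.Wm g⁻¹ *ᵥ ν) ((inQ_Wm _).2 e5)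
      (by rw [Wm_cj, e6, mulVec_add, mulVec_smul]) (by rw [Rn_Wm]; exact im_mono e7)
      (by rw [Wm_cj, ← mulVec_smul, e8, mulVec_add, mulVec_smul])
    refine ⟨n, X.Wm g *ᵥ v, ?_⟩
    rw [← Wm_Wm_inv g u, ← mulVec_smul, k, mulVec_smul, mulVec_add, mulVec_smul, mulVec_smul]

theorem fix_of_pp (h3 : w ^ 3 = 1) (hv : Pp X (Nz X w) v) : X.Wm w *ᵥ v = v := by
  let H : Subgroup X.W :=
    { carrier := {g | X.Wm g *ᵥ v = v}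
      one_mem' := by rw [Set.mem_ofPred_eq, X.Wm_one, one_mulVec]
      mul_mem' := fun {a b} (ha : _ = v) (hb : _ = v) => by rw [Set.mem_ofPred_eq, Wm_mul', hb, ha]
      inv_mem' := fun {a} (ha : _ = v) => by rw [Set.mem_ofPred_eq, ← ha, Wm_inv_Wm, ha] }
  refine mem_of_sum X h3 (H := H) fun a ha h => ?_
  rw [sum_range_succ, sum_range_succ, sum_range_one, pow_zero, pow_one, pow_two, act_one, act_mul'] at h
  change X.Wm (X.rf a) *ᵥ v = v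
  rw [X.Wm_rf ha, sub_mulVec, one_mulVec, vecMulVec_mulVec, hv a ⟨ha, h⟩, MulOpposite.op_zero, zero_smul, sub_zero]

theorem dot_fix (h : X.Wm w *ᵥ v = v) (a : X.I → ℤ) : X.wt (X.act w a) ⬝ᵥ v = X.wt a ⬝ᵥ v := by
  rw [← dot_Wm', ← h, Wm_inv_Wm, h]

theorem Wm_Nm (h3 : w ^ 3 = 1) (v : X.R → ℤ) : X.Wm w *ᵥ Nm X w v = Nm X w v := by
  unfold Nm
  rw [mulVec_add, mulVec_add, ← Wm_mul' w w, ← Wm_mul' w (w * w), ← pow_three, h3, X.Wm_one, one_mulVec]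
  abel

theorem inv_st (h0 : ∀ a ∈ Ψ, X.Rt a) (h : ∀ a ∈ Ψ, X.act φ a ∈ Ψ) : ∀ a ∈ Ψ, X.act φ⁻¹ a ∈ Ψ := fun a ha => by
  obtain ⟨b, hb, rfl⟩ := (((fin_of_rt h0).injOn_iff_bijOn_of_mapsTo h).1 (act_inj φ).injOn).surjOn ha
  rwa [act_inv_act]

theorem pp_st (h0 : ∀ a ∈ Ψ, X.Rt a) (h : ∀ a ∈ Ψ, X.act φ a ∈ Ψ) (hv : Pp X Ψ v) : Pp X Ψ (X.Wm φ *ᵥ v) :=
  fun b hb => (dot_Wm φ b v).trans (hv _ (inv_st h0 h b hb))

theorem act_comm (h : φ * w = w * φ) (a : X.I → ℤ) : X.act φ (X.act w a) = X.act w (X.act φ a) := by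
  rw [← act_mul', h, act_mul']

theorem nz_act (h : φ * w = w * φ) (ha : a ∈ Nz X w) : X.act φ a ∈ Nz X w :=
  ⟨ha.1.act φ, by rw [← act_comm h, ← act_comm h, ← a_add, ← a_add, ha.2, act_eq_zero]⟩

end Dat

variable {r : ℕ} [Fact r.Prime] {k : Type} [Field k] [CharP k r] [IsAlgClosed k] {Mx : Matrix (Fin 6) (Fin 6) ℤ}
  {X : XF hpE6 r k Mx} {w φ : X.D.W}

theorem sl6 : SL chevE6 6 := by decide +kernel

/-- the action on roots -/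
noncomputable def ac (w : X.D.W) (a : V) : V := X.D.act w a

/-- the action on cocharacters -/
noncomputable def wm (w : X.D.W) (v : V) : V := X.D.Wm w *ᵥ v

theorem ac_add (w : X.D.W) (a b : V) : ac w (a + b) = ac w a + ac w b := a_add w a b

theorem ac_sub (w : X.D.W) (a b : V) : ac w (a - b) = ac w a - ac w b := a_sub w a b

theorem ac_smul (w : X.D.W) (c : ℤ) (a : V) : ac w (c • a) = c • ac w a := a_smul w c a

theorem ac_mul (g h : X.D.W) (a : V) : ac (g * h) a = ac g (ac h a) := act_mul' g h a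

theorem wm_add (w : X.D.W) (a b : V) : wm w (a + b) = wm w a + wm w b := mulVec_add _ a b

theorem wm_smul (w : X.D.W) (c : ℤ) (a : V) : wm w (c • a) = c • wm w a := mulVec_smul _ c a

theorem dot_wm (w : X.D.W) (a v : V) : a ⬝ᵥ wm w v = ac w⁻¹ a ⬝ᵥ v := dot_Wm (X := X.D) w a v

theorem dot_ac (w : X.D.W) (a b : V) : ac w a ⬝ᵥ cc (ac w b) = a ⬝ᵥ cc b := by
  rw [← co_eq, ← co_eq, dot_co, dot_co]
  exact bl_rep hpE6 sl6.1 w b a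

/-- the simple roots, the fundamental coweights -/
abbrev e (i : Fin 6) : V := sr i

theorem ac_inv (w : X.D.W) (a : V) : ac w (ac w⁻¹ a) = a := act_act_inv (X := X.D) w a

theorem wm_cc (w : X.D.W) (a : V) : wm w (cc a) = cc (ac w a) := funext fun i => by
  rw [← sr_dot i (wm w _), ← sr_dot i (cc _), dot_wm, ← dot_ac w, ac_inv]

theorem cor6 {a : V} (h : X.D.Rt a) : X.D.cor a = cc a := (cor_eq X sl6 h).trans (co_eq a)

theorem cl6 (β : V) : cl X.D β = cc β := (K6.cl_co X β).trans (co_eq β)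

theorem inQ6 (v : V) : InQ X.D v ↔ 3 ∣ zz ⬝ᵥ v :=
  Iff.trans ⟨fun ⟨β, h⟩ => ⟨β, h.trans (cl6 β)⟩, fun ⟨β, h⟩ => ⟨β, h.trans (cl6 (X := X) β).symm⟩⟩ (inQ v)

theorem three_wm (w : X.D.W) (v : V) : (3 : ℤ) • wm w v = cc (ac w (dd v)) := by rw [← wm_smul, ← cc_dd, wm_cc]

theorem ac_dd {v : V} (h : wm w v = v) : ac w (dd v) = dd v := cc_inj (by rw [← three_wm, h, cc_dd])

theorem ac_zz (w : X.D.W) (i : Fin 6) : 3 ∣ (ac w zz - zz) i := by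
  obtain ⟨β, h⟩ : ∃ β : V, wm w⁻¹ (e i) = e i + cc β :=
    (exists_cl X.D (e i) w⁻¹).imp fun β h => h.trans (congrArg _ (cl6 β))
  have h1 := dot_wm w⁻¹ zz (e i)
  rw [inv_inv, h, dotProduct_add, dotProduct_comm, sr_dot, dotProduct_comm _ (e i), sr_dot] at h1
  rw [Pi.sub_apply, ← h1, add_sub_cancel_left]
  exact (inQ _).1 ⟨β, rfl⟩

theorem cc_symm (a b : V) : a ⬝ᵥ cc b = b ⬝ᵥ cc a := by
  rw [dot6, dot6]
  simp [cc]
  ring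

theorem pr6 (a : V) {b : V} (h : X.D.Rt b) : X.D.wt a ⬝ᵥ X.D.cor b = a ⬝ᵥ cc b := congrArg _ (cor6 h)

theorem slX : Sl X.D := fun a b ha hb => (pr6 a hb).trans ((cc_symm a b).trans (pr6 b ha).symm)

theorem nz_sum {a : V} (h : a ∈ Nz X.D w) : a + ac w a + ac w (ac w a) = 0 := h.2

theorem fix_dot {v : V} (h : wm w v = v) (a : V) : ac w a ⬝ᵥ v = a ⬝ᵥ v := dot_fix (X := X.D) h a

theorem nz_dot {a v : V} (h : wm w v = v) (ha : a ∈ Nz X.D w) : a ⬝ᵥ v = 0 := by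
  have h1 := congrArg (· ⬝ᵥ v) (nz_sum ha)
  simp only [add_dotProduct, fix_dot h, zero_dotProduct] at h1
  omega

/-- `1 + w + w²` -/
noncomputable def nm (w : X.D.W) (v : V) : V := v + wm w v + wm w (wm w v)

theorem wm_nm (h3 : w ^ 3 = 1) (v : V) : wm w (nm w v) = nm w v := Wm_Nm (X := X.D) h3 v

theorem dot_nm (h3 : w ^ 3 = 1) (a v : V) : a ⬝ᵥ nm w v = (a + ac w a + ac w (ac w a)) ⬝ᵥ v := by
  have h1 : w⁻¹ = w * w := by rw [inv_eq_iff_mul_eq_one, ← pow_three, h3]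
  rw [nm, dotProduct_add, dotProduct_add, dot_wm, dot_wm, dot_wm, ← ac_mul, add_dotProduct, add_dotProduct, h1, ac_mul w w,
    show w * w * (w * w) = w by rw [mul_assoc, ← pow_three, h3, mul_one], add_right_comm]

theorem lvs_Nz (h3 : w ^ 3 = 1) : Lvs X.D (Nz X.D w) := lvs_of_cl (fun _ h => h.1) fun a ha => ⟨ha.1, funext fun i =>
  (sr_dot i _).symm.trans ((dotProduct_comm _ _).trans ((dot_nm h3 a (e i)).symm.trans
    (ha.2 _ fun _ hb => nz_dot (wm_nm h3 _) hb)))⟩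

theorem rt_e (i : Fin 6) : X.D.Rt (e i) := isRoot_sr _ _ i

theorem rt_th : X.D.Rt th := th_rt.choose_spec ▸ rt_vec X _

theorem rt_ac (w : X.D.W) {a : V} (h : X.D.Rt a) : X.D.Rt (ac w a) := h.act w

theorem exists_ro {a : V} (h : X.D.Rt a) : ∃ s, a = ro s :=
  let ⟨s, hs, e⟩ := (X.rt_iff a).1 h
  ⟨⟨s, hs⟩, e.symm⟩

theorem ac_rf {b : V} (h : X.D.Rt b) (a : V) : ac (X.D.rf b) a = a - (a ⬝ᵥ cc b) • b :=
  (act_rf h a).trans (congrArg (fun t : ℤ => a - t • b) (pr6 a h))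

theorem basis (a : V) : a = a 0 • e 0 + a 1 • e 1 + a 2 • e 2 + a 3 • e 3 + a 4 • e 4 + a 5 • e 5 := by
  apply ext6 <;> simp [sr]

/-- the Levi subsystem is the standard one -/
def NF (w : X.D.W) : Prop := w ^ 3 = 1 ∧ ∀ a : V, X.D.Rt a → (a ∈ Nz X.D w ↔ a 1 = 0 ∧ a 3 = 0)

theorem NF.fix (h : NF w) {a : V} (h0 : cc a 0 = 0 ∧ cc a 2 = 0 ∧ cc a 4 = 0 ∧ cc a 5 = 0) : ac w a = a := by
  have h1 : ∀ b : V, b 1 = 0 ∧ b 3 = 0 → b ⬝ᵥ cc a = 0 := fun b hb => by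
    rw [dot6, hb.1, hb.2, h0.1, h0.2.1, h0.2.2.1, h0.2.2.2]
    ring
  exact cc_inj ((wm_cc w a).symm.trans (fix_of_pp (X := X.D) h.1 fun b hb => h1 b ((h.2 b hb.1).1 hb)))

theorem NF.nz (h : NF w) (i : Fin 6) (hi : e i 1 = 0 ∧ e i 3 = 0) : e i ∈ Nz X.D w := (h.2 _ (rt_e i)).2 hi

theorem NF.ac_eq (h : NF w) (h0 : ac w (e 0) = e 2) (h4 : ac w (e 4) = e 5) (a : V) : ac w a = sg a := by
  have h2 := nz_sum (h.nz 0 (by decide))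
  have h5 := nz_sum (h.nz 4 (by decide))
  have h1 := h.fix (a := e 1) (by decide)
  have h6 := h.fix (a := th) (by decide)
  rw [h0] at h2
  rw [h4] at h5
  rw [basis th] at h6
  rw [basis a]
  simp only [ac_add, ac_smul, h0, h1, h4, eq_neg_of_add_eq_zero_right h2, eq_neg_of_add_eq_zero_right h5] at h6 ⊢
  generalize ac w (e 3) = y at h6
  obtain rfl : y = e 0 + e 2 + e 3 + e 4 := funext fun i => by
    have h7 := congrFun h6 i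
    fin_cases i <;> simp [sr, th] at h7 ⊢ <;> omega
  apply ext6 <;> simp [sr, sg] <;> ring

theorem NF.img (h : NF w) (i : Fin 6) (hi : e i 1 = 0 ∧ e i 3 = 0) :
    ∃ s, ac w (e i) = ro s ∧ (ro s 1 = 0 ∧ ro s 3 = 0) ∧ e i ⬝ᵥ cc (ro s) = -1 := by
  have h1 := rt_ac w (rt_e (X := X) i)
  obtain ⟨s, hs⟩ := exists_ro h1
  exact ⟨s, hs, hs ▸ (h.2 _ h1).1 (nz_act rfl (h.nz i hi)), hs ▸ (pr6 _ h1).symm.trans (pr_w slX h.1 (h.nz i hi))⟩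

theorem NF.cj (h : NF w) (i : Fin 6) (hi : e i 1 = 0 ∧ e i 3 = 0) : NF ((X.D.rf (e i))⁻¹ * w * X.D.rf (e i)) := by
  refine ⟨by simpa only [inv_inv, h.1, mul_one, inv_mul_cancel] using conj_pow (a := (X.D.rf (e i))⁻¹) (b := w) (i := 3),
    fun a ha => ?_⟩
  have h1 := nz_cj (X := X.D) (g := X.D.rf (e i)) (w := w) (a := ac (X.D.rf (e i)) a)
  rw [show X.D.act (X.D.rf (e i))⁻¹ (ac (X.D.rf (e i)) a) = a from act_inv_act (X := X.D) _ _] at h1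
  refine (h1.trans (h.2 _ (rt_ac _ ha))).trans ?_
  rw [ac_rf (rt_e i), Pi.sub_apply, Pi.sub_apply, Pi.smul_apply, Pi.smul_apply, hi.1, hi.2,
    smul_zero, sub_zero, sub_zero]

theorem ac_cj (i : Fin 6) (a : V) : ac ((X.D.rf (e i))⁻¹ * w * X.D.rf (e i)) a =
    ac w (a - (a ⬝ᵥ cc (e i)) • e i) - (ac w (a - (a ⬝ᵥ cc (e i)) • e i) ⬝ᵥ cc (e i)) • e i := by
  rw [inv_eq_of_mul_eq_one_right (X.D.rf_mul_self (rt_e i)), ac_mul, ac_mul, ac_rf (rt_e i), ac_rf (rt_e i)]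

section core

variable (h : NF w) (hs : ∀ a, ac w a = sg a)
include hs

theorem ac_pow (i : ℕ) (a : V) : ac (w ^ i) a = sg^[i] a := by
  induction i with
  | zero => rw [pow_zero]; exact act_one (X := X.D) a
  | succ i ih => rw [pow_succ', ac_mul, ih, hs, Function.iterate_succ_apply']

include h in
theorem wm_eq (v : V) : wm w v = wv v := by
  have h1 : w⁻¹ = w * w := by rw [inv_eq_iff_mul_eq_one, ← pow_three, h.1]
  have h2 : ∀ i, wm w v i = sg (sg (e i)) ⬝ᵥ v := fun i => by rw [← sr_dot i (wm w v), dot_wm, h1, ac_mul, hs, hs]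
  apply ext6 <;> rw [h2, dot6] <;> simp [sg, sr, wv] <;> ring

theorem ac_sg (hc : φ * w = w * φ) (a : V) : ac φ (sg a) = sg (ac φ a) := by rw [← hs, ← hs, ← ac_mul, hc, ac_mul]

include h in
theorem dd_eq {v : V} (hv : nm w v = 0) :
    dd v = dd v 0 • e 0 + dd v 2 • sg (e 0) + dd v 4 • e 4 + dd v 5 • sg (e 4) := by
  rw [nm, wm_eq h hs, wm_eq h hs] at hv
  have h1 := congrFun hv 1
  have h3 := congrFun hv 3
  simp only [Pi.add_apply, Pi.zero_apply] at h1 h3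
  simp [wv] at h1 h3
  have h4 : dd v 1 = 0 ∧ dd v 3 = 0 := by
    simp [dd]
    omega
  generalize dd v = b at h4
  rw [show sg (e 0) = e 2 by decide, show sg (e 4) = e 5 by decide]
  apply ext6 <;> simp [sr, h4]

include h in
theorem ac_dd_eq (hc : φ * w = w * φ) {v : V} (hv : nm w v = 0) : ac φ (dd v) =
    dd v 0 • ac φ (e 0) + dd v 2 • sg (ac φ (e 0)) + dd v 4 • ac φ (e 4) + dd v 5 • sg (ac φ (e 4)) := by
  conv_lhs => rw [dd_eq h hs hv]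
  simp only [ac_add, ac_smul, ac_sg hs hc]

omit hs in
theorem dv {x y : ℤ} (h : 9 ∣ x - y) (k : 9 ∣ x) : 9 ∣ y := by omega

omit hs in
theorem smul3 {u v : V} (h : (3 : ℤ) • u = (3 : ℤ) • v) : u = v := smul_right_injective V three_ne_zero h

include h in
theorem img (hc : φ * w = w * φ) : ∃ i j : Fin 3, (ac φ (e 0) = sg^[i] (e 0) ∧ ac φ (e 4) = sg^[j] (e 4)) ∨
    (ac φ (e 0) = sg^[i] (e 4) ∧ ac φ (e 4) = sg^[j] (e 0) ∧ ∀ l, 3 ∣ (ac φ (e 1) + ac φ th + (e 1 + th)) l) := by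
  have h0 := rt_ac φ (rt_e (X := X) 0)
  have h4 := rt_ac φ (rt_e (X := X) 4)
  obtain ⟨s, h1⟩ := exists_ro h0
  obtain ⟨t, h2⟩ := exists_ro h4
  have h5 : ac φ zz = ro s - sg (ro s) + ro t - sg (ro t) := by
    rw [show zz = e 0 - sg (e 0) + e 4 - sg (e 4) by decide, ac_sub, ac_add, ac_sub, ac_sg hs hc, ac_sg hs hc, h1, h2]
  have h6 : ac φ (e 1) + ac φ th = ro s - sg (ro s) - (ro t - sg (ro t)) + (3 : ℤ) • ac φ ![0, 1, 1, 1, 1, 0] := by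
    rw [← ac_add, show e 1 + th = e 0 - sg (e 0) - (e 4 - sg (e 4)) + (3 : ℤ) • ![0, 1, 1, 1, 1, 0] by decide, ac_add, ac_sub,
      ac_sub, ac_sub, ac_sg hs hc, ac_sg hs hc, h1, h2, ac_smul]
  obtain ⟨i, j, k⟩ := lines s (h1 ▸ (h.2 _ h0).1 (nz_act hc (h.nz 0 (by decide)))) t
    (h2 ▸ (h.2 _ h4).1 (nz_act hc (h.nz 4 (by decide)))) (by rw [← h1, ← h2, dot_ac]; decide)
    (by rw [← h1, ← h2, ← ac_sg hs hc, dot_ac]; decide) fun i => h5 ▸ ac_zz φ i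
  refine ⟨i, j, k.imp (fun k => ⟨h1.trans k.1, h2.trans k.2⟩) fun k => ⟨h1.trans k.1, h2.trans k.2.1, fun l => ?_⟩⟩
  rw [h6, add_right_comm, Pi.add_apply]
  exact dvd_add (k.2.2 l) (dvd_mul_right 3 _)

include h in
theorem sq_swap (hc : φ * w = w * φ) {i j : ℕ} (h0 : ac φ (e 0) = sg^[i] (e 4)) (h4 : ac φ (e 4) = sg^[j] (e 0)) {v : V}
    (hv : nm w v = 0) : wm (φ ^ 2) v = wm (w ^ (i + j)) v := by
  have e1 : ∀ (n : ℕ) a, ac φ (sg^[n] a) = sg^[n] (ac φ a) := fun n a => by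
    rw [← ac_pow hs, ← ac_pow hs, ← ac_mul, (Commute.pow_right hc n).eq, ac_mul]
  refine smul3 ?_
  rw [three_wm, three_wm, ac_dd_eq h hs (Commute.pow_left hc 2).eq hv, ac_dd_eq h hs (Commute.pow_self w _).eq hv, pow_two,
    ac_mul, ac_mul, h0, h4, e1, e1, h0, h4, ac_pow hs, ac_pow hs, ← Function.iterate_add_apply,
    ← Function.iterate_add_apply, add_comm j]

omit hs in
theorem sg_45 (x y : ℤ) : sg (x • e 4 + y • e 5) = (-y) • e 4 + (x - y) • e 5 := by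
  apply ext6 <;> simp only [Pi.add_apply, Pi.smul_apply, sg] <;> simp [sr]

omit hs in
theorem sg_v2 (n : ℕ) : ∃ x y : ℤ, sg^[n] (e 4) = x • e 4 + y • e 5 := by
  induction n with
  | zero => exact ⟨1, 0, by simp⟩
  | succ n ih =>
    obtain ⟨x, y, h⟩ := ih
    exact ⟨-y, x - y, by rw [Function.iterate_succ_apply', h, sg_45]⟩

include h in
theorem sq_fix (hc : φ * w = w * φ) {i j : ℕ} (h0 : ac φ (e 0) = sg^[i] (e 0)) (h4 : ac φ (e 4) = sg^[j] (e 4)) {v : V}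
    (hv : nm w v = 0) {s : Fin chevE6.nroots} (h1 : sg (ro s) ≠ ro s) (h2 : ¬ (ro s 1 = 0 ∧ ro s 3 = 0))
    (h3 : ro s ⬝ᵥ wm φ v = ro s ⬝ᵥ wm (w ^ i) v) (h5 : sg (ro s) ⬝ᵥ wm φ v = sg (ro s) ⬝ᵥ wm (w ^ i) v) :
    wm φ v = wm (w ^ i) v := by
  obtain ⟨x, y, e1⟩ : ∃ x y : ℤ, (3 : ℤ) • wm φ v = (3 : ℤ) • wm (w ^ i) v + (x • cc (e 4) + y • cc (e 5)) := by
    obtain ⟨x, y, e1⟩ := sg_v2 i
    obtain ⟨x', y', e2⟩ := sg_v2 j
    refine ⟨dd v 4 * (x' - x) - dd v 5 * (y' - y), dd v 4 * (y' - y) + dd v 5 * (x' - y' - (x - y)), ?_⟩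
    rw [three_wm, three_wm, ac_dd_eq h hs hc hv, ac_dd_eq h hs (Commute.pow_self w _).eq hv, h0, h4, ac_pow hs, ac_pow hs,
      e1, e2, ← cc_smul, ← cc_smul, ← cc_add, ← cc_add]
    generalize sg^[i] (e 0) = z
    rw [sg_45, sg_45]
    congr 1
    module
  have e2 := congrArg (ro s ⬝ᵥ ·) e1
  have e3 := congrArg (sg (ro s) ⬝ᵥ ·) e1
  simp only [dotProduct_add, dotProduct_smul, smul_eq_mul, h3, h5, left_eq_add] at e2 e3
  have e4 := det2 s h1 h2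
  obtain rfl : x = 0 := (mul_eq_zero.1 (by linear_combination sg (ro s) ⬝ᵥ cc (e 5) * e2 - ro s ⬝ᵥ cc (e 5) * e3)).resolve_left e4
  obtain rfl : y = 0 := (mul_eq_zero.1 (by linear_combination ro s ⬝ᵥ cc (e 4) * e3 - sg (ro s) ⬝ᵥ cc (e 4) * e2)).resolve_left e4
  exact smul3 (by simpa using e1)

include h in
theorem red {n : ℤ} (hn : n ≠ 0) {u μ : V} (hμ : 3 ∣ zz ⬝ᵥ μ) (hu : wm w u = u + n • μ) :
    ∃ v : V, u = u 1 • e 1 + u 3 • e 3 + n • v := by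
  rw [wm_eq h hs] at hu
  rw [dot6] at hμ
  have h0 := congrFun hu 0
  have h2 := congrFun hu 2
  have h3 := congrFun hu 3
  have h4 := congrFun hu 4
  have h5 := congrFun hu 5
  simp [wv, zz] at h0 h2 h3 h4 h5 hμ
  have h6 : μ 0 + 2 * μ 2 + 3 * μ 3 + 2 * μ 4 + μ 5 = 0 :=
    mul_left_cancel₀ hn (by linear_combination -h0 - 2 * h2 - 3 * h3 - 2 * h4 - h5)
  obtain ⟨a, ha⟩ : 3 ∣ μ 2 - μ 0 := by omega
  obtain ⟨b, hb⟩ : 3 ∣ μ 5 - μ 4 := by omega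
  have h7 : u 0 = n * a := mul_left_cancel₀ three_ne_zero (by linear_combination h2 - h0 + n * ha)
  have h8 : u 4 = n * b := mul_left_cancel₀ three_ne_zero (by linear_combination h5 - h4 + n * hb)
  refine ⟨![a, 0, a - μ 2, 0, b, b - μ 5], ?_⟩
  apply ext6 <;> simp [sr]
  exacts [h7, by linear_combination h7 - h2, h8, by linear_combination h8 - h5]

/-- the congruences for the fixed lattice -/
theorem rows (φ : X.D.W) {m n : ℤ} {u v ν : V} (h1 : u = u 1 • e 1 + u 3 • e 3 + n • v) (h2 : m • wm φ u = u + n • ν)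
    (i : Fin 6) : n ∣ m * (u 1 * cc (ac φ th) i + u 3 * (2 * cc (ac φ th) i - cc (ac φ (e 1)) i)) - u i := by
  have h3 : wm φ (e 1) = cc (ac φ th) := by rw [← wm_cc]; exact congrArg _ (by decide)
  have h4 : wm φ (e 3) = (2 : ℤ) • cc (ac φ th) - cc (ac φ (e 1)) := by
    rw [← cc_smul, ← cc_sub, ← ac_smul, ← ac_sub, ← wm_cc]
    exact congrArg _ (by decide)
  have h5 := congrFun h2 i
  rw [h1, wm_add, wm_add, wm_smul, wm_smul, wm_smul, h3, h4, ← h1] at h5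
  simp only [Pi.add_apply, Pi.sub_apply, Pi.smul_apply, smul_eq_mul] at h5
  exact ⟨ν i - m * wm φ v i, by linear_combination h5⟩

omit hs in
theorem fin {n n' x y s t : ℤ} {u v : V} (h1 : u = u 1 • e 1 + u 3 • e 3 + n • v) (h2 : 3 * u 1 = n * (n' * x + 3 * s))
    (h3 : 3 * u 3 = n * (n' * y + 3 * t)) :
    (3 : ℤ) • u = n • (n' • (x • e 1 + y • e 3) + (3 : ℤ) • (s • e 1 + t • e 3 + v)) := by
  rw [h1, smul_add, smul_add, smul_smul, smul_smul, h2, h3]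
  module

include h in
theorem core : Mn X.D w := by
  intro Ψ h0 h1 h2
  refine .inr ⟨((congrArg Set.ncard (Set.ext fun a => and_congr_right fun _ => (congrArg (· = a) (hs a)).to_iff)).trans
    (ncard_RP X fun a => sg a = a)).trans six, fun φ hc h3 => ?_⟩
  obtain ⟨s, hs1⟩ := exists_ro (rt_ac φ (rt_e (X := X) 1))
  obtain ⟨t, ht1⟩ := exists_ro (rt_ac φ (rt_th (X := X)))
  have hs2 : sg (ro s) = ro s := by rw [← hs1, ← ac_sg hs hc]; exact congrArg _ (by decide)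
  have ht2 : sg (ro t) = ro t := by rw [← ht1, ← ac_sg hs hc]; exact congrArg _ (by decide)
  have hst : ro s ⬝ᵥ cc (ro t) = 1 := by rw [← hs1, ← ht1, dot_ac]; decide
  have cy : ∀ {m a b c d : ℤ}, ¬ 9 ∣ a * d - b * c → (∀ (j : ℕ) (u v ν : V), u = u 1 • e 1 + u 3 • e 3 + (3 : ℤ) ^ j • v →
      Ψ ⊆ Rn X.D (3 ^ j) u → m • wm φ u = u + (3 : ℤ) ^ j • ν → 3 ^ j ∣ a * u 1 + b * u 3 ∧ 3 ^ j ∣ c * u 1 + d * u 3) →
      ∃ c : V, ∀ (j : ℕ) (u μ ν : V), InQ X.D μ → wm w u = u + (3 : ℤ) ^ j • μ → Ψ ⊆ Rn X.D (3 ^ j) u →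
      m • wm φ u = u + (3 : ℤ) ^ j • ν → ∃ (n : ℤ) (v : V), (3 : ℤ) • u = (3 : ℤ) ^ j • (n • c + (3 : ℤ) • v) := fun k1 k2 => by
    obtain ⟨x, y, k⟩ := forms k1
    refine ⟨x • e 1 + y • e 3, fun j u μ ν e1 e2 e3 e4 => ?_⟩
    obtain ⟨v, e5⟩ := red h hs (by positivity) ((inQ6 μ).1 e1) e2
    obtain ⟨n, s', t', e6, e7⟩ := k j _ _ (k2 j u v ν e5 e3 e4).1 (k2 j u v ν e5 e3 e4).2
    exact ⟨n, _, fin e5 e6 e7⟩
  have r1 : ∀ {m n : ℤ} {u v ν : V}, u = u 1 • e 1 + u 3 • e 3 + n • v → m • wm φ u = u + n • ν →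
      n ∣ (m * cc (ro t) 1 - 1) * u 1 + m * (2 * cc (ro t) 1 - cc (ro s) 1) * u 3 ∧
      n ∣ m * cc (ro t) 3 * u 1 + (m * (2 * cc (ro t) 3 - cc (ro s) 3) - 1) * u 3 := fun k1 k2 => by
    have k3 := rows hs φ k1 k2 1
    have k4 := rows hs φ k1 k2 3
    rw [hs1, ht1] at k3 k4
    exact ⟨by convert k3 using 1; ring, by convert k4 using 1; ring⟩
  obtain ⟨i, j, k⟩ := img h hs hc
  by_cases h4 : ∀ b ∈ Ψ, ac w b = b
  · rcases k with ⟨k, -⟩ | ⟨k1, k2, k3⟩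
    · refine .inl ⟨e 0, ⟨h.nz 0 (by decide), fun b hb => ?_⟩, i, .inl (k.trans (ac_pow hs i _).symm)⟩
      obtain ⟨u, rfl⟩ := exists_ro (h0 b hb)
      exact (pr6 _ (h0 _ hb)).trans (fix0 u ((hs _).symm.trans (h4 _ hb)))
    refine .inr ⟨fun v _ hv => ⟨_, sq_swap h hs hc k1 k2 hv⟩, fun m e1 e2 => cy ?_ fun j u v ν e3 _ e4 => r1 e3 e4⟩
    obtain ⟨k4, k5⟩ := nine1 s hs2 t ht2 hst (hs1 ▸ ht1 ▸ k3)
    obtain ⟨q, rfl | rfl⟩ := mod9 e1 e2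
    exacts [fun k => k4 (dv (d1_mod 4 q _ _) k), fun k => k5 (dv (d1_mod 7 q _ _) k)]
  push Not at h4
  obtain ⟨b, hb, h4⟩ := h4
  obtain ⟨u, rfl⟩ := exists_ro (h0 b hb)
  have h5 : sg (ro u) ≠ ro u := hs _ ▸ h4
  have h6 : ¬ (ro u 1 = 0 ∧ ro u 3 = 0) := fun k => h2 _ hb ((h.2 _ (h0 _ hb)).2 k)
  refine .inr ⟨fun v hv hv' => ?_, fun m e1 e2 => ?_⟩
  · rcases k with ⟨k1, k2⟩ | ⟨k1, k2, -⟩
    · have h7 : ∀ a ∈ Ψ, X.D.act (w ^ (i : ℕ)) a ∈ Ψ := by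
        induction (i : ℕ) with
        | zero => exact fun a ha => by rwa [pow_zero, act_one]
        | succ n ih => exact fun a ha => by rw [pow_succ, act_mul']; exact ih _ (h1 a ha)
      have h8 := pp_st h0 h3 hv
      have h9 := pp_st h0 h7 hv
      have h10 : sg (ro u) ∈ Ψ := hs _ ▸ h1 _ hb
      have h11 := sq_fix h hs hc k1 k2 hv' h5 h6 ((h8 _ hb).trans (h9 _ hb).symm) ((h8 _ h10).trans (h9 _ h10).symm)
      refine ⟨i + i, ?_⟩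
      rw [pow_two, Wm_mul', pow_add, Wm_mul', show X.D.Wm φ *ᵥ v = X.D.Wm (w ^ (i : ℕ)) *ᵥ v from h11, ← Wm_mul',
        (Commute.pow_right hc i).eq, Wm_mul', show X.D.Wm φ *ᵥ v = X.D.Wm (w ^ (i : ℕ)) *ᵥ v from h11]
    · exact ⟨_, sq_swap h hs hc k1 k2 hv'⟩
  have r2 : ∀ {n : ℤ} {y v : V}, y = y 1 • e 1 + y 3 • e 3 + n • v → Ψ ⊆ Rn X.D n y → n ∣ ro u 1 * y 1 + ro u 3 * y 3 :=
    fun {n y v} k1 k2 => by
      have k3 : n ∣ ro u ⬝ᵥ y := (k2 hb).2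
      rw [k1, dotProduct_add, dotProduct_add, dotProduct_smul, dotProduct_smul, dotProduct_smul, dotProduct_comm, sr_dot,
        dotProduct_comm, sr_dot, smul_eq_mul, smul_eq_mul, smul_eq_mul, dvd_add_left (dvd_mul_right _ _)] at k3
      rwa [mul_comm, mul_comm (ro u 3)]
  have k4 : ¬ 9 ∣ d2 m (ro s) (ro t) (ro u) ∨ ¬ 9 ∣ d3 m (ro s) (ro t) (ro u) := by
    obtain ⟨k4, k5⟩ := nine2 s hs2 t ht2 hst u h5 h6
    obtain ⟨q, rfl | rfl⟩ := mod9 e1 e2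
    exacts [k4.imp (mt fun k => dv (d2_mod 4 q _ _ _) k) (mt fun k => dv (d3_mod 4 q _ _ _) k),
      k5.imp (mt fun k => dv (d2_mod 7 q _ _ _) k) (mt fun k => dv (d3_mod 7 q _ _ _) k)]
  exact k4.elim (fun k => cy k fun j y v ν e3 e4 e5 => ⟨r2 e3 e4, (r1 e3 e5).1⟩)
    fun k => cy k fun j y v ν e3 e4 e5 => ⟨r2 e3 e4, (r1 e3 e5).2⟩

end core

theorem NF.mn4 (h : NF w) (h0 : ac w (e 0) = e 2) : Mn X.D w := by
  obtain ⟨s, h1, h2, h3⟩ := h.img 4 (by decide)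
  rcases img4 s h2 h3 with h4 | h4
  · exact core h (h.ac_eq h0 (h1.trans h4))
  refine Mn.cj _ (core (h.cj 4 (by decide)) ((h.cj 4 (by decide)).ac_eq ?_ ?_))
  · rw [ac_cj, show e 0 - (e 0 ⬝ᵥ cc (e 4)) • e 4 = e 0 by decide, h0]
    decide
  · rw [ac_cj, show e 4 - (e 4 ⬝ᵥ cc (e 4)) • e 4 = (-1 : ℤ) • e 4 by decide, ac_smul, h1, h4]
    decide

theorem NF.mn (h : NF w) : Mn X.D w := by
  obtain ⟨s, h1, h2, h3⟩ := h.img 0 (by decide)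
  rcases img0 s h2 h3 with h4 | h4
  · exact h.mn4 (h1.trans h4)
  refine Mn.cj _ ((h.cj 0 (by decide)).mn4 ?_)
  rw [ac_cj, show e 0 - (e 0 ⬝ᵥ cc (e 0)) • e 0 = (-1 : ℤ) • e 0 by decide, ac_smul, h1, h4]
  decide

theorem not_one (h3 : w ^ 3 = 1) (i j : Fin 6) (h1 : ∀ l, l ≠ i → e l ∈ Nz X.D w) (h2 : wm w (e i) = e i) :
    dd (e i) i ∣ 3 * dd (e i) j := by
  have h4 := dot_nm h3 (dd (e i)) (e j)
  rw [ac_dd h2, ac_dd h2, dotProduct, sum_eq_single i (fun l _ hl => by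
    rw [← sr_dot l (nm w _), nz_dot (wm_nm h3 _) (h1 l hl), mul_zero]) (fun k => absurd (mem_univ i) k), dotProduct_comm,
    sr_dot] at h4
  exact ⟨nm w (e j) i, by rw [h4, Pi.add_apply, Pi.add_apply]; ring⟩

theorem mn (h3 : w ^ 3 = 1) (hf : ∀ v, X.D.Wm w *ᵥ v = v → InQ X.D v) : Mn X.D w := by
  obtain ⟨g, J, hJ⟩ := K6.std X (fun _ h => h.1) (lvs_Nz h3)
  refine Mn.cj g ?_
  have h4 : (g⁻¹ * w * g) ^ 3 = 1 := by
    simpa only [inv_inv, h3, mul_one, inv_mul_cancel] using conj_pow (a := g⁻¹) (b := w) (i := 3)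
  have h5 : Nz X.D (g⁻¹ * w * g) = RP X fun a => ∀ i, J i → a i = 0 := Set.ext fun a => by
    rw [← act_inv_act g a, nz_cj, hJ, act_mem_im, act_inv_act]
  have h6 : ∀ v, X.D.Wm (g⁻¹ * w * g) *ᵥ v = v → InQ X.D v := fun v hv => (inQ_Wm g).1 (hf _ (by
    rw [Wm_mul', Wm_mul'] at hv
    rw [← Wm_Wm_inv g (X.D.Wm w *ᵥ _), hv]))
  generalize g⁻¹ * w * g = w at h4 h5 h6
  have h7 : ∀ i, J i → wm w (e i) = e i := fun i hi => fix_of_pp (X := X.D) h4 (h5 ▸ K6.pp_sr X hi)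
  have h8 : ∀ i, J i → i = 1 ∨ i = 3 := fun i hi =>
    (by decide : ∀ i : Fin 6, 3 ∣ zz ⬝ᵥ e i → i = 1 ∨ i = 3) i ((inQ6 _).1 (h6 _ (h7 i hi)))
  have h9 : ∀ l, ¬ J l → e l ∈ Nz X.D w := fun l hl => h5 ▸ ⟨rt_e l, fun i hi => sr_ne fun k => hl (k ▸ hi)⟩
  by_cases j1 : J 1 <;> by_cases j3 : J 3
  · refine NF.mn ⟨h4, fun a ha => h5 ▸ ⟨fun k => ⟨k.2 1 j1, k.2 3 j3⟩, fun k => ⟨ha, fun i hi => ?_⟩⟩⟩
    rcases h8 i hi with rfl | rfl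
    exacts [k.1, k.2]
  · exact absurd (not_one h4 1 0 (fun l hl => h9 l fun k => (h8 l k).elim hl fun e => j3 (e ▸ k)) (h7 1 j1)) (by decide)
  · exact absurd (not_one h4 3 1 (fun l hl => h9 l fun k => (h8 l k).elim (fun e => j1 (e ▸ k)) hl) (h7 3 j3)) (by decide)
  have h10 : ∀ a, X.D.Rt a → a ∈ Nz X.D w := fun a ha => h5 ▸ ⟨ha, fun i hi =>
    (h8 i hi).elim (fun e => absurd (e ▸ hi) j1) fun e => absurd (e ▸ hi) j3⟩
  intro Ψ h0 _ h2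
  have h11 : ∀ a, X.D.Rt a → a ∈ Ph X.D w Ψ := fun a ha => ⟨h10 a ha, fun b hb => absurd (h10 b (h0 b hb)) (h2 b hb)⟩
  refine .inl ⟨⟨_, h11 _ (rt_e 0)⟩, fun a ha b hb => ?_⟩
  obtain ⟨s, rfl⟩ := exists_ro ha.1.1
  obtain ⟨t, rfl⟩ := exists_ro hb.1.1
  obtain ⟨u, k1, k2⟩ := con s t
  exact ⟨ro u, h11 _ (rt_vec X u), (pr6 _ (rt_vec X u)).trans_ne k1, (pr6 _ (rt_vec X u)).trans_ne k2⟩

theorem fix (w : X.D.W) (u μ : V) (n : ℤ) (hn : n ≠ 0) (h1 : wm w u = u + n • μ) (h2 : ¬ 3 ∣ zz ⬝ᵥ μ) (v : V)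
    (hv : wm w v = v) : 3 ∣ zz ⬝ᵥ v := by
  have h3 := dot_wm w (ac w (dd v)) u
  rw [show ac w⁻¹ (ac w (dd v)) = dd v from act_inv_act (X := X.D) _ _, ac_dd hv, h1, dotProduct_add, dotProduct_smul,
    add_eq_left, smul_eq_mul, mul_eq_zero] at h3
  have h4 := dd_dot v μ
  rw [h3.resolve_left hn, zero_sub, dvd_neg] at h4
  exact (Int.prime_three.dvd_or_dvd h4).resolve_right h2

theorem idx (u v : V) (h : ¬ 3 ∣ zz ⬝ᵥ u) : 3 ∣ zz ⬝ᵥ v ∨ 3 ∣ zz ⬝ᵥ (u + v) ∨ 3 ∣ zz ⬝ᵥ (u - v) := by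
  rw [dotProduct_add, dotProduct_sub]
  generalize zz ⬝ᵥ u = a at h
  generalize zz ⬝ᵥ v = b
  have h1 : a % 3 = 1 ∨ a % 3 = 2 := by omega
  have h2 : b % 3 = 0 ∨ b % 3 = 1 ∨ b % 3 = 2 := by omega
  rcases h1 with h1 | h1 <;> rcases h2 with h2 | h2 | h2 <;> omega

end LN6

open LN6 in
theorem boxLN : BoxLN := fun _ _ _ _ _ _ _ X =>
  ⟨fun v => ⟨dd v, ((cl6 (X := X) _).trans (cc_dd v)).symm⟩,
    fun u v h => (idx u v (mt (inQ6 u).2 h)).imp (inQ6 _).2 (Or.imp (inQ6 _).2 (inQ6 _).2),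
    fun w u μ n hn h1 h2 v hv => (inQ6 v).2 (fix w u μ n hn h1 (mt (inQ6 μ).2 h2) v hv),
    fun _ Ψ h hf => mn h.cube hf Ψ (fun a ha => ((h.cs.choose_spec a).1 ha).1) h.st h.dj⟩

end Cfsg.Agent.KM.Tor
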