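import Cfsg.Agent.KM.Tor.E6D
import Cfsg.Agent.KM.Tor.Kill

/-!
# KM, `l = 3`, types `E₆`, `²E₆` : the lattice steps (helper29)
-/

set_option autoImplicit false
set_option linter.unusedSectionVars false

namespace Cfsg.Agent.KM.Tor.E6

open Cfsg Cfsg.Lie Cfsg.Agent.DL Cfsg.Agent.Nodes.Reps Cfsg.Agent.Nodes.BNOf Matrix Subgroup Cfsg.Agent.KM.Ht
open Cfsg.Agent.TO.X.Cn (cl exists_exp χ_exp comm_exp exists_cl cl_add cl_smul cl_zero cl_sr WZ mem_WZ Tr stab_vec rf_exp)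
open Cfsg.Agent.DL.CF (act_mul act_one)
open Cfsg.Agent.ChevalleyStructure.CoxeterGeom Cfsg.Agent.Tits.Roots Cfsg.Agent.DL.Base Cfsg.Agent.Nodes.SubComb
open TW BT

variable {p : ℕ} [Fact p.Prime] {k : Type} [Field k] [CharP k p] {Y : Type} [Group Y] {N : Type} [Fintype N]
  [DecidableEq N] {ρ : Y →* GL N k} {F : MulAut Y} {G : Subgroup Y} [IsAlgClosed k] (X : Datum p ρ F G)

/-- the coroot lattice -/
def Q : Submodule ℤ (X.R → ℤ) where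
  carrier := {v | InQ X v}
  add_mem' := fun ⟨β, h⟩ ⟨γ, h'⟩ => ⟨β + γ, by rw [cl_add, h, h']⟩
  zero_mem' := ⟨0, (cl_zero X).symm⟩
  smul_mem' c _ := fun ⟨β, h⟩ => ⟨c • β, by rw [cl_smul, h]⟩

variable {X} {w φ : X.W} {u v μ ν : X.R → ℤ} {ζ : kˣ} {m : ℤ}

theorem sub_mem_Q (w : X.W) (v : X.R → ℤ) : X.Wm w *ᵥ v - v ∈ Q X :=
  let ⟨β, h⟩ := exists_cl X v w
  ⟨β, sub_eq_of_eq_add' h⟩

theorem Wm_mem (w : X.W) (h : v ∈ Q X) : X.Wm w *ᵥ v ∈ Q X := by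
  simpa only [sub_add_cancel] using add_mem (sub_mem_Q w v) h

theorem cor_mem {a : X.I → ℤ} (ha : X.Rt a) : X.cor a ∈ Q X := by
  obtain ⟨v, i, rfl⟩ := ha
  rw [X.cor_act_sr]
  exact Wm_mem v ⟨_, (cl_sr X i).symm⟩

theorem of_cop (hN : LN X) {c : ℤ} (hc : ¬ 3 ∣ c) (h : c • v ∈ Q X) : v ∈ Q X := by
  obtain ⟨a, b, e⟩ := Int.prime_three.coprime_iff_not_dvd.2 hc
  rw [← one_smul ℤ v, ← e, add_smul, mul_smul, mul_smul]
  exact add_mem ((Q X).smul_mem a (hN.three v)) ((Q X).smul_mem b h)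

theorem three_mem (hN : LN X) {c : ℤ} (hc : 3 ∣ c) (v : X.R → ℤ) : c • v ∈ Q X := by
  obtain ⟨c, rfl⟩ := hc
  rw [mul_smul]
  exact hN.three _

theorem ord_ne (X : Datum p ρ F G) (ζ : kˣ) : (orderOf ζ : ℤ) ≠ 0 := (Int.natCast_pos.2 (ord_pos X ζ)).ne'

theorem τ_eq_iff : X.τ (coch u ζ) = X.τ (coch v ζ) ↔ ∃ κ, u = v + (orderOf ζ : ℤ) • κ := by
  refine ⟨fun h => ?_, fun ⟨κ, e⟩ => by rw [e, coch_add, coch_zsmul, zpow_natCast, pow_orderOf_eq_one, map_one, mul_one]⟩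
  have h1 : ∀ j, (orderOf ζ : ℤ) ∣ u j - v j := fun j => by
    rw [orderOf_dvd_iff_zpow_eq_one, _root_.zpow_sub, show ζ ^ u j = ζ ^ v j from congrFun (X.τ_inj h) j, mul_inv_cancel]
  choose κ hκ using h1
  exact ⟨κ, funext fun j => eq_add_of_sub_eq' (hκ j)⟩

theorem fix_iff : F (X.τ (coch u ζ)) = X.τ (coch u ζ) ↔ ∃ ν, X.Mx *ᵥ u = u + (orderOf ζ : ℤ) • ν := by
  rw [X.F_τ, mon_coch, τ_eq_iff]

theorem com (X : Datum p ρ F G) (a b : kˣ) : ∃ (η : kˣ) (i j : ℤ), η ^ i = a ∧ η ^ j = b := by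
  have : NeZero (orderOf a * orderOf b) := ⟨(Nat.mul_pos (ord_pos X a) (ord_pos X b)).ne'⟩
  obtain ⟨η, hη⟩ := IsCyclic.exists_generator (α := rootsOfUnity (orderOf a * orderOf b) k)
  obtain ⟨i, hi⟩ := hη ⟨a, (mem_rootsOfUnity _ _).2 (orderOf_dvd_iff_pow_eq_one.1 (dvd_mul_right _ _))⟩
  obtain ⟨j, hj⟩ := hη ⟨b, (mem_rootsOfUnity _ _).2 (orderOf_dvd_iff_pow_eq_one.1 (dvd_mul_left _ _))⟩
  exact ⟨η, i, j, congrArg Subtype.val hi, congrArg Subtype.val hj⟩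

attribute [local instance] fintypeSmp decSmp in
theorem mem_closure {Z : Set Y} (hZ : Z ⊆ X.T) (hF : ∀ z ∈ Z, F z ∈ Z) (h : w ∈ WZ X Z) :
    w ∈ closure (X.rf '' X.Sz Z) := by
  obtain ⟨x, h1, h2⟩ := h
  have h3 := fun a ha => X.g_mem_Sz hZ hF (a := a) ha
  obtain ⟨v, hv⟩ : x ∈ (X.sub hZ h3 rfl).NN := by
    rw [Datum.sub_NN]
    exact ⟨⟨w, h2⟩, h1⟩
  exact X.range_subW (Z := Z) ▸ ⟨v, X.rp_unique (X.rp_of_sub hZ h3 rfl hv) h2⟩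

/-- **the component group of the centraliser** -/
theorem wz_iff (hF : F (X.τ (coch u ζ)) = X.τ (coch u ζ)) (h : X.Wm w *ᵥ u = u + (orderOf ζ : ℤ) • μ) :
    w ∈ WZ X {X.τ (coch u ζ)} ↔ μ ∈ Q X := by
  refine ⟨fun h1 => ?_, fun ⟨β, e⟩ => stab_vec X (Int.natCast_pos.2 (ord_pos X ζ)) (e ▸ h) rf_exp⟩
  have h2 := mem_closure (Set.singleton_subset_iff.2 (X.τ_mem _)) (fun _ e => e ▸ hF) h1
  have h3 : Tr X (orderOf ζ) u w 0 := by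
    clear h h1
    induction h2 using closure_induction with
    | mem _ h =>
      obtain ⟨a, ha, rfl⟩ := h
      obtain ⟨c, hc⟩ := (χ_exp X a u ζ).1 (ha.2 _ rfl)
      obtain ⟨β, hβ⟩ := (Q X).smul_mem (-c) (cor_mem ha.1)
      refine ⟨β, ?_⟩
      rw [X.Wm_rf ha.1, sub_mulVec, one_mulVec, vecMulVec_mulVec, op_smul_eq_smul, hc, ← hβ]
      module
    | one => exact ⟨0, by rw [X.Wm_one, one_mulVec, cl_zero, add_zero, smul_zero, add_zero]⟩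
    | mul _ _ _ _ h h' => simpa only [add_zero] using h.mul h'
    | inv _ _ h => simpa only [neg_zero] using h.inv
  obtain ⟨β, hβ⟩ := h3
  exact ⟨β, smul_right_injective _ (ord_ne X ζ) (add_left_cancel (h.symm.trans (hβ.trans (by rw [zero_add]))))⟩

theorem www' (h3 : w ^ 3 = 1) (v : X.R → ℤ) : X.Wm w *ᵥ X.Wm w *ᵥ X.Wm w *ᵥ v = v := by
  rw [mulVec_mulVec, mulVec_mulVec, ← X.Wm_mul, ← X.Wm_mul, ← sq, ← pow_succ, h3, X.Wm_one, one_mulVec]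

theorem nm_zero (h3 : w ^ 3 = 1) {n : ℤ} (hn : n ≠ 0) (h : X.Wm w *ᵥ u = u + n • μ) : Nm X w μ = 0 := by
  have e := www' h3 u
  simp only [h, mulVec_add, mulVec_smul] at e
  refine (smul_eq_zero.1 (?_ : n • Nm X w μ = 0)).resolve_left hn
  rw [Nm, smul_add, smul_add]
  linear_combination e

/-- `F` acts on the roots as `± φ` -/
theorem g_eq (hS : Sl X) (hM : X.Mx = m • X.Wm φ) {a : X.I → ℤ} (ha : X.Rt a) :
    X.g a = X.act φ a ∨ X.g a = -X.act φ a := by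
  by_contra! e
  have h1 := X.Mx_cor ha
  rw [hM, smul_mulVec, ← X.cor_act φ ha] at h1
  have h2 := congrArg (X.wt (X.g a) ⬝ᵥ ·) h1
  have h3 := congrArg (X.wt (X.act φ a) ⬝ᵥ ·) h1
  have h4 := bd hS (X.g_root a ha) (ha.act φ) e.1 e.2
  have h5 := X.q_pos a
  simp only [dotProduct_smul, smul_eq_mul] at h2 h3
  rw [show X.wt (X.g a) ⬝ᵥ X.cor (X.g a) = 2 from pr_self (X.g_root a ha)] at h2
  rw [show X.wt (X.act φ a) ⬝ᵥ X.cor (X.act φ a) = 2 from pr_self (ha.act φ), hS _ _ (ha.act φ) (X.g_root a ha)] at h3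
  rw [pr] at h4
  generalize X.wt (X.g a) ⬝ᵥ X.cor (X.act φ a) = r at h2 h3 h4
  rcases (by omega : r = -1 ∨ r = 0 ∨ r = 1) with rfl | rfl | rfl <;> omega

theorem act_of_fix (h3 : w ^ 3 = 1) (i : ℕ) (v : X.R → ℤ) : X.Wm (w ^ i) *ᵥ v = v ∨ X.Wm (w ^ i) *ᵥ v = X.Wm w *ᵥ v ∨
    X.Wm (w ^ i) *ᵥ v = X.Wm w *ᵥ X.Wm w *ᵥ v := by
  rw [pow_eq_pow_mod i h3]
  rcases (by omega : i % 3 = 0 ∨ i % 3 = 1 ∨ i % 3 = 2) with e | e | e <;> rw [e]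
  · exact .inl (by rw [pow_zero, X.Wm_one, one_mulVec])
  · exact .inr (.inl (by rw [pow_one]))
  · exact .inr (.inr (by rw [sq, X.Wm_mul, mulVec_mulVec]))

/-- `φ ^ 2` fixes `μ` -/
theorem sq_fix (hN : LN X) (h3 : w ^ 3 = 1) (hf : ∀ v, X.Wm w *ᵥ v = v → InQ X v) (hc : φ * w = w * φ) (hm : 3 ∣ m - 1)
    (h0 : Nm X w μ = 0) (h1 : μ ∉ Q X) (h2 : ν ∈ Q X) (h4 : m • X.Wm φ *ᵥ μ = μ + (X.Wm w *ᵥ ν - ν)) {i : ℕ}
    (h5 : X.Wm (φ ^ 2) *ᵥ μ = X.Wm (w ^ i) *ᵥ μ) : X.Wm φ *ᵥ X.Wm φ *ᵥ μ = μ := by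
  have k0 : ∀ v, X.Wm φ *ᵥ X.Wm w *ᵥ v = X.Wm w *ᵥ X.Wm φ *ᵥ v := fun v => by
    rw [mulVec_mulVec, mulVec_mulVec, ← X.Wm_mul, ← X.Wm_mul, hc]
  obtain ⟨e, he⟩ : 3 ∣ m * m - 1 := (show (m - 1) * (m + 1) = m * m - 1 by ring) ▸ hm.mul_right (m + 1)
  have k1 := congrArg (m • X.Wm φ *ᵥ ·) h4
  rw [sq, X.Wm_mul, ← mulVec_mulVec] at h5
  simp only [mulVec_smul, smul_smul] at k1
  simp only [mulVec_add, mulVec_sub, smul_add, smul_sub, h4, k0] at k1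
  rw [eq_add_of_sub_eq he] at k1
  have k2 : ν + m • X.Wm φ *ᵥ ν ∈ Q X := add_mem h2 ((Q X).smul_mem m (Wm_mem φ h2))
  have k3 := sub_mem_Q (X := X) w
  have k4 : X.Wm w *ᵥ X.Wm w *ᵥ μ = -μ - X.Wm w *ᵥ μ := by
    rw [Nm] at h0
    linear_combination h0
  rcases act_of_fix h3 i μ with e1 | e1 | e1
  · exact h5.trans e1
  · refine (h1 ?_).elim
    have k5 : μ - e • (X.Wm w *ᵥ μ - μ) - (ν + m • X.Wm φ *ᵥ ν) ∈ Q X := hf _ (by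
      simp only [mulVec_sub, mulVec_add, mulVec_smul, k4]
      rw [h5, e1] at k1
      linear_combination (norm := module) k1)
    simpa only [sub_add_cancel] using add_mem (add_mem k5 k2) ((Q X).smul_mem e (k3 μ))
  · refine (h1 (of_cop hN (c := 2) (by decide) ?_)).elim
    have k5 : X.Wm w *ᵥ μ + μ - e • (X.Wm w *ᵥ X.Wm w *ᵥ μ - X.Wm w *ᵥ μ) - (ν + m • X.Wm φ *ᵥ ν) ∈ Q X := hf _ (by
      simp only [mulVec_sub, mulVec_add, mulVec_smul, k4, mulVec_neg]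
      rw [h5, e1, k4] at k1
      linear_combination (norm := module) k1)
    convert sub_mem (add_mem (add_mem k5 k2) ((Q X).smul_mem e (k3 (X.Wm w *ᵥ μ)))) (k3 μ) using 1
    module

variable {H D A : Subgroup Y} {y : Y} {ω : D →* X.W} (W : Wa X D A ω) (h : Set3 F G H D y) {d : D} {t : Y}
include W

theorem mu (d : D) (ht : X.τ (coch u ζ) ∈ A) : ∃ μ, X.Wm (ω d) *ᵥ u = u + (orderOf ζ : ℤ) • μ := by
  obtain ⟨-, -, m, hm, hc, -⟩ := W.rp d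
  choose μ hμ using comm_exp X hm (centralizer_le (Set.singleton_subset_iff.2 ht) hc)
  exact ⟨μ, funext fun j => eq_add_of_sub_eq' (hμ j)⟩

/-- toral pairs -/
theorem cen_iff (ht : t ∈ A) (d : D) : (d : Y) ∈ X.cen {t} ↔ ω d ∈ WZ X {t} := by
  obtain ⟨c, hc, m, hm, -, e⟩ := W.rp d
  rw [mem_WZ X hm, e]
  exact Subgroup.mul_mem_cancel_left _ (X.cen_anti (Set.singleton_subset_iff.2 ht) (X.S_le_cen _ hc))

include h

theorem wz (ht : X.τ (coch u ζ) ∈ A) (h1 : X.Wm (ω d) *ᵥ u = u + (orderOf ζ : ℤ) • μ) :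
    ω d ∈ WZ X {X.τ (coch u ζ)} ↔ μ ∈ Q X := wz_iff (h.fix (W.le ht)) h1

variable (hNA : BoxNA) (hp : 3 ≠ p) (hL : LC X) (hN : LN X)
include hNA hp hL

theorem exists_out (h3 : ω d ^ 3 = 1) (h1 : ω d ≠ 1) : ∃ t ∈ A, ω d ∉ WZ X {t} := by
  by_contra! e
  exact W.caseC h h3 hNA hp hL h1 fun u μ ζ ht k1 _ => ⟨1, by decide, (Q X).smul_mem 1 ((wz W h ht k1).1 (e _ ht))⟩

include hN

/-- **the image of `D` has exponent three** -/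
theorem cube (d : D) : ω d ^ 3 = 1 := by
  obtain ⟨j, hj⟩ := h.loc.pg d
  induction j generalizing d with
  | zero => rw [pow_zero, pow_one] at hj; rw [hj, map_one, one_pow]
  | succ j ih =>
    rw [← map_pow]
    by_contra e
    obtain ⟨t, ht, k1⟩ := exists_out W h hNA hp hL (ih (d ^ 3) (by rwa [← pow_mul, ← pow_succ'])) e
    obtain ⟨ζ, u, k2, -, rfl⟩ := exists_exp X (W.leT ht)
    obtain ⟨μ, k3⟩ := mu W d ht
    obtain ⟨β, k4⟩ := Tr.pow (μ := μ) ⟨0, by rw [cl_zero, add_zero, k3]⟩ 3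
    rw [← map_pow] at k4
    exact k1 ((wz W h ht k4).2 (add_mem (hN.three μ) ⟨β, rfl⟩))

variable (hM : X.Mx = m • X.Wm φ)
include hM

omit hNA hp hL hN in
theorem Mx_mu {n : ℤ} (hn : n ≠ 0) (h1 : X.Wm (ω d) *ᵥ u = u + n • μ) (h2 : X.Mx *ᵥ u = u + n • ν) :
    m • X.Wm φ *ᵥ μ = μ + (X.Wm (ω d) *ᵥ ν - ν) := by
  have h3 := congrArg (· *ᵥ u) (W.Mx_comm h d)
  simp only [← mulVec_mulVec, h1, h2, mulVec_add, mulVec_smul] at h3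
  rw [← smul_mulVec, ← hM]
  refine smul_right_injective _ hn ?_
  linear_combination (norm := module) h3

/-- **the type of `ω d`** -/
theorem two3 (h1 : ω d ≠ 1) : 3 ∣ m - 1 ∧ (∀ v, X.Wm (ω d) *ᵥ v = v → InQ X v) ∧ φ * ω d = ω d * φ ∧
    (∀ a ∈ X.Sz A, X.act φ⁻¹ a ∈ X.Sz A) ∧ {a | X.Rt a ∧ X.act (ω d) a = a}.ncard = 6 ∧ Two3 X (ω d) φ (X.Sz A) := by
  have h3 := cube W h hNA hp hL hN d
  obtain ⟨t, ht, k1⟩ := exists_out W h hNA hp hL h3 h1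
  obtain ⟨ζ, u, -, -, rfl⟩ := exists_exp X (W.leT ht)
  obtain ⟨μ, k3⟩ := mu W d ht
  obtain ⟨ν, k4⟩ := fix_iff.1 (h.fix (W.le ht))
  rw [wz W h ht k3] at k1
  have k5 : 3 ∣ m - 1 := by_contra fun e => k1 (of_cop hN e (by
    convert sub_mem (sub_mem_Q (ω d) ν) ((Q X).smul_mem m (sub_mem_Q φ μ)) using 1
    linear_combination (norm := module) Mx_mu W h hM (ord_ne X ζ) k3 k4))
  have k6 := hN.fix _ u μ _ (ord_ne X ζ) k3 k1
  have k7 : φ * ω d = ω d * φ := X.Wm_injective (smul_right_injective _ (show m ≠ 0 by omega) (by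
    have := W.Mx_comm h d
    rw [hM, Matrix.smul_mul, Matrix.mul_smul] at this
    simpa only [X.Wm_mul] using this))
  have k8 : ∀ a ∈ X.Sz A, X.act φ a ∈ X.Sz A := fun a ha => (g_eq hL.1 hM ha.1).elim (· ▸ W.gst h ha) fun e =>
    neg_neg (X.act φ a) ▸ e ▸ X.Sz_neg (W.gst h ha)
  obtain ⟨k9, k10⟩ := (hN.main _ _ (W.ad3 h3 h1) k6).resolve_left (W.kill1 h h3 hNA hp hL h1)
  refine ⟨k5, k6, k7, fun a ha => ?_, k9, (k10 φ k7 k8).resolve_left fun ⟨a, ha, i, e⟩ =>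
    W.kill2 h h3 hNA hp hL h1 ha ⟨i, ?_⟩⟩
  · obtain ⟨b, hb, rfl⟩ := (X.g_bijOn X.Sz_root fun _ => W.gst h).surjOn ha
    rcases g_eq hL.1 hM hb.1 with e | e
    · rwa [e, a_inv]
    · rw [e, a_neg, a_inv]
      exact X.Sz_neg hb
  · rcases g_eq hL.1 hM ha.1.1 with e' | e'
    · rwa [e']
    · rw [e']
      exact e.symm.imp neg_eq_iff_eq_neg.2 (congrArg _)

/-- **the Levi case** -/
theorem not_nine (hD : Dl X H) (h1 : ω d ≠ 1) (hA : (A : Set Y) ⊆ Z0 X A) : ¬ 9 ∣ m - 1 := by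
  rintro ⟨c, hc⟩
  have h3 := cube W h hNA hp hL hN d
  obtain ⟨k1, k2, k3, k4, -, k5⟩ := two3 W h hNA hp hL hN hM h1
  obtain ⟨t, ht, k6⟩ := exists_out W h hNA hp hL h3 h1
  obtain ⟨v₀, ξ, k7, e⟩ := exists_of_Z0 (hA ht)
  obtain ⟨u₀, β, ξ', -, k8, k9, e'⟩ := hD.ex t (W.leT ht) (h.loc.le (W.le ht))
  obtain ⟨ζ, i, j, rfl, rfl⟩ := com X ξ ξ'
  rw [← coch_zsmul] at e e'
  subst e
  obtain ⟨κ, hκ⟩ := τ_eq_iff.1 e'
  obtain ⟨b, hb⟩ : (orderOf ζ : ℤ) ∣ j * orderOf (ζ ^ j) := by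
    rw [orderOf_dvd_iff_zpow_eq_one, _root_.zpow_mul, zpow_natCast, pow_orderOf_eq_one]
  obtain ⟨μ, hμ⟩ := mu W d ht
  rw [wz W h ht hμ] at k6
  have hP : ∀ {w : X.W} {v}, (∀ a ∈ X.Sz A, X.act w⁻¹ a ∈ X.Sz A) → Pp X (X.Sz A) v → Pp X (X.Sz A) (X.Wm w *ᵥ v) :=
    fun e hv a ha => (dot_Wm _ a _).trans (hv _ (e a ha))
  have hW : ∀ a ∈ X.Sz A, X.act (ω d)⁻¹ a ∈ X.Sz A := fun a ha => map_inv ω d ▸ W.st d⁻¹ ha
  have l1 : Pp X (X.Sz A) (i • v₀) := fun a ha => by rw [dotProduct_smul, k7 a ha, smul_zero]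
  have l2 : Pp X (X.Sz A) μ := fun a ha => by
    have := hP hW l1 a ha
    rw [hμ, dotProduct_add, l1 a ha, zero_add, dotProduct_smul] at this
    exact (smul_eq_zero.1 this).resolve_left (ord_ne X ζ)
  have l3 := nm_zero h3 (ord_ne X ζ) hμ
  have l4 : X.Mx *ᵥ (i • v₀) = i • v₀ + (orderOf ζ : ℤ) • (b • β + (X.Mx *ᵥ κ - κ)) := by
    rw [hκ, mulVec_add, mulVec_smul, mulVec_smul, k9, smul_add, smul_smul, hb]
    module
  have l5 : b • β + (X.Mx *ᵥ κ - κ) ∈ Q X := add_mem ((Q X).smul_mem b k8) (by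
    convert add_mem ((Q X).smul_mem m (sub_mem_Q φ κ)) (three_mem hN k1 κ) using 1
    rw [hM, smul_mulVec]
    module)
  obtain ⟨n, hn⟩ := k5.sq μ l2 l3
  have l6 := sq_fix hN h3 k2 k3 k1 l3 k6 l5 (Mx_mu W h hM (ord_ne X ζ) hμ l4) hn
  have k0 : ∀ v, X.Wm φ *ᵥ X.Wm (ω d) *ᵥ v = X.Wm (ω d) *ᵥ X.Wm φ *ᵥ v := fun v => by
    rw [mulVec_mulVec, mulVec_mulVec, ← X.Wm_mul, ← X.Wm_mul, k3]
  obtain ⟨z, hz⟩ : ∃ z, z = μ + X.Wm φ *ᵥ μ := ⟨_, rfl⟩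
  have z1 : X.Wm φ *ᵥ z = z := by rw [hz, mulVec_add, l6, add_comm]
  have z2 : Pp X (X.Sz A) z := fun a ha => by rw [hz, dotProduct_add, l2 a ha, hP k4 l2 a ha, add_zero]
  have z3 : X.Wm (ω d) *ᵥ X.Wm (ω d) *ᵥ z = -z - X.Wm (ω d) *ᵥ z := by
    have := congrArg (X.Wm φ *ᵥ ·) l3
    simp only [Nm, mulVec_add, k0, mulVec_zero] at this l3
    simp only [hz, mulVec_add]
    linear_combination this + l3
  obtain ⟨η, hη⟩ := exists_prim p k (n := 3 ^ 2) fun e =>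
    hp ((Nat.prime_dvd_prime_iff_eq Fact.out Nat.prime_three).1 ((Fact.out : p.Prime).dvd_of_dvd_pow e)).symm
  have z4 := sub_mem_Q (ω d) z
  have z5 : X.τ (coch (X.Wm (ω d) *ᵥ z - z) η) ∈ A := W.mx h (j := 2) ⟨X.τ_mem _, fun a ha => (χ_exp X a _ η).2 (by
      rw [dotProduct_sub, hP hW z2 a ha, z2 a ha, sub_zero]
      exact dvd_zero _)⟩
    (hD.mem _ _ η z4 ((Q X).smul_mem c z4) (by
      rw [hM, smul_mulVec, mulVec_sub, k0, z1, hη, eq_add_of_sub_eq hc]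
      push_cast
      module)) (by rw [← map_pow, ← map_pow, ← hη, pow_orderOf_eq_one, map_one, map_one])
  obtain ⟨x, hx⟩ := mu W d z5
  rw [mulVec_sub, z3, hη] at hx
  have z6 : X.Wm (ω d) *ᵥ z = (-3 : ℤ) • x := smul_right_injective _ (show (3 : ℤ) ≠ 0 by decide) (by
    push_cast at hx
    linear_combination (norm := module) -hx)
  refine k6 (of_cop hN (c := 2) (by decide) ?_)
  convert sub_mem (sub_mem (z6 ▸ three_mem hN (by decide) x : X.Wm (ω d) *ᵥ z ∈ Q X) z4) (sub_mem_Q φ μ) using 1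
  rw [hz]
  module

end Cfsg.Agent.KM.Tor.E6
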