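import Cfsg.Agent.KM.Tor.K0

/-!
# KM, odd bad primes: tables for `E₇` (helper5)
-/

set_option autoImplicit false
set_option linter.unusedSectionVars false
set_option maxRecDepth 100000
set_option synthInstance.maxSize 4000

namespace Cfsg.Agent.KM.Tor

open Cfsg Cfsg.Lie Cfsg.Agent.DL Cfsg.Agent.Nodes.Reps Matrix Finset Cfsg.Agent.KZ.DatX Cfsg.Agent.Nodes.RGDChev
  Cfsg.Agent.ChevalleyStructure.NPerm Cfsg.Agent.ChevalleyStructure.CoxeterGeom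
  Cfsg.Agent.ChevalleyStructure.CoxeterGeomTypes Cfsg.Agent.Tits.Roots
open Cfsg.Agent.H931.KC (hr Kac)
open Cfsg.Agent.KM.Ex (sr_dot)

namespace K7

theorem hr7 : hr chevE7 7 = ![2, 2, 3, 4, 3, 2, 1] := by decide +kernel

theorem tab : ∀ s : Finset (Fin 7), s.Nonempty → (∀ i ∈ s, ((3 : ℕ) : ℤ) ∣ hr chevE7 7 i) →
    (∀ i ∈ s, hr chevE7 7 i = 3 ∧ (i = 2 ∨ i = 4)) ∧
      ((#{t : Fin chevE7.nroots | LS chevE7 7 s (vec chevE7 7 t)} = 72 ∧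
        #{t : Fin chevE7.nroots | RS chevE7 7 s (vec chevE7 7 t)} = 18) ∨ (∃ i, s = {i}) ∧
      #{t : Fin chevE7.nroots | LS chevE7 7 s (vec chevE7 7 t)} = 126 ∧
        #{t : Fin chevE7.nroots | RS chevE7 7 s (vec chevE7 7 t)} = 36) := by decide +kernel

/-- the types of the elements of order three -/
def Ty (c : Fin 7 → ℤ) : Prop := (∀ i, 3 ∣ c i) ∨ ((∀ s : Fin chevE7.nroots, 3 ∣ vec chevE7 7 s ⬝ᵥ c ↔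
    vec chevE7 7 s ⬝ᵥ (if hr chevE7 7 ⬝ᵥ c = 3 then c - (3 : ℤ) • sr 6 else c) = 0) ∧
      #{s : Fin chevE7.nroots | 3 ∣ vec chevE7 7 s ⬝ᵥ c} < 72) ∨ c = sr 2 ∨ c = sr 4 ∨
    ((c = sr 6 ∨ c = (-1 : ℤ) • sr 6 + (3 : ℤ) • sr 6) ∧ #{s : Fin chevE7.nroots | 3 ∣ vec chevE7 7 s ⬝ᵥ c} = 72)

theorem ty0 : ∀ a < 2, ∀ b < 2, ∀ c < 2, ∀ e < 2, ∀ f < 2, ∀ g < 4, 2 * a + 2 * b + 3 * c + 3 * e + 2 * f + g ≤ 3 →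
    Ty ![(a : ℕ), (b : ℕ), (c : ℕ), 0, (e : ℕ), (f : ℕ), (g : ℕ)] := by
  unfold Ty
  decide +kernel

theorem ty {c : Fin 7 → ℕ} {c0 : ℕ} (K : Kac chevE7 7 3 c c0) : Ty fun i => c i := by
  have h := K.sum
  rw [hr7] at h
  simp [Fin.sum_univ_seven] at h
  convert ty0 (c 0) (by omega) (c 1) (by omega) (c 2) (by omega) (c 4) (by omega) (c 5) (by omega) (c 6) (by omega)
    (by omega) using 1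
  funext i
  fin_cases i <;> simp
  omega

/-- the roots -/
def L7 : List (ℤ × ℤ × ℤ × ℤ × ℤ × ℤ × ℤ) :=
  [(-2, -2, -3, -4, -3, -2, -1), (-1, -2, -3, -4, -3, -2, -1), (-1, -2, -2, -4, -3, -2, -1),
   (-1, -2, -2, -3, -3, -2, -1), (-1, -2, -2, -3, -2, -2, -1), (-1, -2, -2, -3, -2, -1, -1),
   (-1, -2, -2, -3, -2, -1, 0), (-1, -1, -2, -3, -3, -2, -1), (-1, -1, -2, -3, -2, -2, -1),
   (-1, -1, -2, -3, -2, -1, -1), (-1, -1, -2, -3, -2, -1, 0), (-1, -1, -2, -2, -2, -2, -1),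
   (-1, -1, -2, -2, -2, -1, -1), (-1, -1, -2, -2, -2, -1, 0), (-1, -1, -2, -2, -1, -1, -1), (-1, -1, -2, -2, -1, -1, 0),
   (-1, -1, -2, -2, -1, 0, 0), (-1, -1, -1, -2, -2, -2, -1), (-1, -1, -1, -2, -2, -1, -1), (-1, -1, -1, -2, -2, -1, 0),
   (-1, -1, -1, -2, -1, -1, -1), (-1, -1, -1, -2, -1, -1, 0), (-1, -1, -1, -2, -1, 0, 0), (-1, -1, -1, -1, -1, -1, -1),
   (-1, -1, -1, -1, -1, -1, 0), (-1, -1, -1, -1, -1, 0, 0), (-1, -1, -1, -1, 0, 0, 0), (-1, 0, -1, -1, -1, -1, -1),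
   (-1, 0, -1, -1, -1, -1, 0), (-1, 0, -1, -1, -1, 0, 0), (-1, 0, -1, -1, 0, 0, 0), (-1, 0, -1, 0, 0, 0, 0),
   (-1, 0, 0, 0, 0, 0, 0), (0, -1, -1, -2, -2, -2, -1), (0, -1, -1, -2, -2, -1, -1), (0, -1, -1, -2, -2, -1, 0),
   (0, -1, -1, -2, -1, -1, -1), (0, -1, -1, -2, -1, -1, 0), (0, -1, -1, -2, -1, 0, 0), (0, -1, -1, -1, -1, -1, -1),
   (0, -1, -1, -1, -1, -1, 0), (0, -1, -1, -1, -1, 0, 0), (0, -1, -1, -1, 0, 0, 0), (0, -1, 0, -1, -1, -1, -1),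
   (0, -1, 0, -1, -1, -1, 0), (0, -1, 0, -1, -1, 0, 0), (0, -1, 0, -1, 0, 0, 0), (0, -1, 0, 0, 0, 0, 0),
   (0, 0, -1, -1, -1, -1, -1), (0, 0, -1, -1, -1, -1, 0), (0, 0, -1, -1, -1, 0, 0), (0, 0, -1, -1, 0, 0, 0),
   (0, 0, -1, 0, 0, 0, 0), (0, 0, 0, -1, -1, -1, -1), (0, 0, 0, -1, -1, -1, 0), (0, 0, 0, -1, -1, 0, 0),
   (0, 0, 0, -1, 0, 0, 0), (0, 0, 0, 0, -1, -1, -1), (0, 0, 0, 0, -1, -1, 0), (0, 0, 0, 0, -1, 0, 0),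
   (0, 0, 0, 0, 0, -1, -1), (0, 0, 0, 0, 0, -1, 0), (0, 0, 0, 0, 0, 0, -1), (0, 0, 0, 0, 0, 0, 1),
   (0, 0, 0, 0, 0, 1, 0), (0, 0, 0, 0, 0, 1, 1), (0, 0, 0, 0, 1, 0, 0), (0, 0, 0, 0, 1, 1, 0), (0, 0, 0, 0, 1, 1, 1),
   (0, 0, 0, 1, 0, 0, 0), (0, 0, 0, 1, 1, 0, 0), (0, 0, 0, 1, 1, 1, 0), (0, 0, 0, 1, 1, 1, 1), (0, 0, 1, 0, 0, 0, 0),
   (0, 0, 1, 1, 0, 0, 0), (0, 0, 1, 1, 1, 0, 0), (0, 0, 1, 1, 1, 1, 0), (0, 0, 1, 1, 1, 1, 1), (0, 1, 0, 0, 0, 0, 0),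
   (0, 1, 0, 1, 0, 0, 0), (0, 1, 0, 1, 1, 0, 0), (0, 1, 0, 1, 1, 1, 0), (0, 1, 0, 1, 1, 1, 1), (0, 1, 1, 1, 0, 0, 0),
   (0, 1, 1, 1, 1, 0, 0), (0, 1, 1, 1, 1, 1, 0), (0, 1, 1, 1, 1, 1, 1), (0, 1, 1, 2, 1, 0, 0), (0, 1, 1, 2, 1, 1, 0),
   (0, 1, 1, 2, 1, 1, 1), (0, 1, 1, 2, 2, 1, 0), (0, 1, 1, 2, 2, 1, 1), (0, 1, 1, 2, 2, 2, 1), (1, 0, 0, 0, 0, 0, 0),
   (1, 0, 1, 0, 0, 0, 0), (1, 0, 1, 1, 0, 0, 0), (1, 0, 1, 1, 1, 0, 0), (1, 0, 1, 1, 1, 1, 0), (1, 0, 1, 1, 1, 1, 1),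
   (1, 1, 1, 1, 0, 0, 0), (1, 1, 1, 1, 1, 0, 0), (1, 1, 1, 1, 1, 1, 0), (1, 1, 1, 1, 1, 1, 1), (1, 1, 1, 2, 1, 0, 0),
   (1, 1, 1, 2, 1, 1, 0), (1, 1, 1, 2, 1, 1, 1), (1, 1, 1, 2, 2, 1, 0), (1, 1, 1, 2, 2, 1, 1), (1, 1, 1, 2, 2, 2, 1),
   (1, 1, 2, 2, 1, 0, 0), (1, 1, 2, 2, 1, 1, 0), (1, 1, 2, 2, 1, 1, 1), (1, 1, 2, 2, 2, 1, 0), (1, 1, 2, 2, 2, 1, 1),
   (1, 1, 2, 2, 2, 2, 1), (1, 1, 2, 3, 2, 1, 0), (1, 1, 2, 3, 2, 1, 1), (1, 1, 2, 3, 2, 2, 1), (1, 1, 2, 3, 3, 2, 1),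
   (1, 2, 2, 3, 2, 1, 0), (1, 2, 2, 3, 2, 1, 1), (1, 2, 2, 3, 2, 2, 1), (1, 2, 2, 3, 3, 2, 1), (1, 2, 2, 4, 3, 2, 1),
   (1, 2, 3, 4, 3, 2, 1), (2, 2, 3, 4, 3, 2, 1)]

theorem L7_eq : L7 = (List.finRange chevE7.nroots).map fun s : Fin chevE7.nroots => (vec chevE7 7 s 0, vec chevE7 7 s 1,
    vec chevE7 7 s 2, vec chevE7 7 s 3, vec chevE7 7 s 4, vec chevE7 7 s 5, vec chevE7 7 s 6) := by decide +kernel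

/-- the number of roots -/
def cn (a b c d e f g : ℤ) : ℕ := L7.countP fun x => decide (3 ∣ x.1 * a + x.2.1 * b + x.2.2.1 * c + x.2.2.2.1 * d +
  x.2.2.2.2.1 * e + x.2.2.2.2.2.1 * f + x.2.2.2.2.2.2 * g)

theorem card_eq (z : Fin 7 → ℤ) :
    #{s : Fin chevE7.nroots | 3 ∣ vec chevE7 7 s ⬝ᵥ z} = cn (z 0) (z 1) (z 2) (z 3) (z 4) (z 5) (z 6) := by
  rw [cn, L7_eq, List.countP_map, List.countP_eq_length_filter]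
  simp only [dotProduct, Fin.sum_univ_seven]
  rfl

theorem chk : ∀ a < 3, ∀ b < 3, ∀ c < 3, ∀ d < 3, ∀ e < 3, ∀ f < 3, ∃ g < 3,
    cn (a : ℕ) (b : ℕ) (c : ℕ) (d : ℕ) (e : ℕ) (f : ℕ) (g : ℕ) ≠ 72 := by decide +kernel

theorem sl : SL chevE7 7 := by decide +kernel

theorem rkT : ∀ i, hr chevE7 7 i = 3 → (∀ j, RS chevE7 7 {i} (if j = i then hr chevE7 7 else sr j)) ∧
    ∀ j m, (if j = i then hr chevE7 7 else sr j) ⬝ᵥ (if m = i then sr i else (3 : ℤ) • sr m - hr chevE7 7 m • sr i) =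
      if j = m then 3 else 0 := by decide +kernel

/-- the certificate of `spl_RP` -/
def Ce (c a b v₁ v₂ : Fin 7 → ℤ) (σ : Fin 3 → Fin chevE7.nroots) : Prop :=
  (vec chevE7 7 (σ 0) = a ∧ vec chevE7 7 (σ 1) = b ∧ vec chevE7 7 (σ 2) = a + b ∧ a ⬝ᵥ co chevE7 7 b = -1 ∧
    b ⬝ᵥ co chevE7 7 a = -1) ∧
  (∀ s : Fin chevE7.nroots, (A2P a b (vec chevE7 7 s) → 3 ∣ vec chevE7 7 s ⬝ᵥ c) ∧
    (A2P a b (vec chevE7 7 s) ↔ vec chevE7 7 s ⬝ᵥ v₁ = 0) ∧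
      (3 ∣ vec chevE7 7 s ⬝ᵥ c ∧ ¬ A2P a b (vec chevE7 7 s) ↔ vec chevE7 7 s ⬝ᵥ v₂ = 0)) ∧
  (∀ s : Fin chevE7.nroots, A2P a b (vec chevE7 7 s) → ∀ t : Fin chevE7.nroots,
    3 ∣ vec chevE7 7 t ⬝ᵥ c ∧ ¬ A2P a b (vec chevE7 7 t) → vec chevE7 7 t ⬝ᵥ co chevE7 7 (vec chevE7 7 s) = 0) ∧
  (∀ s : Fin chevE7.nroots, 3 ∣ vec chevE7 7 s ⬝ᵥ c → (30 ≤ #{t : Fin chevE7.nroots | 3 ∣ vec chevE7 7 t ⬝ᵥ c ∧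
    vec chevE7 7 t ⬝ᵥ co chevE7 7 (vec chevE7 7 s) = 0} ↔ A2P a b (vec chevE7 7 s))) ∧
  #{s : Fin chevE7.nroots | 3 ∣ vec chevE7 7 s ⬝ᵥ c} < 72

theorem ce2 : Ce (sr 2) (sr 0) (-hr chevE7 7) ![0, -3, -3, -1, 3, 3, 4] ![1, 0, 1, 0, 0, 0, 0]
    ![⟨93, by decide⟩, ⟨0, by decide⟩, ⟨1, by decide⟩] := by
  unfold Ce
  decide +kernel

theorem ce4 : Ce (sr 4) (sr 5) (sr 6) ![1, 1, 1, 1, 1, 0, 0] ![0, 0, 0, 0, -2, 1, 4]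
    ![⟨64, by decide⟩, ⟨63, by decide⟩, ⟨65, by decide⟩] := by
  unfold Ce
  decide +kernel

end K7

end Cfsg.Agent.KM.Tor
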