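import Cfsg.Agent.KM.Tor.Gen
import Cfsg.Agent.KM.Ex.Row
import Cfsg.Agent.KM.Sc.Isog

/-!
# KM, odd bad primes: definitions and boxes (helper13)

Lattice predicates (`Rn`, `Lvs`, `Cl`, `Gds`, `ZCs`, `Ones`, `Spl`, `Kt`) do not depend on the frame.
-/

set_option autoImplicit false
set_option linter.unusedSectionVars false

namespace Cfsg.Agent.KM.Tor

open Cfsg Cfsg.Lie Cfsg.Agent.DL Cfsg.Agent.Nodes.Reps Cfsg.Agent.Nodes.BNOf Matrix Subgroup Cfsg.Agent.KM.Ht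
open Cfsg.Agent.KZ.DatX Cfsg.Agent.Nodes.RGDChev
open Cfsg.Agent.TO.X.Cn (Pi1 cl)

section Grp

variable {Y : Type} [Group Y]

/-- `W / V` has order at most three -/
def St (V W : Set Y) : Prop := ∀ d ∈ W, ∀ e ∈ W, d ∉ V → e ∈ V ∨ e * d ∈ V ∨ e * d⁻¹ ∈ V

/-- an invariant flag of length three in `Ω₁(D)` -/
def Flag (G D : Subgroup Y) : Prop := ∃ V₁ V₂ : Subgroup Y, V₁ ≤ V₂ ∧ V₂ ≤ D ∧ (∀ v ∈ V₂, v ^ 3 = 1) ∧
  (∀ g ∈ G, g ∈ normalizer (D : Set Y) → (∀ v ∈ V₁, g * v * g⁻¹ ∈ V₁) ∧ ∀ v ∈ V₂, g * v * g⁻¹ ∈ V₂) ∧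
  St ((⊥ : Subgroup Y) : Set Y) V₁ ∧ St (V₁ : Set Y) V₂ ∧ St (V₂ : Set Y) {d | d ∈ D ∧ d ^ 3 = 1}

/-- `D` is elementary of order `27` with an invariant line -/
def Line (G D : Subgroup Y) : Prop := Nat.card D = 27 ∧ (∀ d ∈ D, d ^ 3 = 1) ∧ ∃ r ∈ D, r ≠ 1 ∧
  ∀ g ∈ G, g ∈ normalizer (D : Set Y) → g * r * g⁻¹ ∈ zpowers r

/-- `D` is a maximal `l`-subgroup of the centralizer of `y` in `H` -/
structure Loc (l : ℕ) (H D : Subgroup Y) (y : Y) : Prop where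
  le : D ≤ H
  pg : IsPGroup l D
  mem : y ∈ H
  reg : ¬ l ∣ orderOf y
  comm : ∀ d ∈ D, d * y = y * d
  syl : ∀ P : Subgroup Y, P ≤ H → IsPGroup l P → D ≤ P → (∀ x ∈ P, x * y = y * x) → P ≤ D

/-- abelian -/
def Ab (D : Subgroup Y) : Prop := ∀ a ∈ D, ∀ b ∈ D, a * b = b * a

end Grp

variable {p : ℕ} [Fact p.Prime] {k : Type} [Field k] [CharP k p] {Y : Type} [Group Y] {N : Type} [Fintype N]
  [DecidableEq N] {ρ : Y →* GL N k} {F : MulAut Y} {G : Subgroup Y} [IsAlgClosed k] (X : Datum p ρ F G)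

/-! ### lattices -/

/-- the roots of the element with the exponent `u` modulo `n` -/
def Rn (n : ℤ) (u : X.R → ℤ) : Set (X.I → ℤ) := {a | X.Rt a ∧ n ∣ X.wt a ⬝ᵥ u}

/-- `v` is orthogonal to `Ψ` -/
def Pp (Ψ : Set (X.I → ℤ)) (v : X.R → ℤ) : Prop := ∀ b ∈ Ψ, X.wt b ⬝ᵥ v = 0

/-- Levi subsystems; `QC X Z` is `Lvs X (X.Sz Z)` -/
def Lvs (Ψ : Set (X.I → ℤ)) : Prop := ∃ v : X.R → ℤ, ∀ a, X.Rt a → (a ∈ Ψ ↔ X.wt a ⬝ᵥ v = 0)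

/-- the Levi closure -/
def Cl (Ψ : Set (X.I → ℤ)) : Set (X.I → ℤ) := {a | X.Rt a ∧ ∀ v, Pp X Ψ v → X.wt a ⬝ᵥ v = 0}

/-- all `l`-elements below `Ψ` are of Levi type -/
def Gds (l : ℕ) (Ψ : Set (X.I → ℤ)) : Prop := ∀ (j : ℕ) u, Rn X ((l : ℤ) ^ j) u ⊆ Ψ → Lvs X (Rn X ((l : ℤ) ^ j) u)

/-- the centres of the Levi subgroups are connected at `l` -/
def ZCs (l : ℕ) : Prop := ∀ (j : ℕ) u, Lvs X (Rn X ((l : ℤ) ^ j) u) → Lv X ((l : ℤ) ^ j) u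

/-- the `l`-part of the element kills the Levi closure of its roots -/
def Lq (l : ℕ) (m : ℤ) (u : X.R → ℤ) : Prop := ∃ c : ℤ, ¬ (l : ℤ) ∣ c ∧ ∀ a ∈ Cl X (Rn X m u), m ∣ c * (X.wt a ⬝ᵥ u)

/-- one isolated type below `Ψ` -/
structure Ones (l n : ℕ) (Ψ : Set (X.I → ℤ)) : Prop where
  pos : 0 < n
  card : Ψ.ncard = (l + 1) * n
  dich : ∀ m : ℤ, 0 < m → ∀ u, Rn X m u ⊆ Ψ → Lq X l m u ∨
    ((Rn X m u).ncard = n ∧ (∀ a ∈ Ψ, m ∣ l * (X.wt a ⬝ᵥ u)) ∧ Ψ ⊆ Cl X (Rn X m u))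

/-- the six roots of `A₂` -/
def A2 (a b : X.I → ℤ) : Set (X.I → ℤ) := {a, b, a + b, -a, -b, -(a + b)}

/-- `Ψ` has a canonical component of type `A₂` -/
structure Spl (Ψ : Set (X.I → ℤ)) (a b : X.I → ℤ) : Prop where
  sub : A2 X a b ⊆ Ψ
  ab : X.wt a ⬝ᵥ X.cor b = -1
  ba : X.wt b ⬝ᵥ X.cor a = -1
  lv1 : Lvs X (A2 X a b)
  lv2 : Lvs X (Ψ \ A2 X a b)
  gd1 : Gds X 3 (A2 X a b)
  orth : ∀ c ∈ A2 X a b, ∀ d ∈ Ψ \ A2 X a b, ∀ e, ¬ Btwn X.cs X.h c d e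
  can : ∀ w, (∀ c ∈ Ψ, X.act w c ∈ Ψ) → ∀ c ∈ A2 X a b, X.act w c ∈ A2 X a b

/-- the reflections of `Ψ` are transitive on `Ψ`, and the coroot elements are neither central nor isolated -/
structure Trs (n : ℕ) (Ψ : Set (X.I → ℤ)) : Prop where
  tr : ∀ a ∈ Ψ, ∀ b ∈ Ψ, ∃ v ∈ closure (X.rf '' Ψ), X.act v b = a
  ne : ∀ a ∈ Ψ, (Rn X 3 (X.cor a) ∩ Ψ).ncard ≠ n

/-- the orthogonal complement has rank at most two; in rank two there is a distinguished line modulo three -/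
def Cork (Ψ : Set (X.I → ℤ)) : Prop := (∃ v₀, ∀ v, Pp X Ψ v → ∃ c : ℤ, v = c • v₀) ∨
  ∃ v₁ v₂, ∃ m : ℕ, Pp X Ψ v₁ ∧ Pp X Ψ v₂ ∧ (∀ v, Pp X Ψ v → ∃ c₁ c₂ : ℤ, v = c₁ • v₁ + c₂ • v₂) ∧
    ∀ i j : ℤ, (Rn X 3 (i • v₁ + j • v₂)).ncard = m ↔ ¬ 3 ∣ j

/-- `Ψ` has rank at least seven -/
def Rk7 (Ψ : Set (X.I → ℤ)) : Prop := ∃ (α : Fin 7 → X.I → ℤ) (δ : Fin 7 → X.R → ℤ) (c : ℤ), c ≠ 0 ∧ (∀ i, α i ∈ Ψ) ∧
  ∀ i j, X.wt (α i) ⬝ᵥ δ j = if i = j then c else 0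

/-- the `3`-elements which are not of Levi type (`E₇`, `E₈`) -/
def Kt : Prop := ∀ (j : ℕ) u, ¬ Lvs X (Rn X (3 ^ j) u) →
  (∀ a ∈ Cl X (Rn X (3 ^ j) u), 3 ^ j ∣ 3 * (X.wt a ⬝ᵥ u)) ∧ Cork X (Rn X (3 ^ j) u) ∧
  (((Cl X (Rn X (3 ^ j) u)).ncard = 72 ∧ (Rn X (3 ^ j) u).ncard = 18) ∨ (Rk7 X (Rn X (3 ^ j) u) ∧
    (((Cl X (Rn X (3 ^ j) u)).ncard = 74 ∧ (Rn X (3 ^ j) u).ncard = 20) ∨
    ((Cl X (Rn X (3 ^ j) u)).ncard = 126 ∧ (Rn X (3 ^ j) u).ncard = 36) ∨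
    ((Cl X (Rn X (3 ^ j) u)).ncard = 240 ∧ (Rn X (3 ^ j) u).ncard ≤ 78 ∧ ∀ v, Pp X (Rn X (3 ^ j) u) v → v = 0))))

/-- every plane contains an element of good Levi type or with a component `A₂` whose complement is good or `E₆` -/
def Pln : Prop := ∀ u v : X.R → ℤ, (∀ i j : ℤ, (∀ r, 3 ∣ (i • u + j • v) r) → 3 ∣ i ∧ 3 ∣ j) →
  ∃ i j : ℤ, (Lvs X (Rn X 3 (i • u + j • v)) ∧ Gds X 3 (Rn X 3 (i • u + j • v))) ∨
    ∃ a b, Spl X (Rn X 3 (i • u + j • v)) a b ∧ (Gds X 3 (Rn X 3 (i • u + j • v) \ A2 X a b) ∨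
      (Ones X 3 18 (Rn X 3 (i • u + j • v) \ A2 X a b) ∧ Trs X 18 (Rn X 3 (i • u + j • v) \ A2 X a b)))

/-! ### groups -/

/-- `F` acts on the roots as an element of the Weyl group -/
def HW : Prop := ∃ w, ∀ a, X.Rt a → X.g a = X.act w a

/-- the elements of the torus killed by `Ψ` -/
def Zc (Ψ : Set (X.I → ℤ)) : Subgroup Y where
  carrier := {t | t ∈ X.T ∧ ∀ a ∈ Ψ, X.χ a t = 1}
  one_mem' := ⟨one_mem _, fun a _ => X.χ_one a⟩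
  mul_mem' := fun {_ _} h h' => ⟨mul_mem h.1 h'.1, fun a ha => by rw [X.χ_mul a h.1 h'.1, h.2 a ha, h'.2 a ha, mul_one]⟩
  inv_mem' := fun {_} h => ⟨inv_mem h.1, fun a ha => by rw [X.χ_inv a h.1, h.2 a ha, inv_one]⟩

/-- all elements of `D` are central or isolated in the Levi subgroup `cen {s}` -/
def Pure (n : ℕ) (s : Y) (D : Subgroup Y) : Prop := ∀ d ∈ D, ∀ g ∈ X.cen {s}, g⁻¹ * d * g ∈ X.T →
  g⁻¹ * d * g ∈ Zc X (X.Sz {s}) ∨ (X.Sz {g⁻¹ * d * g} ∩ X.Sz {s}).ncard = n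

/-- toral, and the centre of the simply connected cover lies in the preimage of `Z0` -/
def Toral3 (D : Subgroup Y) : Prop := ∃ (y : Y) (hy : y ∈ G) (hN : y⁻¹ * F y ∈ X.NN), D ≤ Z0 (X.conj hy hN) D ∧
  ∃ v, Pp X ((X.conj hy hN).Sz D) v ∧ ∀ β, v ≠ cl X β

/-! ### boxes -/

/-- a statement about all data -/
def AllD (P : ∀ {p : ℕ} [Fact p.Prime] {k : Type} [Field k] [CharP k p] {Y : Type} [Group Y] {N : Type} [Fintype N]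
    [DecidableEq N] {ρ : Y →* GL N k} {F : MulAut Y} {G : Subgroup Y} [IsAlgClosed k] (_ : Datum p ρ F G), Prop) : Prop :=
  ∀ {p : ℕ} [Fact p.Prime] {k : Type} [Field k] [CharP k p] {Y : Type} [Group Y] {N : Type} [Fintype N]
    [DecidableEq N] {ρ : Y →* GL N k} {F : MulAut Y} {G : Subgroup Y} [IsAlgClosed k] (X : Datum p ρ F G), P X

/-- [ONE-N] toral, or `y` is central and `D` is pure -/
def BoxOneN : Prop := AllD fun {p} _ _ _ _ {Y} _ _ _ _ _ _ _ _ X => ∀ (l n : ℕ) (s y : Y) (D : Subgroup Y), Pi1 X 1 →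
  l.Prime → l ≠ p → s ∈ X.T → El l {s} → QC X {s} → Ones X l n (X.Sz {s}) → Finite D → D ≤ X.cen {s} → Ab D → El l (D : Set Y) →
  y ∈ X.cen {s} → ¬ l ∣ orderOf y → (∀ d ∈ D, d * y = y * d) →
  (∃ g ∈ X.cen {s}, ∀ d ∈ D, g⁻¹ * d * g ∈ X.T) ∨ (y ∈ Zc X (X.Sz {s}) ∧ Pure X n s D)

/-- [ONE-T] toral groups -/
def BoxOneT : Prop := AllD fun {p} _ _ _ _ {Y} _ _ _ _ _ _ _ _ X => ∀ (l n : ℕ) (D : Subgroup Y), l.Prime → l ≠ p →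
  Ones X l n {a | X.Rt a} → Finite D → D ≤ X.T → El l (D : Set Y) → QC X D ∨
    ((Zc X {a | X.Rt a}).relIndex D ∣ l ^ 2 ∧ ∀ d ∈ D, d ∈ Zc X {a | X.Rt a} ∨ (X.Sz {d}).ncard = n)

/-- [TORAL] toral `3`-groups in `E₇`, `E₈` -/
def BoxT : Prop := AllD fun {p} _ _ _ _ {Y} _ _ _ _ _ _ {G} _ X => ∀ D : Subgroup Y, 3 ≠ p → ZCs X 3 → Kt X → Finite D →
  D ≤ X.T → El 3 (D : Set Y) → D ≤ Z0 X D ∨ Nat.card D ≤ 9 ∨ Flag G D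

/-- [CORK] -/
def BoxCork : Prop := AllD fun {p} _ _ _ _ {Y} _ _ _ _ _ _ {G} _ X => ∀ D : Subgroup Y, 3 ≠ p → D ≤ X.T →
  Cork X (X.Sz D) → St (Z0 X D : Set Y) {d | d ∈ D ∧ d ^ 3 = 1} → Flag G D

/-- [FLAG] pure block theory -/
def BoxFlag : Prop := ∀ (K Y : Type) [Group K] [Finite K] [Group Y] (G : Subgroup Y) (j : K →* Y) (M : Ideal AlgInt)
  (B : Set (IrrCharacter K)) (D : Subgroup K), IsPModular 3 M → IsPBlock M B → IsDefectGroup 3 M B D →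
  IsMulCommutative D → (∀ x, j x ∈ G) → (∀ d ∈ D, j d = 1 → d = 1) → Flag G (D.map j) ∨ Line G (D.map j) → BK.HZ 3 B

/-- [LOC] the local data; `H` is finite, `j K` contains the `l`-elements of `H`, the kernel is central of order prime
to `l` -/
def BoxLoc : Prop := ∀ (l : ℕ) [Fact l.Prime] (K Y : Type) [Group K] [Finite K] [Group Y] (H : Subgroup Y) (j : K →* Y)
  (M : Ideal AlgInt) (B : Set (IrrCharacter K)) (D : Subgroup K), IsPModular l M → IsPBlock M B → IsDefectGroup l M B D →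
  (∀ x, j x ∈ H) → j.ker ≤ center K → ¬ l ∣ Nat.card j.ker → (∀ h ∈ H, (∃ i : ℕ, h ^ l ^ i = 1) → h ∈ j.range) →
  ∃ y, Loc l H (D.map j) y

/-- a statement about the frames of a type -/
def AllX {C : ChevalleyDatum} {n : ℕ} {M : CoxeterMatrix (Fin n)} (hp : IsType C n M)
    (P : ∀ {p : ℕ} [Fact p.Prime] {k : Type} [Field k] [CharP k p] {Y : Type} [Group Y] {N : Type} [Fintype N]
    [DecidableEq N] {ρ : Y →* GL N k} {F : MulAut Y} {G : Subgroup Y} [IsAlgClosed k] (_ : Datum p ρ F G), Prop) : Prop :=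
  ∀ (r : ℕ) [Fact r.Prime] (k : Type) [Field k] [CharP k r] [IsAlgClosed k] (Mx : Matrix (Fin n) (Fin n) ℤ)
    (X : XF hp r k Mx), P X.D

/-- [K8] -/
def BoxK8 : Prop := AllX hpE8 fun X => ZCs X 3 ∧ Kt X ∧ Pln X

/-- [K7] -/
def BoxK7 : Prop := AllX hpE7 fun X => ZCs X 3 ∧ Kt X ∧ Pln X

/-- [K6] -/
def BoxK6 : Prop := AllX hpE6 fun X => ZCs X 3 ∧ Ones X 3 18 {a | X.Rt a} ∧ Trs X 18 {a | X.Rt a} ∧
  ∀ Ψ, (∀ a ∈ Ψ, X.Rt a) → Lvs X Ψ → (∃ v, Pp X Ψ v ∧ ∀ β, v ≠ cl X β) ∨ Cork X Ψ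

/-- [K4] -/
def BoxK4 : Prop := AllX hpF4 fun X => ZCs X 3 ∧ Ones X 3 12 {a | X.Rt a}

/-- [K5] -/
def BoxK5 : Prop := AllX hpE8 fun X => ZCs X 5 ∧ Ones X 5 40 {a | X.Rt a}

/-! ### elementary facts -/

variable {X}

theorem Sz_exp (u : X.R → ℤ) (ζ : kˣ) : X.Sz {X.τ (coch u ζ)} = Rn X (orderOf ζ) u :=
  Set.ext fun a => and_congr_right fun _ => by
    rw [← TO.X.Cn.χ_exp]
    exact ⟨fun h => h _ rfl, fun h _ e => e ▸ h⟩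

theorem Sz_Z0 (A : Set Y) : X.Sz (Z0 X A) = Cl X (X.Sz A) :=
  Set.ext fun _ => ⟨fun h => ⟨h.1, fun _ hv => dot_eq_zero h hv⟩, fun h => ⟨h.1, fun _ hz => χ_Z0 h.2 hz⟩⟩

theorem lvs_of_cl {Ψ : Set (X.I → ℤ)} (h1 : ∀ a ∈ Ψ, X.Rt a) (h2 : Cl X Ψ ⊆ Ψ) : Lvs X Ψ := by
  classical
  obtain ⟨v, h3, h4⟩ := exists_avoid (P := X.wt '' Ψ)
    ((X.finite_roots.toFinset.filter fun a => a ∉ Ψ).image X.wt) fun b hb => by
      obtain ⟨a, ha, rfl⟩ := Finset.mem_image.1 hb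
      obtain ⟨h3, h4⟩ := Finset.mem_filter.1 ha
      by_contra h5
      push Not at h5
      exact h4 (h2 ⟨X.finite_roots.mem_toFinset.1 h3, fun v hv => h5 v fun _ ⟨c, hc, e⟩ => e ▸ hv c hc⟩)
  exact ⟨v, fun a ha => ⟨fun h => h3 _ ⟨a, h, rfl⟩, fun h => by_contra fun h5 => h4 _ (Finset.mem_image_of_mem _
    (Finset.mem_filter.2 ⟨X.finite_roots.mem_toFinset.2 ha, h5⟩)) h⟩⟩

theorem Lvs.cl {Ψ Ψ' : Set (X.I → ℤ)} (h : Lvs X Ψ) (h0 : ∀ a ∈ Ψ', X.Rt a) (h1 : Ψ' ⊆ Ψ) : Cl X Ψ' ⊆ Ψ := fun a ha =>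
  let ⟨v, hv⟩ := h
  (hv a ha.1).2 (ha.2 v fun b hb => (hv b (h0 b hb)).1 (h1 hb))

theorem Lq.lvs {l j : ℕ} (hl : l.Prime) {u : X.R → ℤ} (h : Lq X l ((l : ℤ) ^ j) u) : Lvs X (Rn X ((l : ℤ) ^ j) u) :=
  let ⟨_, h1, h2⟩ := h
  lvs_of_cl (fun _ h => h.1) fun a ha => ⟨ha.1, (((Nat.prime_iff_prime_int.1 hl).coprime_iff_not_dvd.2 h1).pow_left
    (m := j)).dvd_of_dvd_mul_left (h2 a ha)⟩

theorem Gds.qc {l : ℕ} (hl : l.Prime) {Ψ : Set (X.I → ℤ)} (h : Gds X l Ψ) {t : Y} (ht : t ∈ X.T) {j : ℕ}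
    (h1 : t ^ l ^ j = 1) (h2 : X.Sz {t} ⊆ Ψ) : QC X {t} := by
  obtain ⟨ζ, u, -, h3, rfl⟩ := TO.X.Cn.exists_exp X ht
  obtain ⟨i, -, hi⟩ := (Nat.dvd_prime_pow hl).1 (h3.trans (orderOf_dvd_of_pow_eq_one h1))
  rw [Sz_exp, hi, Nat.cast_pow] at h2
  have h4 := h i u h2
  rwa [← Nat.cast_pow, ← hi, ← Sz_exp] at h4

theorem ZCs.mem {l : ℕ} (hl : l.Prime) (h : ZCs X l) {t : Y} (ht : t ∈ X.T) {j : ℕ} (h1 : t ^ l ^ j = 1)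
    (h2 : QC X {t}) : t ∈ Z0 X {t} := by
  obtain ⟨ζ, u, -, h3, rfl⟩ := TO.X.Cn.exists_exp X ht
  obtain ⟨i, -, hi⟩ := (Nat.dvd_prime_pow hl).1 (h3.trans (orderOf_dvd_of_pow_eq_one h1))
  refine Lv.mem_Z0 ?_
  rw [hi, Nat.cast_pow]
  refine h i u ?_
  rwa [← Nat.cast_pow, ← hi, ← Sz_exp]

/-- a group of Levi type lies in `Z0` -/
theorem ZCs.le {l : ℕ} (hl : l.Prime) (hp : l ≠ p) (h : ZCs X l) {Z : Set Y} (hZ : Z ⊆ X.T) (he : El l Z) (hq : QC X Z) :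
    Z ⊆ Z0 X Z := fun t ht => by
  obtain ⟨j, hj⟩ := he t ht
  obtain ⟨s, a1, ⟨i, a2⟩, a3⟩ := exists_one hl hp hq (hZ ht) hj
  rw [Set.insert_eq_of_mem ht] at a3
  exact (Subgroup.mul_mem_cancel_right _ a1).1 (Z0_mono a3.ge
    (h.mem hl (mul_mem (hZ ht) (Z0_le_T X Z a1)) a2 (by unfold QC; rw [a3]; exact hq)))

/-- **The induction below a good Levi subsystem.** -/
theorem ind {f l : ℕ} (h : Pi1 X f) (hl : l.Prime) (hp : l ≠ p) (hf : l.Coprime f) {Z : Set Y} (hZ : Z ⊆ X.T)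
    (hfz : Z.Finite) (hq : QC X Z) (hc : CC X Z) (hg : Gds X l (X.Sz Z)) {A : Set Y} (hfin : A.Finite)
    (hA : A ⊆ X.cen Z) (he : El l A) (hab : ∀ a ∈ A, ∀ b ∈ A, a * b = b * a) :
    ∃ g ∈ X.cen Z, (∀ a ∈ A, g⁻¹ * a * g ∈ X.T) ∧ QC X ((fun a => g⁻¹ * a * g) '' A ∪ Z) ∧
      CC X ((fun a => g⁻¹ * a * g) '' A ∪ Z) := by
  induction A, hfin using Set.Finite.induction_on with
  | empty => exact ⟨1, one_mem _, fun _ h => h.elim, by rw [Set.image_empty, Set.empty_union]; exact ⟨hq, hc⟩⟩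
  | @insert t A _ hfin ih =>
    obtain ⟨g, hg1, h1, h2, h3⟩ := ih ((Set.subset_insert _ _).trans hA) (fun z hz => he z (Set.mem_insert_of_mem _ hz))
      fun a ha b hb => hab a (Set.mem_insert_of_mem _ ha) b (Set.mem_insert_of_mem _ hb)
    obtain ⟨j, hj⟩ := he t (Set.mem_insert _ _)
    have e : ∀ c : Y, (c⁻¹ * t * c) ^ l ^ j = 1 := fun c => by
      rw [← inv_inv c, inv_inv c⁻¹, conj_pow, hj, mul_one, mul_inv_cancel]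
    have h4 : (fun a => g⁻¹ * a * g) '' A ∪ Z ⊆ X.T := Set.union_subset (fun _ ⟨z, hz, e⟩ => e ▸ h1 z hz) hZ
    have h5 := mul_mem (mul_mem (inv_mem hg1) (hA (Set.mem_insert _ _))) hg1
    obtain ⟨c, h6, h7⟩ := toral_cen h4 ((hfin.image _).union hfz) (y := g⁻¹ * t * g) (h3 _ (X.cen_le_G _ h5) (by
      rintro _ (⟨z, hz, rfl⟩ | hz)
      · calc g⁻¹ * z * g * (g⁻¹ * t * g) = g⁻¹ * (z * t) * g := by group
          _ = _ := by rw [hab z (Set.mem_insert_of_mem _ hz) t (Set.mem_insert _ _)]; group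
      · exact X.cen_le_centralizer hZ h5 _ hz)) (not_dvd_ord hl hp (e g))
    have h8 : ∀ z ∈ A, (g * c)⁻¹ * z * (g * c) = g⁻¹ * z * g := fun z hz => by
      rw [show (g * c)⁻¹ * z * (g * c) = c⁻¹ * (g⁻¹ * z * g * c) by group,
        X.cen_le_centralizer h4 h6 _ (Or.inl ⟨z, hz, rfl⟩), inv_mul_cancel_left]
    rw [show c⁻¹ * (g⁻¹ * t * g) * c = (g * c)⁻¹ * t * (g * c) by group] at h7
    obtain ⟨s, a1, ⟨i, a2⟩, a3⟩ := exists_one hl hp h2 h7 (e _)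
    refine ⟨g * c, mul_mem hg1 (X.cen_anti Set.subset_union_right h6), ?_, ?_⟩
    · rintro z (rfl | hz)
      · exact h7
      · rw [h8 z hz]
        exact h1 z hz
    rw [Set.image_insert_eq, Set.image_congr h8, Set.insert_union]
    refine ⟨?_, h3.insert h hf h7 a1 a2 a3⟩
    unfold QC
    rw [← a3]
    exact hg.qc hl (mul_mem h7 (Z0_le_T X _ a1)) a2
      (a3.le.trans (Sz_anti (Set.subset_union_right.trans (Set.subset_insert _ _))))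

end Cfsg.Agent.KM.Tor
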