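import Cfsg.Agent.KM.Tor.E6a
import Cfsg.Agent.KM.Tor.K6

/-!
# KM, `l = 3`, types `E₆`, `²E₆` : `boxE6_of` (helper29)
-/

set_option autoImplicit false
set_option linter.unusedSectionVars false

namespace Cfsg.Agent.KM.Tor

open Cfsg Cfsg.Lie Cfsg.Agent.DL Cfsg.Agent.Nodes.Reps Cfsg.Agent.Nodes.BNOf Matrix Subgroup Cfsg.Agent.KM.Ht
open Cfsg.Agent.TO.X.Cn (exists_exp WZ)
open Cfsg.Agent.DL.CF (act_mul act_one)
open Cfsg.Agent.Tits.Roots Cfsg.Agent.ChevalleyStructure.CoxeterGeom Cfsg.Agent.KZ.DatX Cfsg.Agent.Nodes.RGDChev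
open BT

namespace E6

/-- groups of order `27` with an invariant line -/
theorem flag_or_line {Y : Type} [Group Y] {G D R : Subgroup Y} (hab : Ab D) (hD : Nat.card D = 27) (hR : Nat.card R = 3)
    (hle : R ≤ D) (hi : ∀ g ∈ G, g ∈ normalizer (D : Set Y) → ∀ r ∈ R, g * r * g⁻¹ ∈ R) : Flag G D ∨ Line G D := by
  have : Fact (Nat.Prime 3) := ⟨Nat.prime_three⟩
  have : Finite D := Nat.finite_of_card_ne_zero (by omega)
  have : Finite R := Nat.finite_of_card_ne_zero (by omega)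
  have h1 : ∀ r ∈ R, r ^ 3 = 1 := fun r hr => hR ▸ congrArg Subtype.val (pow_card_eq_one' (x := (⟨r, hr⟩ : R)))
  refine or_iff_not_imp_right.2 fun h2 => ⟨R, R, le_rfl, hle, h1, fun g hg hn => ⟨hi g hg hn, hi g hg hn⟩,
    fun d hd e he => st_of_index (Z := ⊥) (fun a ha b hb => hab a (hle ha) b (hle hb))
      (by rw [bot_subgroupOf, index_bot, hR]) d ⟨hd, h1 d hd⟩ e ⟨he, h1 e he⟩, fun _ hd _ _ h => (h hd).elim, ?_⟩
  let Ω : Subgroup Y :=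
    { carrier := {d | d ∈ D ∧ d ^ 3 = 1}
      one_mem' := ⟨one_mem _, one_pow _⟩
      mul_mem' := fun {a b} ha hb => ⟨mul_mem ha.1 hb.1, by
        rw [(show Commute a b from hab a ha.1 b hb.1).mul_pow, ha.2, hb.2, one_mul]⟩
      inv_mem' := fun {a} ha => ⟨inv_mem ha.1, by rw [inv_pow, ha.2, inv_one]⟩ }
  have h3 : R ≤ Ω := fun r hr => ⟨hle hr, h1 r hr⟩
  have h4 : Ω ≤ D := fun _ h => h.1
  have h5 := (R.subgroupOf Ω).index_mul_card
  have h6 : Nat.card Ω ≠ 27 := fun e => h2 ⟨hD, fun d hd => (eq_of_le_of_card_ge h4 (hD.trans e.symm).le ▸ hd : d ∈ Ω).2, by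
    have := Finite.one_lt_card_iff_nontrivial.1 (by omega : 1 < Nat.card R)
    obtain ⟨r, hr⟩ := exists_ne (1 : R)
    exact ⟨r, hle r.2, fun e => hr (Subtype.ext e), fun g hg hn => by
      obtain ⟨n, e⟩ := mem_zpowers_of_prime_card hR hr (g' := ⟨_, hi g hg hn r r.2⟩)
      exact ⟨n, congrArg Subtype.val e⟩⟩⟩
  have h7 := card_dvd_of_le h4
  rw [Nat.card_congr (subgroupOfEquivOfLe h3).toEquiv, hR] at h5
  rw [hD, ← h5] at h7
  have h8 : (R.subgroupOf Ω).index ∣ 3 ^ 2 := Nat.dvd_of_mul_dvd_mul_right (by decide : 0 < 3) h7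
  obtain ⟨i, h9, h10⟩ := (Nat.dvd_prime_pow Nat.prime_three).1 h8
  interval_cases i
  · exact fun d hd _ _ h => (h (subgroupOf_eq_top.1 (index_eq_one.1 h10) hd)).elim
  · exact fun d hd e he => st_of_index (D := Ω) (fun a ha b hb => hab a ha.1 b hb.1) h10 d ⟨hd, hd.2⟩ e ⟨he, he.2⟩
  · omega

variable {p : ℕ} [Fact p.Prime] {k : Type} [Field k] [CharP k p] {Y : Type} [Group Y] {N : Type} [Fintype N]
  [DecidableEq N] {ρ : Y →* GL N k} {F : MulAut Y} {G : Subgroup Y} [IsAlgClosed k] (X : Datum p ρ F G)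

/-- adjoint type -/
def Adj : Prop := ∀ c : X.R → kˣ, (∀ a, X.Rt a → chr (X.wt a) c = 1) → c = 1

/-- the properties of the frame -/
structure Fr (H : Subgroup Y) (m : ℤ) : Prop where
  lc : LC X
  ln : LN X
  zc : ZCs X 3
  on : Ones X 3 18 {a | X.Rt a}
  ad : Adj X
  mx : ∃ φ, X.Mx = m • X.Wm φ
  dl : ∀ g (hg : g ∈ G) (hN : g⁻¹ * F g ∈ X.NN), Dl (X.conj hg hN) H

/-- the orbit count -/
theorem burn (Ω : Subgroup X.W) (h1 : {a | X.Rt a}.ncard = 72)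
    (h2 : ∀ w ∈ Ω, w ≠ 1 → {a | X.Rt a ∧ X.act w a = a}.ncard = 6) : Nat.card Ω ∣ 66 := by
  classical
  let : MulAction Ω {a // X.Rt a} :=
    { smul := fun w a => ⟨X.act w a, a.2.act _⟩
      one_smul := fun a => Subtype.ext (act_one X a.1)
      mul_smul := fun v w a => Subtype.ext (act_mul X v.1 w.1 a.1) }
  have : Finite {a // X.Rt a} := X.finite_roots.to_subtype
  have := Fintype.ofFinite Ω
  have := fun w : Ω => Fintype.ofFinite (MulAction.fixedBy {a // X.Rt a} w)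
  have := Fintype.ofFinite (Quotient (MulAction.orbitRel Ω {a // X.Rt a}))
  have h3 : ∀ w : Ω, Fintype.card (MulAction.fixedBy {a // X.Rt a} w) = 6 + if w = 1 then 66 else 0 := fun w => by
    have e : Subtype.val '' MulAction.fixedBy {a // X.Rt a} w = {a | X.Rt a ∧ X.act w a = a} :=
      Set.ext fun a => ⟨fun ⟨b, hb, e⟩ => e ▸ ⟨b.2, congrArg Subtype.val hb⟩, fun h => ⟨⟨a, h.1⟩, Subtype.ext h.2, rfl⟩⟩
    rw [← Nat.card_eq_fintype_card, Nat.card_coe_set_eq, ← Set.ncard_image_of_injective _ Subtype.val_injective, e]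
    split_ifs with h
    · simpa only [h, OneMemClass.coe_one, act_one, and_true] using h1
    · exact h2 w w.2 fun e => h (Subtype.ext e)
  have h4 := MulAction.sum_card_fixedBy_eq_card_orbits_mul_card_group Ω {a // X.Rt a}
  simp only [h3, Finset.sum_add_distrib, Finset.sum_const, Finset.card_univ, Finset.sum_ite_eq', Finset.mem_univ, if_true,
    smul_eq_mul] at h4
  rw [Nat.card_eq_fintype_card]
  exact (Nat.dvd_add_right (dvd_mul_right _ _)).1 (h4 ▸ dvd_mul_left _ _)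

variable {X} {H D A : Subgroup Y} {y g : Y} {m : ℤ}

theorem Mx_eq {M : Matrix X.R X.R ℤ} (h : ∀ c, F (X.τ c) = X.τ (mon M c)) : X.Mx = M :=
  mon_inj (k := k) fun c => X.τ_inj ((X.F_τ c).symm.trans (h c))

theorem Fr.dl0 (h : Fr X H m) : Dl X H := by
  have hN : (1 : Y)⁻¹ * F 1 ∈ X.NN := by simpa only [map_one, mul_one, inv_one] using one_mem _
  have e : ∀ c, (X.conj (one_mem _) hN).τ c = X.τ c := fun c => by rw [X.conj_tau, one_mul, inv_one, mul_one]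
  have e' : X.Mx = (X.conj (one_mem _) hN).Mx := Mx_eq fun c => by rw [← e, ← e, Datum.F_τ]
  refine ⟨fun u β ζ h1 h2 h3 => e _ ▸ (h.dl 1 _ hN).mem u β ζ h1 h2 (e' ▸ h3), fun t ht h1 => ?_⟩
  obtain ⟨u, β, ζ, h2, h3, h4, h5⟩ := (h.dl 1 _ hN).ex t (mem_cj.2 (by simpa only [inv_one, one_mul, mul_one] using ht)) h1
  exact ⟨u, β, ζ, h2, h3, e' ▸ h4, h5.trans (e _)⟩

theorem Fr.conj (h : Fr X H m) (hg : g ∈ G) (hN : g⁻¹ * F g ∈ X.NN) : Fr (X.conj hg hN) H m := by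
  refine ⟨h.lc.conj hg hN, h.ln.conj hg hN, h.zc, ⟨h.on.pos, h.on.card, h.on.dich⟩, h.ad, ?_, fun x hx h1 => ?_⟩
  · obtain ⟨φ, e⟩ := h.mx
    exact ⟨X.pr (g⁻¹ * F g) * φ, by rw [conj_Wm', X.conj_Mx, e, Matrix.mul_smul, X.Wm_mul]⟩
  have h2 : (x * g)⁻¹ * F (x * g) ∈ X.NN := by
    rw [X.conj_NN, mem_cj] at h1
    simpa only [map_mul, _root_.mul_inv_rev, mul_assoc, mul_inv_cancel_left] using mul_mem h1 hN
  have h3 := h.dl _ (mul_mem hx hg) h2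
  have e : ∀ c, ((X.conj hg hN).conj hx h1).τ c = (X.conj (mul_mem hx hg) h2).τ c := fun c => by
    rw [Datum.conj_tau, X.conj_tau, X.conj_tau]
    group
  have e' : ((X.conj hg hN).conj hx h1).Mx = (X.conj (mul_mem hx hg) h2).Mx := Mx_eq fun c => by rw [e, e, Datum.F_τ]
  refine ⟨fun u β ζ k1 k2 k3 => e _ ▸ h3.mem u β ζ k1 k2 (e' ▸ k3), fun t ht k1 => ?_⟩
  obtain ⟨u, β, ζ, k2, k3, k4, k5⟩ := h3.ex t (mem_cj.2 (by
    simpa only [_root_.mul_inv_rev, mul_assoc] using mem_cj.1 (mem_cj.1 ht))) k1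
  exact ⟨u, β, ζ, k2, k3, e' ▸ k4, k5.trans (e _).symm⟩

/-- toral subgroups -/
theorem Fr.tor (h : Fr X H m) (hp : 3 ≠ p) (hf : (A : Set Y).Finite) (hA : A ≤ X.T) (he : El 3 (A : Set Y)) :
    (QC X A ∧ (A : Set Y) ⊆ Z0 X A) ∨ Nat.card A ≤ 9 := by
  refine (boxOneT X 3 18 A Nat.prime_three hp h.on hf.to_subtype hA he).imp
    (fun e => ⟨e, h.zc.le Nat.prime_three hp hA he e⟩) fun e => Nat.le_of_dvd (n := 3 ^ 2) (by decide) ?_
  have h1 : Zc X {a | X.Rt a} = ⊥ := eq_bot_iff.2 fun t ht => by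
    obtain ⟨c, rfl⟩ := (X.mem_T t).1 ht.1
    rw [h.ad c fun a ha => Units.ext ((X.χ_τ a c).symm.trans (ht.2 a ha)), map_one]
    exact one_mem _
  simpa only [h1, relIndex_bot_left] using e.1

theorem pair_iff {t e : Y} (hp : 3 ≠ p) (ht : t ∈ X.T) {j : ℕ} (hj : e ^ 3 ^ j = 1) :
    (∃ g ∈ G, g⁻¹ * t * g ∈ X.T ∧ g⁻¹ * e * g ∈ X.T) ↔ e ∈ X.cen {t} := by
  have h0 := Set.singleton_subset_iff.2 ht
  refine ⟨fun ⟨g, hg, h1, h2⟩ => ?_, fun h => ?_⟩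
  · obtain ⟨c, hc, n, hn, -, rfl⟩ := X.exists_conj_form (s := fun _ : Unit => g⁻¹ * t * g) (t := fun _ => t) (fun _ => h1)
      (fun _ => ht) hg fun _ => by group
    rw [Set.range_const] at hc
    rw [show e = c * (n * ((c * n)⁻¹ * e * (c * n)) * n⁻¹) * c⁻¹ by group]
    exact mul_mem (mul_mem (X.S_le_cen _ hc) (X.T_le_cen _ (X.conj_mem_T hn h2))) (inv_mem (X.S_le_cen _ hc))
  · obtain ⟨g, h1, h2⟩ := toral_cen h0 (Set.finite_singleton t) h (not_dvd_ord Nat.prime_three hp hj)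
    exact ⟨g, X.cen_le_G _ h1, by rwa [mul_assoc, X.cen_le_centralizer h0 h1 t rfl, inv_mul_cancel_left], h2⟩

variable {ω : D →* X.W} (W : Wa X D A ω) (h : Set3 F G H D y)
include W h

theorem two (d : D) {s t : Y} (hs : s ∈ A) (ht : t ∈ A) :
    ∃ μ ν, ∀ i j : ℤ, ω d ∈ WZ X {s ^ i * t ^ j} ↔ i • μ + j • ν ∈ Q X := by
  obtain ⟨ξ, u, -, -, rfl⟩ := exists_exp X (W.leT hs)
  obtain ⟨ξ', v, -, -, rfl⟩ := exists_exp X (W.leT ht)
  obtain ⟨ζ, a, b, rfl, rfl⟩ := com X ξ ξ'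
  rw [← coch_zsmul] at hs ht ⊢
  rw [← coch_zsmul]
  obtain ⟨μ, hμ⟩ := mu W d hs
  obtain ⟨ν, hν⟩ := mu W d ht
  refine ⟨μ, ν, fun i j => ?_⟩
  rw [← τ_lin]
  refine wz W h (τ_lin (X := X) i j _ _ ζ ▸ mul_mem (zpow_mem hs i) (zpow_mem ht j)) ?_
  rw [mulVec_add, mulVec_smul _ i, mulVec_smul _ j, hμ, hν]
  module

theorem exists_R (d : D) : ∃ R : Subgroup Y, ∀ t, t ∈ R ↔ t ∈ A ∧ ω d ∈ WZ X {t} := by
  refine ⟨⟨⟨⟨{t | t ∈ A ∧ ω d ∈ WZ X {t}}, fun {s t} hs ht => ⟨mul_mem hs.1 ht.1, ?_⟩⟩, one_mem _, ?_⟩,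
    fun {s} hs => ⟨inv_mem hs.1, ?_⟩⟩, fun _ => Iff.rfl⟩
  · obtain ⟨μ, ν, e⟩ := two W h d hs.1 ht.1
    simpa using (e 1 1).2 (by
      simpa using add_mem ((e 1 0).1 (by simpa using hs.2)) ((e 0 1).1 (by simpa using ht.2)))
  · obtain ⟨μ, ν, e⟩ := two W h d (one_mem _) (one_mem _)
    simpa using (e 0 0).2 (by simp)
  · obtain ⟨μ, ν, e⟩ := two W h d hs.1 hs.1
    simpa using (e (-1) 0).2 (by simpa using (e 1 0).1 (by simpa using hs.2))

variable {d : D} {R : Subgroup Y} (hR : ∀ t, t ∈ R ↔ t ∈ A ∧ ω d ∈ WZ X {t})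
include hR

theorem card_le (hN : LN X) {t : Y} (ht : t ∈ A) (h1 : t ∉ R) : Nat.card A ≤ 3 * Nat.card R := by
  have hf : (R : Set Y).Finite := (h.fin X).subset fun s hs => W.le ((hR s).1 hs).1
  have h2 : (A : Set Y) ⊆ R ∪ (· * t⁻¹) '' R ∪ (· * t) '' R := fun s hs => by
    obtain ⟨μ, ν, e⟩ := two W h d hs ht
    have h3 : ν ∉ Q X := fun e' => h1 ((hR t).2 ⟨ht, by simpa using (e 0 1).2 (by simpa using e')⟩)
    have h4 : μ ∈ Q X ∨ ν + μ ∈ Q X ∨ ν - μ ∈ Q X := hN.idx ν μ h3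
    rcases h4 with e' | e' | e'
    · exact .inl (.inl ((hR s).2 ⟨hs, by simpa using (e 1 0).2 (by simpa using e')⟩))
    · exact .inl (.inr ⟨s * t, (hR _).2 ⟨mul_mem hs ht, by simpa using (e 1 1).2 (by simpa [add_comm] using e')⟩,
        mul_inv_cancel_right s t⟩)
    · exact .inr ⟨s * t⁻¹, (hR _).2 ⟨mul_mem hs (inv_mem ht), by
        simpa using (e 1 (-1)).2 (by simpa [sub_eq_add_neg] using (Q X).neg_mem e')⟩, inv_mul_cancel_right s t⟩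
  have h3 := Set.ncard_le_ncard h2 ((hf.union (hf.image _)).union (hf.image _))
  have h4 := Set.ncard_union_le ((R : Set Y) ∪ (· * t⁻¹) '' R) ((· * t) '' R)
  have h5 := Set.ncard_union_le (R : Set Y) ((· * t⁻¹) '' R)
  have h6 := Set.ncard_image_le (f := (· * t⁻¹)) hf
  have h7 := Set.ncard_image_le (f := (· * t)) hf
  change (A : Set Y).ncard ≤ 3 * (R : Set Y).ncard
  omega

theorem card_R (hp : 3 ≠ p) {φ : X.W} (hM : X.Mx = m • X.Wm φ) (h2 : Two3 X (ω d) φ (X.Sz A)) (h3 : 3 ∣ m - 1)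
    (h9 : ¬ 9 ∣ m - 1) : Nat.card R ≤ 3 := by
  obtain ⟨c, hc⟩ := h2.cyc m h3 h9
  obtain ⟨η, hη⟩ := exists_prim p k (n := 3) fun e =>
    hp ((Nat.prime_dvd_prime_iff_eq Fact.out Nat.prime_three).1 e).symm
  have h4 : X.τ (coch c η) ^ 3 = 1 := by rw [← map_pow, ← map_pow, ← hη, pow_orderOf_eq_one, map_one, map_one]
  have h5 : R ≤ zpowers (X.τ (coch c η)) := fun t ht => by
    obtain ⟨k1, k2⟩ := (hR t).1 ht
    obtain ⟨ζ, u, -, k3, rfl⟩ := exists_exp X (W.leT k1)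
    obtain ⟨j, hj⟩ := h.el _ (W.le k1)
    obtain ⟨i, -, hi⟩ := (Nat.dvd_prime_pow Nat.prime_three).1 (k3.trans (orderOf_dvd_of_pow_eq_one hj))
    obtain ⟨μ, hμ⟩ := mu W d k1
    obtain ⟨ν, hν⟩ := fix_iff.1 (h.fix (W.le k1))
    have k4 := Sz_anti (X := X) (Set.singleton_subset_iff.2 k1)
    rw [wz W h k1 hμ] at k2
    rw [Sz_exp] at k4
    rw [hM, smul_mulVec] at hν
    rw [hi, Nat.cast_pow] at hμ hν k4
    obtain ⟨n, v, e⟩ := hc i u μ ν k2 hμ k4 hν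
    cases i with
    | zero =>
      rw [orderOf_eq_one_iff.1 hi, map_one, map_one]
      exact one_mem _
    | succ i =>
      have k5 : (ζ ^ (3 : ℤ) ^ i) ^ 3 = 1 := by
        rw [← Nat.cast_ofNat, ← Nat.cast_pow, zpow_natCast, ← pow_mul, ← pow_succ, ← hi, pow_orderOf_eq_one]
      obtain ⟨a, ha⟩ : ζ ^ (3 : ℤ) ^ i ∈ zpowers η := by
        rw [(hη ▸ IsPrimitiveRoot.orderOf η : IsPrimitiveRoot η 3).zpowers_eq]
        exact (mem_rootsOfUnity _ _).2 k5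
      rw [pow_succ', mul_smul] at e
      rw [smul_right_injective _ (show (3 : ℤ) ≠ 0 by decide) e, coch_zsmul, τ_lin, ← map_zpow _ _ 3, ← map_zpow _ _ 3,
        zpow_ofNat, k5, map_one, map_one, mul_one, ← ha, map_zpow, map_zpow]
      exact zpow_mem (zpow_mem (mem_zpowers _) a) n
  have := (isOfFinOrder_iff_pow_eq_one.2 ⟨3, by decide, h4⟩).finite_zpowers.to_subtype
  exact (card_le_of_le h5).trans ((Nat.card_zpowers _).trans_le (orderOf_le_of_pow_eq_one (by decide) h4))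

omit hR in
/-- **the non-toral case** -/
theorem nontoral (hNA : BoxNA) (hp : 3 ≠ p) (hX : Fr X H m) (hn : ¬ D ≤ A) : Nat.card D ≤ 9 ∨ Flag G D ∨ Line G D := by
  have : Fact (Nat.Prime 3) := ⟨Nat.prime_three⟩
  have : Finite D := (h.fin X).to_subtype
  obtain ⟨φ, hM⟩ := hX.mx
  obtain ⟨d, h3, h1⟩ := W.exists_three h hn
  have h2 := fun d => two3 W h hNA hp hX.lc hX.ln hM (d := d)
  obtain ⟨n, k1⟩ := IsPGroup.iff_card.1 (h.loc.pg.of_surjective _ ω.rangeRestrict_surjective)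
  have k2 := burn X ω.range hX.on.card fun _ ⟨e, he⟩ h => he ▸ (h2 e (he ▸ h)).2.2.2.2.1
  have k3 : Nat.card ω.range = 3 := by
    rw [k1] at k2 ⊢
    rcases n with _ | _ | n
    · exact (h1 (mem_bot.1 (card_eq_one.1 k1 ▸ ⟨d, rfl⟩ : ω d ∈ (⊥ : Subgroup X.W)))).elim
    · rfl
    · exact absurd ((pow_dvd_pow 3 (by omega : 2 ≤ n + 1 + 1)).trans k2) (by decide)
  have k4 : ∀ e e' : D, ω e ≠ 1 → ∀ Z, ω e ∈ WZ X Z → ω e' ∈ WZ X Z := fun e e' he Z hZ => by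
    obtain ⟨n, hn⟩ := mem_zpowers_of_prime_card k3 (g := ⟨_, e, rfl⟩) (fun e => he (congrArg Subtype.val e)) (g' := ⟨_, e', rfl⟩)
    rw [← show ω e ^ n = ω e' from congrArg Subtype.val hn]
    exact zpow_mem hZ n
  have k5 : Nat.card D = 3 * Nat.card A := by
    rw [← ω.ker.index_mul_card, index_ker, k3, show ω.ker = A.subgroupOf D from Subgroup.ext (W.ker h),
      Nat.card_congr (subgroupOfEquivOfLe W.le).toEquiv]
  obtain ⟨R, hR⟩ := exists_R W h d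
  obtain ⟨t, ht, k6⟩ := exists_out W h hNA hp hX.lc h3 h1
  have k7 : t ∉ R := fun e => k6 ((hR t).1 e).2
  have k8 := card_le W h hR hX.ln ht k7
  have k9 : Nat.card A ≤ 9 := (hX.tor hp ((h.fin X).subset W.le) W.leT fun z hz => h.el z (W.le hz)).elim (fun e => by
    have := card_R W h hR hp hM (h2 d h1).2.2.2.2.2 (h2 d h1).1 (not_nine W h hNA hp hX.lc hX.ln hM hX.dl0 h1 e.2)
    omega) id
  refine or_iff_not_imp_left.2 fun k10 => ?_
  obtain ⟨j, hj⟩ := IsPGroup.iff_card.1 h.loc.pg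
  have k11 : Nat.card D = 27 := by
    have e : 3 ^ 3 ≤ 3 ^ j := Nat.pow_le_pow_right (by decide) ((Nat.pow_lt_pow_iff_right (by decide : 1 < 3)).1 (by omega))
    omega
  have k12 : R ≤ A := fun s hs => ((hR s).1 hs).1
  have k13 : Nat.card R = 3 := by
    have : Finite A := ((h.fin X).subset W.le).to_subtype
    have e : Nat.card R ≠ 9 := fun e => k7 (eq_of_le_of_card_ge k12 (by omega) ▸ ht)
    obtain ⟨i, h9, h10⟩ := (Nat.dvd_prime_pow Nat.prime_three).1 ((by omega : Nat.card A = 3 ^ 2) ▸ card_dvd_of_le k12)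
    interval_cases i <;> omega
  have k14 : ∀ s ∈ A, ∀ e : D, (∃ g ∈ G, g⁻¹ * s * g ∈ X.T ∧ g⁻¹ * e * g ∈ X.T) ↔ ω e ∈ WZ X {s} := fun s hs e =>
    let ⟨_, hj⟩ := h.el _ e.2
    (pair_iff hp (W.leT hs) hj).trans (cen_iff W hs e)
  have k15 : ∀ r, r ∈ R ↔ r ∈ D ∧ ∀ e ∈ D, ∃ g ∈ G, g⁻¹ * r * g ∈ X.T ∧ g⁻¹ * e * g ∈ X.T := fun r => by
    refine (hR r).trans ⟨fun e => ⟨W.le e.1, fun x hx => (k14 r e.1 ⟨x, hx⟩).2 (k4 d _ h1 _ e.2)⟩, fun e => ?_⟩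
    have e' : r ∈ A := by_contra fun e' => k6 (k4 ⟨r, e.1⟩ d (fun e => e' ((W.ker h _).1 e)) _
      ((k14 t ht ⟨r, e.1⟩).1 ((e.2 t (W.le ht)).imp fun _ e => ⟨e.1, e.2.symm⟩)))
    exact ⟨e', (k14 r e' d).1 (e.2 d d.2)⟩
  refine flag_or_line h.ab k11 k13 (k12.trans W.le) fun g hg hn r hr => (k15 _).2
    ⟨(mem_normalizer_iff.1 hn r).1 (W.le (k12 hr)), fun e he => ?_⟩
  obtain ⟨x, l1, l2, l3⟩ := ((k15 r).1 hr).2 (g⁻¹ * e * g) ((mem_normalizer_iff''.1 hn e).1 he)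
  exact ⟨g * x, mul_mem hg l1, by simpa only [_root_.mul_inv_rev, mul_assoc, inv_mul_cancel_left] using l2,
    by simpa only [_root_.mul_inv_rev, mul_assoc] using l3⟩

end E6

open E6

/-- **`E₆`, `²E₆` at `l = 3`** -/
theorem boxE6_of (hNA : BoxNA) (hL : AllX hpE6 fun X => LC X) (hN : BoxLN) : BoxE6 := by
  intro r _ k _ _ _ Mx X H D y m φ hp hM h hD
  obtain ⟨h1, h2, -, h3⟩ := boxK6 r k Mx X
  have h4 : Fr X.D H m := ⟨hL r k Mx X, hN r k Mx X, h1, h2, fun c hc => funext fun i => (chr_single i c).symm.trans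
    (hc _ (isRoot_sr _ _ i)), ⟨φ, hM⟩, hD⟩
  rcases exists_wa hp h (fun X => Fr X H m) (fun _ _ hy hN e => e.conj hy hN) h4 with ⟨g, hg, h5, e⟩ | ⟨_, _, _, e, W, hn⟩
  · rcases (h4.conj hg h5).tor hp (h.fin X.D) e h.el with ⟨h6, h7⟩ | h6
    · exact (h3 _ (X.D.conj hg h5).Sz_root h6).imp (fun e => ⟨g, hg, h5, h7, e⟩) fun e' => .inr (.inl
        (boxCork (X.D.conj hg h5) D hp e e' fun _ hd _ _ h => (h (h7 hd.1)).elim))
    · exact .inr (.inl h6)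
  · exact .inr (nontoral W h hNA hp e hn)

end Cfsg.Agent.KM.Tor
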