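import Cfsg.Agent.KM.Tor.E78
import Cfsg.Agent.KM.Tor.K7
import Cfsg.Agent.KM.Glue

/-!
# KM, `l = 3` : the rows `E₇` and `E₈` from the two boxes (helper13)
-/

set_option autoImplicit false

namespace Cfsg.Agent.KM.Tor

open Cfsg

theorem at_e7_of (hNA : BoxNA) (hL : BoxLC) : At CE7 3 :=
  at_e7_three (te7_of hNA hL.2.1 fun r _ k _ _ _ Mx X => (boxK7 r k Mx X).2.1)

theorem at_e8_of (hNA : BoxNA) (hL : BoxLC) : At CE8 3 :=
  have : Fact (Nat.Prime 3) := ⟨Nat.prime_three⟩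
  at_e8 (tx_e8_of hNA hL.2.2)

end Cfsg.Agent.KM.Tor
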