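import Cfsg.Agent.TO.Can2
import Cfsg.Agent.H658.InertialBound
import Cfsg.Agent.H617.RankOneCol
import Cfsg.Agent.H639.Sub
import Cfsg.Agent.S4689

/-!
# KM, counting contributions: abelian defect groups with a small inertial quotient (helper29)

`cnt` : if a member of the block has positive height, `∑ z ∈ D, wz z ≤ e * |D|`; `hz_of_lt`, `hz_of_le`.
-/

set_option autoImplicit false
set_option linter.unusedSectionVars false

namespace Cfsg.Agent.KM.Tor

open Cfsg Subgroup Cfsg.Agent.TO Cfsg.Agent.TO.Cn Cfsg.Agent.H658 Cfsg.Agent.H613.RegGram Cfsg.Agent.H613.Contrib Cfsg.Agent.H649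
  Cfsg.Agent.Characters Cfsg.Agent.Blocks
open scoped ComplexConjugate

universe u

variable {p : ℕ} [Fact p.Prime] {M : Ideal AlgInt}

/-- a family of positive algebraic integers which is permuted by all embeddings -/
theorem amgm (hM : IsPModular p M) {ι : Type*} [Fintype ι] (a : ι → ℝ) (ha : ∀ i, 0 < a i)
    (hint : ∀ i, IsIntegral ℤ (a i : ℂ)) {n : ℕ} (hn : n ≠ 0)
    (hσ : ∀ (σ : algebraicClosure ℚ ℂ →+* ℂ) (m : ℕ), m.Coprime n →
      (∀ t : algebraicClosure ℚ ℂ, t ^ n = 1 → σ t = (t : ℂ) ^ m) →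
      ∃ π : Equiv.Perm ι, ∀ i, ∀ c : algebraicClosure ℚ ℂ, (c : ℂ) = (a i : ℂ) → σ c = (a (π i) : ℂ))
    {s : ℕ} (hs : ∀ i, MemLocalRing M ((a i : ℂ) / (p : ℂ) ^ s)) : (Fintype.card ι : ℝ) * (p : ℝ) ^ s ≤ ∑ i, a i := by
  classical
  have hmem : ∀ i, (a i : ℂ) ∈ algebraicClosure ℚ ℂ := fun i => mem_algebraicClosure_iff'.2 (hint i).tower_top
  have hP : IsIntegral ℤ ((∏ i, a i : ℝ) : ℂ) := by
    push_cast
    exact IsIntegral.prod _ fun i _ => hint i
  obtain ⟨q, hq⟩ := exists_rat_of_forall hn (z := ((∏ i, a i : ℝ) : ℂ)) hP.tower_top (by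
    intro σ m hm hσm c hc
    obtain ⟨π, hπ⟩ := hσ σ m hm hσm
    have hc' : c = ∏ i, (⟨(a i : ℂ), hmem i⟩ : algebraicClosure ℚ ℂ) := Subtype.ext (by rw [hc]; push_cast; rfl)
    rw [hc', map_prod, Finset.prod_congr rfl fun i _ => hπ i _ rfl, Equiv.prod_comp π (fun i => (a i : ℂ))]
    push_cast
    rfl)
  have hqint : IsIntegral ℤ (algebraMap ℚ ℂ q) := (show ((∏ i, a i : ℝ) : ℂ) = algebraMap ℚ ℂ q from hq.symm) ▸ hP
  rw [isIntegral_algebraMap_iff (algebraMap ℚ ℂ).injective] at hqint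
  obtain ⟨k, hk⟩ := IsIntegrallyClosed.isIntegral_iff.1 hqint
  have hk1 : (k : ℝ) = ∏ i, a i := by
    have hqr : (q : ℝ) = ∏ i, a i := by exact_mod_cast hq
    rw [← hqr, ← hk]
    simp
  have hp : (0 : ℝ) < (p : ℝ) ^ s := pow_pos (by exact_mod_cast hM.1.pos) _
  have hk0 : 0 < k := by
    have : (0 : ℝ) < k := hk1 ▸ Finset.prod_pos fun i _ => ha i
    exact_mod_cast this
  have h1 : (p : ℤ) ^ (s * Fintype.card ι) ∣ k := pow_dvd_of_memLocalRing hM _ (by
    have h2 := LocalRing.memLocalRing_prod hM Finset.univ _ fun i _ => hs i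
    rw [Finset.prod_div_distrib, Finset.prod_const, Finset.card_univ, ← pow_mul] at h2
    rwa [show (k : ℂ) = ∏ i, (a i : ℂ) by exact_mod_cast congrArg ((↑) : ℝ → ℂ) hk1])
  have hge : 1 ≤ ∏ i, a i / (p : ℝ) ^ s := by
    rw [Finset.prod_div_distrib, Finset.prod_const, Finset.card_univ, ← pow_mul, ← hk1, one_le_div (by
      rw [pow_mul]; exact pow_pos hp _)]
    exact_mod_cast Int.le_of_dvd hk0 h1
  have hlog : 0 ≤ ∑ i, Real.log (a i / (p : ℝ) ^ s) := by
    rw [← Real.log_prod fun i _ => (div_pos (ha i) hp).ne']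
    exact Real.log_nonneg hge
  have h2 : ∑ i, Real.log (a i / (p : ℝ) ^ s) ≤ ∑ i, (a i / (p : ℝ) ^ s - 1) :=
    Finset.sum_le_sum fun i _ => Real.log_le_sub_one_of_pos (div_pos (ha i) hp)
  rw [Finset.sum_sub_distrib, Finset.sum_const, Finset.card_univ, nsmul_eq_mul, mul_one, ← Finset.sum_div] at h2
  rw [← le_div_iff₀ hp]
  linarith

/-- the weighted form -/
theorem wsum (hM : IsPModular p M) {ι : Type*} [Fintype ι] (a : ι → ℝ) (ha : ∀ i, 0 < a i)
    (hint : ∀ i, IsIntegral ℤ (a i : ℂ)) {n : ℕ} (hn : n ≠ 0) (w : ι → ℕ)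
    (hσ : ∀ (σ : algebraicClosure ℚ ℂ →+* ℂ) (m : ℕ), m.Coprime n →
      (∀ t : algebraicClosure ℚ ℂ, t ^ n = 1 → σ t = (t : ℂ) ^ m) →
      ∃ π : Equiv.Perm ι, (∀ i, w (π i) = w i) ∧
        ∀ i, ∀ c : algebraicClosure ℚ ℂ, (c : ℂ) = (a i : ℂ) → σ c = (a (π i) : ℂ))
    (s : ℕ → ℕ) (hs : ∀ i, MemLocalRing M ((a i : ℂ) / (p : ℂ) ^ s (w i))) :
    ∑ i, (w i : ℝ) * (p : ℝ) ^ s (w i) ≤ ∑ i, (w i : ℝ) * a i := by
  classical
  rw [← Finset.sum_fiberwise_of_maps_to (t := Finset.univ.image w) fun i hi => Finset.mem_image_of_mem w hi,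
    ← Finset.sum_fiberwise_of_maps_to (t := Finset.univ.image w) (f := fun i => (w i : ℝ) * a i)
      fun i hi => Finset.mem_image_of_mem w hi]
  refine Finset.sum_le_sum fun j _ => ?_
  have h1 := amgm hM (ι := {i // w i = j}) (fun i => a i) (fun i => ha i) (fun i => hint i) hn (fun σ m hm h => by
    obtain ⟨π, h1, h2⟩ := hσ σ m hm h
    exact ⟨π.subtypePerm fun i => by rw [h1], fun i => h2 i⟩) (s := s j) fun i => by
      have h1 := hs i
      rwa [i.2] at h1
  rw [Finset.sum_congr rfl (g := fun _ => (j : ℝ) * (p : ℝ) ^ s j) fun i hi => by rw [(Finset.mem_filter.1 hi).2],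
    Finset.sum_congr rfl (f := fun i => (w i : ℝ) * a i) (g := fun i => (j : ℝ) * a i) fun i hi => by
      rw [(Finset.mem_filter.1 hi).2], Finset.sum_const, ← Finset.mul_sum, nsmul_eq_mul, mul_left_comm, ← Fintype.card_subtype,
    Finset.sum_subtype (p := fun i => w i = j) _ (fun i => by simp) a]
  exact mul_le_mul_of_nonneg_left h1 (Nat.cast_nonneg _)

variable {G : Type u} [Group G] [Finite G] {b : Set (IrrCharacter G)} {D : Subgroup G} {θ : G → ℂ}

theorem card_mul_relIndex {H K : Subgroup G} (h : H ≤ K) : Nat.card H * H.relIndex K = Nat.card K := by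
  rw [← Nat.card_congr (subgroupOfEquivOfLe h).toEquiv]
  exact (H.subgroupOf K).card_mul_index

/-- subsections of rank one -/
theorem contr_mul (hM : IsPModular p M) (u : G) {H : Subgroup G} [Fintype H] {c : Set (IrrCharacter H)} [Fintype c]
    (hc : IsPBlock M c) (hl : blockRank p c = 1) (χ ψ : G → ℂ) :
    contr p u c χ χ * contr p u c ψ ψ = contr p u c χ ψ * contr p u c ψ χ := by
  classical
  obtain ⟨φ, d, h1, -⟩ := H617.RankOneCol.exists_rank_one hM hc hl
  have h2 : ∀ (χ : G → ℂ) (η : c), wt p u χ (η.1 : H → ℂ) = d η * wt p u χ φ := fun χ η => by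
    rw [wt_def, wt_def, rg_def, rg_def, pair_eq_sum_filter, pair_eq_sum_filter, mul_left_comm, Finset.mul_sum _ _ (d η : ℂ)]
    refine congrArg _ (Finset.sum_congr rfl fun y hy => ?_)
    rw [h1 η η.2 y (Finset.mem_filter.1 hy).2, map_mul, Complex.conj_natCast, mul_left_comm]
  have h3 : ∀ χ ψ : G → ℂ, contr p u c χ ψ = (∑ η : c, (d η : ℂ) * d η) * (wt p u χ φ * conj (wt p u ψ φ)) := fun χ ψ => by
    rw [contr_def, Finset.sum_mul]
    exact Finset.sum_congr rfl fun η _ => by rw [h2, h2, map_mul, Complex.conj_natCast]; ring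
  rw [h3, h3, h3, h3]
  ring

/-- fusion of the subsections -/
theorem fuse (h : Can p M b D θ) {u v x : G} (hu : u ∈ D) (hv : v ∈ D) {c : Set (IrrCharacter (Cu u))}
    {c' : Set (IrrCharacter (Cu v))} (hc : Can p M c (D.subgroupOf (Cu u)) fun y => θ y)
    (hc' : Can p M c' (D.subgroupOf (Cu v)) fun y => θ y) {ε : Cu u ≃* Cu v} (hε : IsCj x ε) (hx : x * u * x⁻¹ = v)
    (e : H662.trB ε c = c') : ∃ t ∈ In D θ, t * u * t⁻¹ = v := by
  obtain ⟨s, h1, h2⟩ := hc'.conj (e ▸ H639.trB_eq_blkMap ε c ▸ hc.map ε)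
  have h3 : ∀ y : Cu u, ((s * ε y * s⁻¹ : Cu v) : G) = s * x * y * (s * x)⁻¹ := fun y => by
    rw [coe_mul, coe_mul, hε y, coe_inv]; group
  have h4 : ∀ w ∈ D, ∀ y ∈ D, y ∈ Cu w := fun w hw y hy => mem_centralizer_singleton_iff.2 (h.comm y hy w hw)
  have h5 : s * x * u * (s * x)⁻¹ = v := by
    calc s * x * u * (s * x)⁻¹ = s * (x * u * x⁻¹) * (s : G)⁻¹ := by group
      _ = v := by rw [hx, mem_centralizer_singleton_iff.1 s.2, mul_inv_cancel_right]
  have h6 : ∀ y : Cu u, s * x * y * (s * x)⁻¹ ∈ D ↔ (y : G) ∈ D := fun y => by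
    rw [← h3, ← mem_subgroupOf, h1, mem_map_equiv, ε.symm_apply_apply, mem_subgroupOf]
  have h7 : ∀ y : G, s * x * y * (s * x)⁻¹ ∈ D ↔ y ∈ D := fun y =>
    ⟨fun hy => (h6 ⟨y, (Cu_iff (α := MulAut.conj (s * x : G)) h5 y).1 (h4 v hv _ hy)⟩).1 hy,
      fun hy => (h6 ⟨y, h4 u hu y hy⟩).2 hy⟩
  refine ⟨s * x, mem_In.2 ⟨h7, fun g => ?_⟩, h5⟩
  by_cases hg : g ∈ Cu u
  · have h8 := h2 (ε ⟨g, hg⟩)
    rwa [h3, ε.symm_apply_apply] at h8
  · have h8 : g ∉ Ce D := fun e => hg (Ce_le_Cu hu e)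
    rw [h.zero _ h8]
    exact h.zero _ fun e => h8 ((Cn.Ce_iff (e := MulAut.conj (s * x : G)) (Cn.map_eq_of_iff h7) g).1 e)

theorem Ce_le_In (h : Can p M b D θ) : Ce D ≤ In D θ := fun c hc => mem_In.2 ⟨fun y =>
  (mem_normalizer_iff.1 (centralizer_le_normalizer _ hc) y).symm, fun g => by
    by_cases hg : g ∈ Ce D
    · exact Core.isIrr_isClassFunction h.irr ⟨g, hg⟩ ⟨c, hc⟩
    · rw [h.zero _ hg, h.zero _ fun e => hg (by simpa [mul_assoc] using mul_mem (mul_mem (inv_mem hc) e) hc)]⟩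

/-- the order of the stabiliser of `z` in the inertial quotient -/
noncomputable def st (D : Subgroup G) (θ : G → ℂ) (z : G) : ℕ := (Ce D).relIndex (In D θ ⊓ Cu z)

theorem st_mul (h : Can p M b D θ) {z : G} (hz : z ∈ D) : Nat.card (Ce D) * st D θ z = Nat.card ↥(In D θ ⊓ Cu z) :=
  card_mul_relIndex (le_inf (Ce_le_In h) (Ce_le_Cu hz))

theorem sum_le (h : Can p M b D θ) [Fintype D] (c : ∀ z : D, Set (IrrCharacter (Cu (z : G))))
    (hc : ∀ z, Can p M (c z) (D.subgroupOf (Cu (z : G))) fun y => θ y) (χ : IrrCharacter G) :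
    ∑ z : D, (st D θ z : ℝ) * cn p (z : G) (c z) (χ : G → ℂ) ≤ (Ce D).relIndex (In D θ) := by
  classical
  have : ∀ z : D, Fintype ↥(In D θ ⊓ Cu (z : G)) := fun z => Fintype.ofFinite _
  have h1 := sum_major_le h.hM (ι := Σ z : D, ↥(In D θ ⊓ Cu (z : G))) (fun i => (i.1 : G)) (fun i => pElt h.pg i.1.2)
    (fun i => c i.1) (fun i => (hc i.1).hb) (e := Nat.card (In D θ)) (fun i => by
      have h2 : ∀ z : D, ∃ t : In D θ, (∃ t ∈ In D θ, t * z * t⁻¹ = i.1) → t * (z : G) * (t : G)⁻¹ = i.1 := fun z => by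
        by_cases e : ∃ t ∈ In D θ, t * z * t⁻¹ = i.1
        · obtain ⟨t, h3, h4⟩ := e
          exact ⟨⟨t, h3⟩, fun _ => h4⟩
        · exact ⟨1, fun e' => absurd e' e⟩
      choose σ hσ using h2
      refine Nat.card_le_card_of_injective (fun j => σ j.1.1 * ⟨j.1.2, j.1.2.2.1⟩) ?_
      have h3 : ∀ (z : D) (t : ↥(In D θ ⊓ Cu (z : G))), (∃ t ∈ In D θ, t * z * t⁻¹ = i.1) →
          (z : G) = ((σ z : G) * t)⁻¹ * i.1 * (σ z * t) := fun z t e => by
        rw [← hσ z e]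
        calc (z : G) = (t : G)⁻¹ * (t * z) := by group
          _ = _ := by rw [mem_centralizer_singleton_iff.1 t.2.2]; group
      rintro ⟨⟨z, t⟩, x, ε, hε, hx, e⟩ ⟨⟨z', t'⟩, x', ε', hε', hx', e'⟩ e''
      have h4 : (σ z : G) * t = σ z' * t' := congrArg Subtype.val e''
      obtain rfl : z = z' := Subtype.ext (by
        rw [h3 z t (fuse h z.2 i.1.2 (hc z) (hc i.1) hε hx e), h3 z' t' (fuse h z'.2 i.1.2 (hc z') (hc i.1) hε' hx' e'), h4])
      obtain rfl : t = t' := Subtype.ext (mul_left_cancel h4)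
      rfl) χ
  rw [Fintype.sum_sigma, ← card_mul_relIndex (Ce_le_In h), Nat.cast_mul] at h1
  refine le_of_mul_le_mul_left ((le_of_eq ?_).trans h1) (Nat.cast_pos.2 Nat.card_pos)
  rw [Finset.mul_sum]
  refine Finset.sum_congr rfl fun z _ => ?_
  rw [← mul_assoc, ← Nat.cast_mul, st_mul h z.2, Nat.card_eq_fintype_card]
  exact (nsmul_eq_mul _ _).symm.trans (Finset.sum_const _).symm

theorem rank_one (h : Can p M b D θ) {z : G} {c : Set (IrrCharacter (Cu z))} (hz : z ∈ D)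
    (hc : Can p M c (D.subgroupOf (Cu z)) fun y => θ y) (h1 : st D θ z = 1) : blockRank p c = 1 := by
  have h2 : D ≤ Cu z := fun y hy => mem_centralizer_singleton_iff.2 (h.comm y hy z hz)
  have := Fintype.ofFinite (Cu z)
  refine (S4689.result p M h.hM c (hc.nilp fun t ht => (Cn.mem_Ce_sub h2 t).2 (relIndex_eq_one.1 h1 ⟨?_, t.2⟩))).1
  obtain ⟨h3, h4⟩ := mem_In.1 ht
  have h5 : ∀ y : G, (t : G) * y * (t : G)⁻¹ ∈ D ↔ y ∈ D := fun y =>
    ⟨fun hy => (h3 ⟨y, by simpa [mul_assoc] using mul_mem (mul_mem (inv_mem t.2) (h2 hy)) t.2⟩).1 hy,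
      fun hy => (h3 ⟨y, h2 hy⟩).2 hy⟩
  refine mem_In.2 ⟨h5, fun g => ?_⟩
  by_cases hg : g ∈ Cu z
  · exact h4 ⟨g, hg⟩
  · have h8 : g ∉ Ce D := fun e => hg (Ce_le_Cu hz e)
    rw [h.zero _ h8]
    exact h.zero _ fun e => h8 ((Cn.Ce_iff (e := MulAut.conj (t : G)) (Cn.map_eq_of_iff h5) g).1 e)

/-- the lower bound for the weighted contribution -/
def wz (p n : ℕ) : ℕ := n * p ^ if n = 1 then 2 else 1

/-- **the count** -/
theorem cnt (h : Can p M b D θ) [Fintype D] {χ : IrrCharacter G} (hχ : χ ∈ b) (h0 : blockHeight p b (χ : G → ℂ) ≠ 0) :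
    ∑ z : D, wz p (st D θ z) ≤ (Ce D).relIndex (In D θ) * Nat.card D := by
  classical
  have hM := h.hM
  have := Fintype.ofFinite G
  have hd := S0908.result p M hM b h.hb D h.hD
  choose c hc1 hc using fun z : D => h.loc z.2
  have h2 : ∀ z : D, D ≤ Cu (z : G) := fun z y hy => mem_centralizer_singleton_iff.2 (h.comm y hy z z.2)
  have hf : ∀ z, blockDefect p (c z) = blockDefect p b := fun z => Nat.pow_right_injective hM.1.two_le (by
    have h3 := S0908.result p M hM _ (hc z).hb _ (hc z).hD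
    rw [Nat.card_congr (subgroupOfEquivOfLe (h2 z)).toEquiv, hd] at h3
    exact h3.symm)
  have : ∀ z : D, Fintype (Cu (z : G)) := fun z => Fintype.ofFinite _
  have : ∀ z, Fintype (c z) := fun z => have := Core.finite_irr (G := Cu (z : G)); Fintype.ofFinite _
  have hp0 : (p : ℂ) ≠ 0 := Nat.cast_ne_zero.2 hM.1.ne_zero
  have hzq : ∀ z : D, (z : G) ^ Nat.card D = 1 := fun z => by rw [← coe_pow, pow_card_eq_one', coe_one]
  obtain ⟨k, hk⟩ := Nat.exists_eq_add_one_of_ne_zero h0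
  have ha : ∀ z : D, (((p : ℝ) ^ blockDefect p b * cn p (z : G) (c z) (χ : G → ℂ) : ℝ) : ℂ) =
      (p : ℂ) ^ blockDefect p b * contr p (z : G) (c z) χ χ := fun z => by rw [contr_self_eq_cn]; push_cast; rfl
  have h3 := wsum hM (fun z : D => (p : ℝ) ^ blockDefect p b * cn p (z : G) (c z) (χ : G → ℂ))
    (fun z => mul_pos (pow_pos (by exact_mod_cast hM.1.pos) _) (lt_of_le_of_ne (cn_nonneg _ _ _ _) fun e =>
      contr_self_ne_zero hM (pElt h.pg z.2) rfl (hc1 z) (hf z) hχ (by rw [contr_self_eq_cn, ← e, Complex.ofReal_zero])))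
    (fun z => by rw [ha, ← hf z]; exact isIntegral_pow_mul_contr hM (pElt h.pg z.2) rfl (hc z).hb χ χ)
    (Nat.card_pos (α := D)).ne' (fun z => st D θ z) (fun σ m hm hσ => by
      have h4 : ∀ z : D, ((powCoprime hm.symm z : D) : G) = (z : G) ^ m := fun z => rfl
      have h5 : ∀ z : D, Cu ((powCoprime hm.symm z : D) : G) = Cu (z : G) := fun z =>
        GaloisConj.centralizer_pow_eq (hzq z) hm
      refine ⟨powCoprime hm.symm, fun z => by simp only [st, h5], fun z x hx => ?_⟩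
      rw [sigma_contr hM (Nat.card_pos (α := D)).ne' (hzq z) rfl (hc z).hb χ σ m hm hσ 1 x (by
        rw [hx, hf, Rat.cast_one, one_mul]), hf, Rat.cast_one, one_mul]
      have h6 : ∀ (H : Subgroup G) (c' : Set (IrrCharacter H)), H = Cu (z : G) →
          Can p M c' (D.subgroupOf H) (fun y => θ y) → cn p ((z : G) ^ m) (c z) χ = cn p ((z : G) ^ m) c' χ := by
        rintro H c' rfl e
        rw [(hc z).blk_eq e]
      rw [h6 _ _ (h5 z) (hc _)]
      rfl) (fun n => if n = 1 then 2 else 1) (fun z => by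
      rw [ha]
      split_ifs with h1
      · obtain ⟨ψ, hψ, hψ0⟩ := Blau.exists_blockHeight_eq_zero p ⟨χ, hχ⟩
        obtain ⟨w, h4, h5, h6⟩ := exists_unit_of_height_zero hM (pElt h.pg z.2) rfl (hc1 z) (hf z) hψ hψ hψ0
        have h7 := isIntegral_pow_sub_mul_contr hM (pElt h.pg z.2) rfl (hc1 z) (hf z) hχ ψ
        have h8 := contr_mul hM (z : G) (hc z).hb (rank_one h z.2 (hc z) h1) χ ψ
        have hle : blockHeight p b (χ : G → ℂ) ≤ blockDefect p b := by
          have h9 := H648.HeightForm.defect_add (p := p) b hχ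
          have h10 := Nat.factorization_le_factorization_of_dvd_right (a := p) (S0914.degree_spec χ).2.2
            (Basic.charDegree_pos χ.2).ne' Nat.card_pos.ne'
          omega
        obtain ⟨r, hr⟩ := Nat.exists_eq_add_of_le hle
        rw [hr, Nat.add_sub_cancel_left] at h7
        rw [hψ0, pow_zero, one_mul] at h6
        have h9 : w ≠ 0 := fun e => h5 (e ▸ LocalRing.memLocalIdeal_zero hM)
        have h10 : (p : ℂ) ^ blockDefect p b * contr p (z : G) (c z) χ χ / (p : ℂ) ^ 2 =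
            ((p ^ (2 * k) : ℕ) : ℂ) * ((p : ℂ) ^ r * contr p (z : G) (c z) χ ψ *
              conj ((p : ℂ) ^ r * contr p (z : G) (c z) χ ψ)) / w := by
          rw [map_mul, map_pow, Complex.conj_natCast, conj_contr, div_eq_div_iff (pow_ne_zero _ hp0) h9, ← h6, hr, hk]
          push_cast
          linear_combination ((p : ℂ) ^ (k + 1 + r)) ^ 2 * h8
        rw [h10]
        exact LocalRing.memLocalRing_div hM (LocalRing.memLocalRing_mul hM (LocalRing.memLocalRing_natCast hM _)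
          (LocalRing.memLocalRing_of_isIntegral hM (h7.mul (isIntegral_conj h7)))) h4 h5
      · obtain ⟨w, h4, h5⟩ := exists_nonunit_of_height_pos hM (pElt h.pg z.2) rfl (hc1 z) (hf z) hχ hχ h0
        rw [h5, hk, pow_succ', pow_one, mul_assoc, mul_div_cancel_left₀ _ hp0, ← Nat.cast_pow]
        exact LocalRing.memLocalRing_mul hM (LocalRing.memLocalRing_natCast hM _) (LocalRing.memLocalIdeal_memLocalRing h4))
  have h4 := mul_le_mul_of_nonneg_left (sum_le h c hc χ) (pow_nonneg (Nat.cast_nonneg (α := ℝ) p) (blockDefect p b))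
  rw [Finset.mul_sum, Finset.sum_congr rfl fun z _ => mul_left_comm _ _ _] at h4
  rw [hd, mul_comm]
  exact_mod_cast h3.trans h4

theorem hz_of_lt (h : Can p M b D θ) [Fintype D] (hl : (Ce D).relIndex (In D θ) * Nat.card D < ∑ z : D, wz p (st D θ z)) :
    ∀ χ ∈ b, blockHeight p b (χ : G → ℂ) = 0 := fun _ hχ => not_not.1 fun h0 => (cnt h hχ h0).not_gt hl

theorem st_pos (D : Subgroup G) (θ : G → ℂ) (z : G) : 0 < st D θ z := Nat.pos_of_ne_zero index_ne_zero_of_finite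

theorem le_wz {n : ℕ} (hn : 0 < n) : 2 * p ≤ wz p n := by
  have := (Fact.out : p.Prime).two_le
  unfold wz
  split_ifs with h
  · rw [h, one_mul, sq]
    exact Nat.mul_le_mul_right _ this
  · rw [pow_one]
    exact Nat.mul_le_mul_right _ (by omega)

/-- **inertial index at most `2 p`** -/
theorem hz_of_le (h : Can p M b D θ) (he : (Ce D).relIndex (In D θ) ≤ 2 * p) :
    ∀ χ ∈ b, blockHeight p b (χ : G → ℂ) = 0 := by
  have := Fintype.ofFinite D
  refine hz_of_lt h (lt_of_lt_of_le (Nat.mul_lt_mul_of_pos_right (he.lt_of_ne fun e => h.idx (e ▸ dvd_mul_left _ _))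
    Nat.card_pos) ?_)
  rw [Nat.card_eq_fintype_card, mul_comm, ← Finset.card_univ, ← smul_eq_mul]
  exact Finset.card_nsmul_le_sum _ _ _ fun z _ => le_wz (st_pos D θ z)

end Cfsg.Agent.KM.Tor
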