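import Cfsg.Agent.KM.Tor.Tr

/-!
# KM, counting contributions: inertial index at most `2 p + 2` (helper29)

`data`, `cnt2` (the count with the trace bound), `hz_of_lt2`, `hz_of_le2`.
-/

set_option autoImplicit false
set_option linter.unusedSectionVars false

namespace Cfsg.Agent.KM.Tor

open Cfsg Subgroup Cfsg.Agent.TO Cfsg.Agent.TO.Cn Cfsg.Agent.H658 Cfsg.Agent.H613.RegGram Cfsg.Agent.H613.Contrib Cfsg.Agent.H649
  Cfsg.Agent.Characters Cfsg.Agent.Blocks
open scoped ComplexConjugate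

universe u

variable {p : ℕ} [Fact p.Prime] {M : Ideal AlgInt}
  {G : Type u} [Group G] [Finite G] {b : Set (IrrCharacter G)} {D : Subgroup G} {θ : G → ℂ}

/-- the contributions of a member of positive height -/
theorem data (h : Can p M b D θ) [Fintype D] {χ : IrrCharacter G} (hχ : χ ∈ b) (h0 : blockHeight p b (χ : G → ℂ) ≠ 0) :
    ∃ a : D → ℝ, (∀ z, 0 < a z) ∧ (∀ z, IsIntegral ℤ (a z : ℂ)) ∧
      (∀ n : ℕ, n ≠ 0 → (∀ z : D, z ^ n = 1) → ∀ (σ : algebraicClosure ℚ ℂ →+* ℂ) (m : ℕ), m.Coprime n →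
        (∀ t : algebraicClosure ℚ ℂ, t ^ n = 1 → σ t = (t : ℂ) ^ m) →
        ∀ (z : D) (c : algebraicClosure ℚ ℂ), (c : ℂ) = a z → σ c = a (z ^ m)) ∧
      (∀ z : D, st D θ z = 1 → MemLocalRing M ((a z : ℂ) / (p : ℂ) ^ 2)) ∧ (∀ z, MemLocalIdeal M ((a z : ℂ) / p)) ∧
      ∑ z : D, (st D θ z : ℝ) * a z ≤ (Ce D).relIndex (In D θ) * Nat.card D := by
  classical
  have hM := h.hM
  have := Fintype.ofFinite G
  have hd := S0908.result p M hM b h.hb D h.hD
  choose c hc1 hc using fun z : D => h.loc z.2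
  have h2 : ∀ z : D, D ≤ Cu (z : G) := fun z y hy => mem_centralizer_singleton_iff.2 (h.comm y hy z z.2)
  have hf : ∀ z, blockDefect p (c z) = blockDefect p b := fun z => Nat.pow_right_injective hM.1.two_le (by
    have h3 := S0908.result p M hM _ (hc z).hb _ (hc z).hD
    rw [Nat.card_congr (subgroupOfEquivOfLe (h2 z)).toEquiv, hd] at h3
    exact h3.symm)
  have : ∀ z : D, Fintype (Cu (z : G)) := fun z => Fintype.ofFinite _
  have : ∀ z, Fintype (c z) := fun z => have := Core.finite_irr (G := Cu (z : G)); Fintype.ofFinite _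
  have hp0 : (p : ℂ) ≠ 0 := Nat.cast_ne_zero.2 hM.1.ne_zero
  obtain ⟨k, hk⟩ := Nat.exists_eq_add_one_of_ne_zero h0
  have ha : ∀ z : D, (((p : ℝ) ^ blockDefect p b * cn p (z : G) (c z) (χ : G → ℂ) : ℝ) : ℂ) =
      (p : ℂ) ^ blockDefect p b * contr p (z : G) (c z) χ χ := fun z => by rw [contr_self_eq_cn]; push_cast; rfl
  refine ⟨fun z : D => (p : ℝ) ^ blockDefect p b * cn p (z : G) (c z) (χ : G → ℂ),
    fun z => mul_pos (pow_pos (by exact_mod_cast hM.1.pos) _) (lt_of_le_of_ne (cn_nonneg _ _ _ _) fun e =>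
      contr_self_ne_zero hM (pElt h.pg z.2) rfl (hc1 z) (hf z) hχ (by rw [contr_self_eq_cn, ← e, Complex.ofReal_zero])),
    fun z => by rw [ha, ← hf z]; exact isIntegral_pow_mul_contr hM (pElt h.pg z.2) rfl (hc z).hb χ χ,
    fun n hn hzq σ m hm hσ z x hx => ?_, fun z h1 => ?_, fun z => ?_, ?_⟩
  · have h4 : (z : G) ^ n = 1 := congrArg Subtype.val (hzq z)
    rw [sigma_contr hM hn h4 rfl (hc z).hb χ σ m hm hσ 1 x (by
      rw [hx, hf, Rat.cast_one, one_mul]), hf, Rat.cast_one, one_mul]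
    have h6 : ∀ (H : Subgroup G) (c' : Set (IrrCharacter H)), H = Cu (z : G) →
        Can p M c' (D.subgroupOf H) (fun y => θ y) → cn p ((z : G) ^ m) (c z) χ = cn p ((z : G) ^ m) c' χ := by
      rintro H c' rfl e
      rw [(hc z).blk_eq e]
    rw [h6 _ _ (GaloisConj.centralizer_pow_eq h4 hm) (hc (z ^ m))]
    rfl
  · rw [ha]
    obtain ⟨ψ, hψ, hψ0⟩ := Blau.exists_blockHeight_eq_zero p ⟨χ, hχ⟩
    obtain ⟨w, h4, h5, h6⟩ := exists_unit_of_height_zero hM (pElt h.pg z.2) rfl (hc1 z) (hf z) hψ hψ hψ0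
    have h7 := isIntegral_pow_sub_mul_contr hM (pElt h.pg z.2) rfl (hc1 z) (hf z) hχ ψ
    have h8 := contr_mul hM (z : G) (hc z).hb (rank_one h z.2 (hc z) h1) χ ψ
    have hle : blockHeight p b (χ : G → ℂ) ≤ blockDefect p b := by
      have h9 := H648.HeightForm.defect_add (p := p) b hχ
      have h10 := Nat.factorization_le_factorization_of_dvd_right (a := p) (S0914.degree_spec χ).2.2
        (Basic.charDegree_pos χ.2).ne' Nat.card_pos.ne'
      omega
    obtain ⟨r, hr⟩ := Nat.exists_eq_add_of_le hle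
    rw [hr, Nat.add_sub_cancel_left] at h7
    rw [hψ0, pow_zero, one_mul] at h6
    have h9 : w ≠ 0 := fun e => h5 (e ▸ LocalRing.memLocalIdeal_zero hM)
    have h10 : (p : ℂ) ^ blockDefect p b * contr p (z : G) (c z) χ χ / (p : ℂ) ^ 2 =
        ((p ^ (2 * k) : ℕ) : ℂ) * ((p : ℂ) ^ r * contr p (z : G) (c z) χ ψ *
          conj ((p : ℂ) ^ r * contr p (z : G) (c z) χ ψ)) / w := by
      rw [map_mul, map_pow, Complex.conj_natCast, conj_contr, div_eq_div_iff (pow_ne_zero _ hp0) h9, ← h6, hr, hk]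
      push_cast
      linear_combination ((p : ℂ) ^ (k + 1 + r)) ^ 2 * h8
    rw [h10]
    exact LocalRing.memLocalRing_div hM (LocalRing.memLocalRing_mul hM (LocalRing.memLocalRing_natCast hM _)
      (LocalRing.memLocalRing_of_isIntegral hM (h7.mul (isIntegral_conj h7)))) h4 h5
  · obtain ⟨w, h4, h5⟩ := exists_nonunit_of_height_pos hM (pElt h.pg z.2) rfl (hc1 z) (hf z) hχ hχ h0
    rw [ha, h5, hk, pow_succ', mul_assoc, mul_div_cancel_left₀ _ hp0, ← Nat.cast_pow]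
    exact LocalRing.memLocalIdeal_mul_left hM (LocalRing.memLocalRing_natCast hM _) h4
  · have h4 := mul_le_mul_of_nonneg_left (sum_le h c hc χ) (pow_nonneg (Nat.cast_nonneg (α := ℝ) p) (blockDefect p b))
    rw [Finset.mul_sum, Finset.sum_congr rfl fun z _ => mul_left_comm _ _ _] at h4
    rw [hd, mul_comm, Nat.cast_pow]
    exact h4

/-- `p - 1` times the lower bound for the weighted contribution -/
def wy (p n : ℕ) : ℕ := p ^ 2 * if n = 1 then p - 1 else n

/-- **the count** -/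
theorem cnt2 (h : Can p M b D θ) [Fintype D] {χ : IrrCharacter G} (hχ : χ ∈ b) (h0 : blockHeight p b (χ : G → ℂ) ≠ 0) :
    ∑ z : D, wy p (st D θ z) ≤ (p - 1) * (Ce D).relIndex (In D θ) * Nat.card D := by
  have hp : p.Prime := Fact.out
  obtain ⟨a, h1, h2, h3, h4, h5, h6⟩ := data h hχ h0
  obtain ⟨k, hk⟩ := IsPGroup.iff_card.1 h.pg
  have hn : p ^ (k + 1) ≠ 0 := NeZero.ne _
  have hz : ∀ z : D, z ^ p ^ (k + 1) = 1 := fun z => by rw [pow_succ, pow_mul, ← hk, pow_card_eq_one', one_pow]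
  have h7 : ∀ (z : D) (u : (ZMod (p ^ (k + 1)))ˣ), st D θ ((z ^ (u : ZMod (p ^ (k + 1))).val : D) : G) = st D θ z := fun z u =>
    congrArg (fun H => (Ce D).relIndex (In D θ ⊓ H))
      (GaloisConj.centralizer_pow_eq (congrArg Subtype.val (hz z)) (ZMod.val_coe_unit_coprime u))
  have h8 : ∀ z : D, (p : ℝ) ^ k * wy p (st D θ z) ≤
      st D θ z * ∑ u : (ZMod (p ^ (k + 1)))ˣ, a (z ^ (u : ZMod (p ^ (k + 1))).val) := fun z => by
    unfold wy
    split_ifs with e
    · have h9 := amgm h.hM (fun u : (ZMod (p ^ (k + 1)))ˣ => a (z ^ (u : ZMod (p ^ (k + 1))).val)) (fun _ => h1 _) (fun _ => h2 _)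
        hn (fun σ m hm hσ => ⟨Equiv.mulRight (ZMod.unitOfCoprime m hm), fun u c hc => by
          rw [h3 _ hn hz σ m hm hσ _ c hc, Equiv.coe_mulRight, pow_unit (hz z)]⟩) fun u => h4 _ ((h7 z u).trans e)
      rw [ZMod.card_units_eq_totient, Nat.totient_prime_pow_succ hp] at h9
      rw [e, Nat.cast_one, one_mul]
      refine le_of_eq_of_le ?_ h9
      push_cast
      ring
    · refine le_of_eq_of_le ?_ (mul_le_mul_of_nonneg_left (tr_le h.hM _ (fun _ => h1 _) (fun _ => h2 _) (fun σ m hm hσ u c hc => by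
        rw [h3 _ hn hz σ m hm hσ _ c hc, pow_unit (hz z)]) fun _ => h5 _) (Nat.cast_nonneg _))
      push_cast
      ring
  have h9 := Finset.sum_le_sum fun z (_ : z ∈ Finset.univ) => h8 z
  simp only [Finset.mul_sum] at h9
  rw [Finset.sum_comm, Finset.sum_congr rfl (g := fun _ => ∑ z : D, (st D θ z : ℝ) * a z) fun (u : (ZMod (p ^ (k + 1)))ˣ) _ => by
    rw [← (powCoprime (G := D) (n := (u : ZMod (p ^ (k + 1))).val) (hk ▸ ((ZMod.val_coe_unit_coprime u).coprime_dvd_right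
      (pow_dvd_pow p k.le_succ)).symm)).sum_comp fun z => (st D θ z : ℝ) * a z]
    exact Finset.sum_congr rfl fun z _ => by rw [← h7 z u]; rfl, Finset.sum_const, Finset.card_univ, ZMod.card_units_eq_totient,
    Nat.totient_prime_pow_succ hp, nsmul_eq_mul, ← Finset.mul_sum, Nat.cast_mul, Nat.cast_pow, mul_assoc] at h9
  have h10 := (le_of_mul_le_mul_left h9 (pow_pos (Nat.cast_pos.2 hp.pos) _)).trans
    (mul_le_mul_of_nonneg_left h6 (Nat.cast_nonneg _))
  rw [mul_assoc]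
  exact_mod_cast h10

theorem hz_of_lt2 (h : Can p M b D θ) [Fintype D]
    (hl : (p - 1) * (Ce D).relIndex (In D θ) * Nat.card D < ∑ z : D, wy p (st D θ z)) :
    ∀ χ ∈ b, blockHeight p b (χ : G → ℂ) = 0 := fun _ hχ => not_not.1 fun h0 => (cnt2 h hχ h0).not_gt hl

theorem lt_wy (hp : p ≠ 2) {n : ℕ} (hn : 0 < n) : (p - 1) * (2 * p + 2) < wy p n := by
  obtain ⟨k, rfl⟩ := Nat.exists_eq_add_of_le' (show 3 ≤ p from (Fact.out : p.Prime).two_le.lt_of_ne' hp)
  refine lt_of_lt_of_le (b := (k + 3) ^ 2 * 2) ?_ (Nat.mul_le_mul_left _ ?_)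
  · rw [show k + 3 - 1 = k + 2 from rfl]
    nlinarith
  · split_ifs <;> omega

/-- **odd `p`, inertial index at most `2 p + 2`** -/
theorem hz_of_le2 (hp : p ≠ 2) (h : Can p M b D θ) (he : (Ce D).relIndex (In D θ) ≤ 2 * p + 2) :
    ∀ χ ∈ b, blockHeight p b (χ : G → ℂ) = 0 := by
  have := Fintype.ofFinite D
  refine hz_of_lt2 h ((Nat.mul_le_mul_right _ (Nat.mul_le_mul_left _ he)).trans_lt ?_)
  rw [Nat.card_eq_fintype_card, mul_comm, ← Finset.card_univ, ← smul_eq_mul, ← Finset.sum_const]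
  exact Finset.sum_lt_sum_of_nonempty Finset.univ_nonempty fun z _ => lt_wy hp (st_pos D θ z)

end Cfsg.Agent.KM.Tor
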