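import Cfsg.Agent.KM.Tor.Kill
import Cfsg.Agent.KM.Tor.K8
import Cfsg.Agent.KM.Sc.E2

/-!
# KM, `l = 3` : the types `E₇` and `E₈` from the boxes (helper13)
-/

set_option autoImplicit false

namespace Cfsg.Agent.KM.Tor

open Cfsg Cfsg.Lie Cfsg.Agent.DL Cfsg.Agent.KZ.DatX Cfsg.Agent.Nodes.RGDChev Subgroup
open Cfsg.Agent.TO.X.Cn (pi1 pm_E7 pm_E8)

theorem torB3 {p : ℕ} [Fact p.Prime] {k : Type} [Field k] [CharP k p] {Y : Type} [Group Y] {N : Type} [Fintype N]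
    [DecidableEq N] {ρ : Y →* GL N k} {F : MulAut Y} {G : Subgroup Y} [IsAlgClosed k] {X : Datum p ρ F G} (hNA : BoxNA)
    (hp : 3 ≠ p) {f : ℕ} (k1 : TO.X.Cn.Pi1 X f) (hf : ¬ 3 ∣ f) (hL : LC X) (hZ : ZCs X 3) (hK : Kt X) : Ex.TorB X 3 :=
  fun _ _ _ hM hB hD hA _ h =>
  have := X.amb.finite_GF G
  main3 (j := (GF F G).subtype) hNA hp k1 hf hL hZ hK hM hB hD hA
    (fun x => x.2) (fun a ha b hb => ⟨⟨a, ha⟩ * ⟨b, hb⟩ * ⟨a, ha⟩⁻¹ * ⟨b, hb⟩⁻¹, rfl⟩) (by rw [ker_subtype]; exact bot_le)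
    (by rw [ker_subtype, card_bot]; decide) h

theorem tx_e8_of (hNA : BoxNA) (hL : AllX hpE8 fun X => LC X) : Ex.TX hpE8 1 3 := fun r _ _ k _ _ _ X _ hr =>
  torB3 hNA hr (pi1 X pm_E8) (by decide) (hL r k _ X) (zcs X 3) (K8.kt X)

theorem te7_of (hNA : BoxNA) (hL : AllX hpE7 fun X => LC X) (hK : AllX hpE7 fun X => Kt X) : Sc.TE7 3 :=
  fun r _ _ _ _ _ _ _ hr k _ _ _ X t _ K _ _ σ _ _ _ H _ h => by
    have e : (t.ι.comp σ).ker = center K := by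
      rw [← MonoidHom.comap_ker, (MonoidHom.ker_eq_bot_iff _).2 t.ov.inj, MonoidHom.comap_bot, H.ker]
    refine main3 hNA hr (pi1 X pm_E7) (by decide) (hL r k _ X) (zcs X 3) (hK r k _ X) H.hM H.hB H.hD H.ab
      (fun x => t.ov.mem _) (fun a ha b hb => ?_) e.le (e ▸ H.zp) h
    obtain ⟨s, hs⟩ := t.ov.mem_range.1 (t.ov.comm_mem ⟨a, ha⟩ ⟨b, hb⟩)
    obtain ⟨x, rfl⟩ := H.surj s
    exact ⟨x, hs⟩

end Cfsg.Agent.KM.Tor
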