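import Cfsg.Agent.KM.Tor.TW
import Cfsg.Agent.KM.Tor.K0

/-!
# KM, `l = 3`: the normal form of an element of order three of the Weyl group (helper14)

* `nf` : a conjugate of `w` has a standard Levi subsystem `Nz`, four given roots become lexicographically dominant;
* `Nf.cls`, `Nf.fix`, `Nf.nr` : what the normal form gives;
* `Ad3.cj`, `Hk.cj`, `ph_cj` : transport;  `trio`, `mem3`, `orth` : the roots of `Ψ`.
-/

set_option autoImplicit false
set_option linter.unusedSectionVars false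

namespace Cfsg.Agent.KM.Tor

open Cfsg Cfsg.Agent.DL Cfsg.Agent.Nodes.Reps Matrix Subgroup Cfsg.Agent.ChevalleyStructure.CoxeterGeom Cfsg.Agent.Tits.Roots TW
open Cfsg.Agent.TO.X.Cn (cl exists_cl cl_add mem_of_sum)

variable {p : ℕ} [Fact p.Prime] {k : Type} [Field k] [CharP k p] {Y : Type} [Group Y] {N : Type} [Fintype N]
  [DecidableEq N] {ρ : Y →* GL N k} {F : MulAut Y} {G : Subgroup Y} [IsAlgClosed k] (X : Datum p ρ F G)

/-- `1 + w + w²` on the root lattice -/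
noncomputable def Nr (w : X.W) (x : X.I → ℤ) : X.I → ℤ := x + X.act w x + X.act w (X.act w x)

/-- the normal form -/
structure Nf (w : X.W) (S : Finset X.I) : Prop where
  cube : w ^ 3 = 1
  nz : ∀ a, X.Rt a → (a ∈ Nz X w ↔ ∀ i, i ∉ S → a i = 0)

/-- lexicographically non-negative -/
def Lex (a b c d : ℤ) : Prop := 0 ≤ a ∧ (a = 0 → 0 ≤ b) ∧ (a = 0 → b = 0 → 0 ≤ c) ∧ (a = 0 → b = 0 → c = 0 → 0 ≤ d)

/-- the same class up to sign -/
def Ec (w : X.W) (x y : X.I → ℤ) : Prop := Nr X w y = Nr X w x ∨ Nr X w (-y) = Nr X w x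

variable {X} {w : X.W} {Ψ : Set (X.I → ℤ)} {S : Finset X.I} {a b x y : X.I → ℤ}

namespace Lc

theorem rta (w : X.W) (h : X.Rt x) : X.Rt (X.act w x) := h.act w

theorem nr_sub (w : X.W) (x y : X.I → ℤ) : Nr X w (x - y) = Nr X w x - Nr X w y := by
  simp only [Nr, a_sub]
  abel

theorem nr_act (h3 : w ^ 3 = 1) (x : X.I → ℤ) : Nr X w (X.act w x) = Nr X w x := by
  rw [Nr, Nr, www h3]
  abel

theorem act_cj (g w : X.W) (x : X.I → ℤ) : X.act (g * w * g⁻¹) (X.act g x) = X.act g (X.act w x) := by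
  rw [CF.act_mul, CF.act_mul, a_inv]

theorem nr_cj (g w : X.W) (x : X.I → ℤ) : Nr X (g * w * g⁻¹) (X.act g x) = X.act g (Nr X w x) := by
  simp only [Nr, act_cj, a_add]

theorem nz_cj (g : X.W) : X.act g x ∈ Nz X (g * w * g⁻¹) ↔ x ∈ Nz X w :=
  and_congr (rt_act g) ((congrArg (· = 0) (nr_cj g w x)).to_iff.trans
    ⟨fun h => act_inj g (h.trans (map_zero (rep X.cs X.h g)).symm), fun h => (congrArg _ h).trans (map_zero (rep X.cs X.h g))⟩)

theorem ec_cj (g : X.W) : Ec X (g * w * g⁻¹) (X.act g x) (X.act g y) ↔ Ec X w x y := by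
  simp only [Ec, ← a_neg, nr_cj, (act_inj g).eq_iff]

theorem ex_im {g : X.W} (h : a ∈ im X g Ψ) : ∃ b ∈ Ψ, X.act g b = a := (im_eq g Ψ).subset h

theorem ph_cj (g : X.W) (h0 : ∀ a ∈ Ψ, X.Rt a) : X.act g x ∈ Ph X (g * w * g⁻¹) (im X g Ψ) ↔ x ∈ Ph X w Ψ :=
  and_congr (nz_cj g) ⟨fun h b hb => (pr_act g x (h0 b hb)).symm.trans (h _ (act_mem_im.2 hb)), fun h b hb => by
    obtain ⟨c, hc, rfl⟩ := ex_im hb
    exact (pr_act g x (h0 c hc)).trans (h c hc)⟩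

theorem pr_neg' (x : X.I → ℤ) (h : X.Rt y) : pr X x (-y) = -pr X x y := by
  rw [pr, X.cor_neg h, dotProduct_neg]
  rfl

theorem bd2 (hS : Sl X) (hx : X.Rt x) (hy : X.Rt y) : -2 ≤ pr X x y ∧ pr X x y ≤ 2 := by
  by_cases h1 : x = y
  · rw [h1, pr_self hy]
    omega
  by_cases h2 : x = -y
  · rw [h2, pr_neg, pr_self hy]
    omega
  have := bd hS hx hy h1 h2
  omega

theorem pr_lin (x z : X.I → ℤ) : pr X x z = ∑ i, x i * pr X (sr i) z := by
  conv_lhs => rw [X.eq_sum_sr x, pr, map_sum, sum_dotProduct]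
  exact Finset.sum_congr rfl fun i _ => pr_smul _ _ _

theorem pr_sum (hS : Sl X) (ha : X.Rt a) (x : X.I → ℤ) : pr X x a = ∑ j, a j * pr X x (sr j) := by
  rw [pr_lin x a, Finset.sum_congr rfl fun j _ => congrArg (a j * ·) (pr_lin x (sr j))]
  simp only [Finset.mul_sum]
  rw [Finset.sum_comm]
  refine Finset.sum_congr rfl fun i _ => ?_
  rw [show pr X (sr i) a = pr X a (sr i) from hS _ _ (isRoot_sr _ _ i) ha, pr_lin, Finset.mul_sum]
  refine Finset.sum_congr rfl fun j _ => ?_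
  rw [show pr X (sr j) (sr i) = pr X (sr i) (sr j) from hS _ _ (isRoot_sr _ _ j) (isRoot_sr _ _ i)]
  ring

theorem mem_of_nz (h3 : w ^ 3 = 1) {H : Subgroup X.W} (h : ∀ a ∈ Nz X w, X.rf a ∈ H) : w ∈ H :=
  mem_of_sum X h3 fun a ha h0 => h a ⟨ha, by
    simpa only [Finset.sum_range_succ, Finset.range_zero, Finset.sum_empty, zero_add, pow_zero, pow_one, sq, CF.act_mul,
      CF.act_one] using h0⟩

theorem nz_ne (h3 : w ^ 3 = 1) (h : w ≠ 1) : (Nz X w).Nonempty :=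
  by_contra fun h1 => h (mem_bot.1 (mem_of_nz h3 fun a ha => (h1 ⟨a, ha⟩).elim))

/-- the three values on an orbit -/
theorem s3 (h3 : w ^ 3 = 1) (x : X.I → ℤ) (hy : X.Rt y) :
    pr X x y + pr X x (X.act w y) + pr X x (X.act w (X.act w y)) = pr X (Nr X w x) y := by
  have h1 := pr_act w (X.act w (X.act w x)) hy
  have h2 := pr_act w x (rta w (rta w hy))
  rw [www h3] at h1 h2
  rw [Nr, pr_add, pr_add, h1, h2]
  ring

end Lc

open Lc

theorem Ad3.rt (h : Ad3 X w Ψ) : ∀ a ∈ Ψ, X.Rt a := fun a ha => ((h.cs.choose_spec a).1 ha).1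

theorem Ad3.neg (h : Ad3 X w Ψ) (ha : a ∈ Ψ) : -a ∈ Ψ :=
  (h.cs.choose_spec _).2 ⟨(h.rt a ha).neg, neg_mem ((h.cs.choose_spec a).1 ha).2⟩

theorem Ad3.rf (h : Ad3 X w Ψ) (ha : a ∈ Ψ) (hb : b ∈ Ψ) : a - pr X a b • b ∈ Ψ :=
  (h.cs.choose_spec _).2 ⟨act_rf (h.rt b hb) a ▸ rta _ (h.rt a ha),
    sub_mem ((h.cs.choose_spec a).1 ha).2 (zsmul_mem ((h.cs.choose_spec b).1 hb).2 _)⟩

theorem Ad3.cj (h : Ad3 X w Ψ) (g : X.W) : Ad3 X (g * w * g⁻¹) (im X g Ψ) := by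
  refine ⟨by rw [conj_pow, h.cube, mul_one, mul_inv_cancel], fun e => h.ne (conj_eq_one_iff.1 e), ?_, fun a ha => ?_,
    fun a ha => ?_⟩
  · obtain ⟨Λ, hΛ⟩ := h.cs
    exact ⟨Λ.comap (rep X.cs X.h g⁻¹).toAddMonoidHom, fun a => (hΛ _).trans (and_congr (rt_act g⁻¹) Iff.rfl)⟩
  · obtain ⟨c, hc, rfl⟩ := ex_im ha
    exact act_cj g w c ▸ act_mem_im.2 (h.st c hc)
  · obtain ⟨c, hc, rfl⟩ := ex_im ha
    exact fun e => h.dj c hc ((nz_cj g).1 e)

theorem Hk.cj (h : Hk X w) (g : X.W) : Hk X (g * w * g⁻¹) := fun a ha => by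
  rw [← act_act_inv g a] at ha ⊢
  obtain ⟨v, ⟨β, h1⟩, h2, h3⟩ := h _ ((nz_cj g).1 ha)
  obtain ⟨γ, hγ⟩ := exists_cl X v g
  have h4 : ∀ u, X.Wm (g * w * g⁻¹) *ᵥ X.Wm g *ᵥ u = X.Wm g *ᵥ X.Wm w *ᵥ u := fun u => by
    rw [mulVec_mulVec, mulVec_mulVec, ← X.Wm_mul, ← X.Wm_mul, inv_mul_cancel_right]
  refine ⟨X.Wm g *ᵥ v, ⟨β + γ, by rw [hγ, cl_add, h1]⟩, ?_, ?_⟩
  · rw [Nm, h4, h4, ← mulVec_add, ← mulVec_add, ← Nm, h2, mulVec_zero]
  · rwa [act_cj, ← a_sub, dot_Wm, a_inv]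

section

variable (hS : Sl X) (h : Ad3 X w Ψ)
include hS h

theorem Ad3.le0 (hx : x ∈ Ψ) (hy : y ∈ Ψ) (e : Nr X w x = Nr X w y) (hn : x ≠ y) : pr X x y ≤ 0 := by
  by_cases h2 : x = -y
  · rw [h2, pr_neg, pr_self (h.rt y hy)]
    omega
  refine by_contra fun h3 => ?_
  have h4 := h.rf hx hy
  rw [show pr X x y = 1 by have := bd hS (h.rt x hx) (h.rt y hy) hn h2; omega, one_smul] at h4
  exact h.dj _ h4 ⟨h.rt _ h4, (nr_sub w x y).trans (sub_eq_zero.2 e)⟩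

/-- the orbits in `Ψ` are orthogonal trios -/
theorem Ad3.trio (hx : x ∈ Ψ) (hn : X.act w x ≠ x) : pr X x (X.act w x) = 0 ∧ pr X x (X.act w (X.act w x)) = 0 := by
  have h0 := h.rt x hx
  have h1 := h.le0 hS hx (h.st x hx) (nr_act h.cube x).symm hn.symm
  have h2 := pr_act w (X.act w (X.act w x)) h0
  rw [www h.cube] at h2
  have h3 : pr X x (X.act w (X.act w x)) = pr X (X.act w (X.act w x)) x := hS _ _ h0 (rta w (rta w h0))
  have h4 := bd hS h0 (rta w h0) hn.symm fun e => hn (by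
    have h5 := www h.cube x
    rwa [show X.act w (X.act w x) = x by rw [← neg_neg (X.act w x), ← e, a_neg, ← e]] at h5)
  refine (and_iff_left_of_imp fun e => by omega).2 (by_contra fun h5 => h.dj x hx ⟨h0, ?_⟩)
  have h6 := h.rt _ (h.rf hx (h.st x hx))
  rw [show pr X x (X.act w x) = -1 by omega, neg_smul, one_smul, sub_neg_eq_add] at h6
  have h7 : pr X (x + X.act w x) (X.act w (X.act w x)) = -2 := by
    rw [pr_add, pr_act w x (rta w h0)]
    omega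
  refine add_eq_zero_iff_eq_neg.2 (by_contra fun h8 => ?_)
  have := bd hS h6 (rta w (rta w h0)) (fun e => by rw [e, pr_self (rta w (rta w h0))] at h7; omega) h8
  omega

theorem Ad3.mem3 (hx : x ∈ Ψ) (hy : y ∈ Ψ) (hn : X.act w y ≠ y) (e : Nr X w y = Nr X w x) :
    y = x ∨ y = X.act w x ∨ y = X.act w (X.act w x) := by
  have h1 := h.st x hx
  have h2 := h.st _ h1
  have h3 := s3 h.cube y (h.rt y hy)
  have h4 := h.trio hS hy hn
  have h5 : ∀ z ∈ Ψ, pr X y z = pr X z y := fun z hz => hS _ _ (h.rt y hy) (h.rt z hz)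
  have h6 : pr X (Nr X w x) y = pr X y x + pr X y (X.act w x) + pr X y (X.act w (X.act w x)) := by
    rw [Nr, pr_add, pr_add, h5 _ hx, h5 _ h1, h5 _ h2]
  rw [e, h6, pr_self (h.rt y hy)] at h3
  refine by_contra fun h7 => ?_
  rw [not_or, not_or] at h7
  have := h.le0 hS hy hx e h7.1
  have := h.le0 hS hy h1 (e.trans (nr_act h.cube x).symm) h7.2.1
  have := h.le0 hS hy h2 (e.trans ((nr_act h.cube _).trans (nr_act h.cube x)).symm) h7.2.2
  omega

omit hS in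
theorem Ad3.orth0 (ha : a ∈ Nz X w) (hy : y ∈ Ψ) (e : X.act w y = y) : pr X a y = 0 := by
  have h1 := s3 h.cube a (h.rt y hy)
  rw [e, e, show Nr X w a = 0 from ha.2, pr, pr, map_zero, zero_dotProduct] at h1
  rw [pr]
  omega

/-- orthogonal to an orbit, so to its class -/
theorem Ad3.orth (ha : a ∈ Nz X w) (hx : x ∈ Ψ) (h1 : pr X a x = 0) (h2 : pr X a (X.act w x) = 0) (hy : y ∈ Ψ)
    (e : Ec X w x y) : pr X a y = 0 := by
  have h3 := s3 h.cube a (h.rt x hx)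
  rw [show Nr X w a = 0 from ha.2, h1, h2, show pr X 0 x = 0 by rw [pr, map_zero, zero_dotProduct]] at h3
  have key : ∀ y ∈ Ψ, Nr X w y = Nr X w x → pr X a y = 0 := fun y hy e => (em _).elim (h.orth0 ha hy) fun hn => by
    rcases h.mem3 hS hx hy hn e with rfl | rfl | rfl <;> omega
  exact e.elim (key y hy) fun e => neg_eq_zero.1 ((pr_neg' a (h.rt y hy)).symm.trans (key _ (h.neg hy) e))

end

theorem Nf.cls (h : Nf X w S) (x : X.I → ℤ) {i : X.I} (hi : i ∉ S) : X.act w x i = x i := by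
  let H : Subgroup X.W :=
    { carrier := {u | ∀ x, X.act u x i = x i}
      one_mem' := fun x => by rw [CF.act_one]
      mul_mem' := fun h1 h2 x => by rw [CF.act_mul, h1, h2]
      inv_mem' := fun {u} h1 x => (h1 _).symm.trans (by rw [act_act_inv]) }
  refine mem_of_nz h.cube (H := H) (fun a ha x => ?_) x
  rw [act_rf ha.1, Pi.sub_apply, Pi.smul_apply, (h.nz a ha.1).1 ha i hi, smul_zero, sub_zero]

theorem Nf.fix (hS : Sl X) (h : Nf X w S) {d : ℤ} (hx : ∀ j ∈ S, d ∣ pr X x (sr j)) : ∃ y, X.act w x = x + d • y := by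
  let H : Subgroup X.W :=
    { carrier := {u | ∃ y, X.act u x = x + d • y}
      one_mem' := ⟨0, by rw [CF.act_one, smul_zero, add_zero]⟩
      mul_mem' := fun {u v} ⟨y, h1⟩ ⟨z, h2⟩ => ⟨y + X.act u z, by rw [CF.act_mul, h2, a_add, a_smul, h1, smul_add, add_assoc]⟩
      inv_mem' := fun {u} ⟨y, h1⟩ => ⟨-X.act u⁻¹ y, by
        rw [smul_neg, ← sub_eq_add_neg, eq_sub_iff_add_eq, ← a_smul, ← a_add, ← h1, a_inv]⟩ }
  refine mem_of_nz h.cube (H := H) fun a ha => ?_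
  obtain ⟨c, hc⟩ : d ∣ pr X x a := pr_sum hS ha.1 x ▸ Finset.dvd_sum fun j _ => (em (j ∈ S)).elim
    (fun e => (hx j e).mul_left _) fun e => by rw [(h.nz a ha.1).1 ha j e, zero_mul]; exact dvd_zero d
  exact ⟨-(c • a), by rw [act_rf ha.1, hc, mul_smul, smul_neg, sub_eq_add_neg]⟩

theorem Nf.sr_mem (h : Nf X w S) {j : X.I} (hj : j ∈ S) : sr j ∈ Nz X w :=
  (h.nz _ (isRoot_sr _ _ j)).2 fun _ hi => sr_ne fun e => hi (e ▸ hj)

theorem Nf.nr (h : Nf X w S) (hx : ∀ i, i ∉ S → x i = 0) : Nr X w x = 0 := by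
  have h1 : Nr X w x = ∑ j, x j • Nr X w (sr j) := by
    conv_lhs => rw [X.eq_sum_sr x]
    simp only [Nr, Datum.act, map_sum, map_smul, smul_add, Finset.sum_add_distrib]
  rw [h1]
  exact Finset.sum_eq_zero fun j _ => (em (j ∈ S)).elim (fun e => by rw [show Nr X w (sr j) = 0 from (h.sr_mem e).2, smul_zero])
    fun e => by rw [hx j e, zero_smul]

theorem Nf.nr_eq (h : Nf X w S) (hx : ∀ i, i ∉ S → x i = y i) : Nr X w x = Nr X w y :=
  sub_eq_zero.1 ((nr_sub w x y).symm.trans (h.nr fun i hi => sub_eq_zero.2 (hx i hi)))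

theorem Nf.nr_apply (h : Nf X w S) (x : X.I → ℤ) {i : X.I} (hi : i ∉ S) : Nr X w x i = 3 * x i := by
  rw [Nr, Pi.add_apply, Pi.add_apply, h.cls (X.act w x) hi, h.cls x hi]
  ring

/-- the exponent of `P / Q` divides three -/
theorem Nf.dvd (hS : Sl X) (h : Nf X w S) {d : ℤ} (h0 : ∀ i, i ∉ S → x i = 0) (hx : ∀ j ∈ S, d ∣ pr X x (sr j)) (i : X.I) :
    d ∣ 3 * x i := by
  obtain ⟨y, hy⟩ := h.fix hS hx
  have h1 := congrFun (h.nr h0) i
  rw [Nr, hy, a_add, a_smul, hy] at h1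
  simp only [Pi.add_apply, Pi.smul_apply, smul_eq_mul, Pi.zero_apply] at h1
  exact ⟨-(2 * y i + X.act w y i), by linear_combination h1⟩

/-- **the normal form** -/
theorem nf (hS : Sl X) (h3 : w ^ 3 = 1) {y₁ y₂ y₃ y₄ : X.I → ℤ} (h₁ : X.Rt y₁) (h₂ : X.Rt y₂) (h₃ : X.Rt y₃) (h₄ : X.Rt y₄) :
    ∃ g S, Nf X (g * w * g⁻¹) S ∧ ∀ j ∈ S, Lex (pr X (X.act g y₁) (sr j)) (pr X (X.act g y₂) (sr j)) (pr X (X.act g y₃) (sr j))
      (pr X (X.act g y₄) (sr j)) := by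
  classical
  let f : X.I → (X.I → ℤ) →+ ℤ := fun i => AddMonoidHom.mk' (fun a => Nr X w a i) fun a b => by
    simp only [Nr, a_add, Pi.add_apply]
    ring
  obtain ⟨l, l1, l2⟩ := Ht.exists_generic X Finset.univ f w fun i _ a => congrFun (nr_act h3 a) i
  let q : (X.I → ℤ) → (X.I → ℤ) →+ ℤ := fun y => AddMonoidHom.mk' (pr X · y) fun a b => pr_add a b y
  obtain ⟨g, hg⟩ := CF.exists_dominant X ((625 : ℤ) • l + (125 : ℤ) • q y₁ + (25 : ℤ) • q y₂ + (5 : ℤ) • q y₃ + q y₄)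
  have h4 : ∀ {y}, X.Rt y → ∀ j, pr X (X.act g (sr j)) y = pr X (X.act g⁻¹ y) (sr j) := fun {y} hy j => by
    rw [← pr_act g⁻¹ _ hy, a_inv]
    exact hS _ _ (isRoot_sr _ _ j) (rta _ hy)
  have h5 : ∀ j, 0 ≤ 625 * l (X.act g (sr j)) + 125 * pr X (X.act g⁻¹ y₁) (sr j) + 25 * pr X (X.act g⁻¹ y₂) (sr j) +
      5 * pr X (X.act g⁻¹ y₃) (sr j) + pr X (X.act g⁻¹ y₄) (sr j) := fun j => by
    rw [← h4 h₁, ← h4 h₂, ← h4 h₃, ← h4 h₄]
    exact hg j
  have h6 := fun {y} (hy : X.Rt y) j => bd2 hS (rta g⁻¹ hy) (isRoot_sr X.cs X.h j)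
  have h7 : ∀ j, 0 ≤ l (X.act g (sr j)) := fun j => by
    have := h5 j
    have := h6 h₁ j
    have := h6 h₂ j
    have := h6 h₃ j
    have := h6 h₄ j
    omega
  have h8 : ∀ a : X.I → ℤ, 0 ≤ a → (l (X.act g a) = 0 ↔ ∀ i, l (X.act g (sr i)) ≠ 0 → a i = 0) := fun a ha => by
    have e : l (X.act g a) = ∑ i, a i * l (X.act g (sr i)) := by
      conv_lhs => rw [X.eq_sum_sr a]
      simp only [Datum.act, map_sum, map_smul, map_zsmul, smul_eq_mul]
    rw [e, Finset.sum_eq_zero_iff_of_nonneg fun i _ => mul_nonneg (ha i) (h7 i)]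
    exact forall_congr' fun i => by rw [mul_eq_zero]; simp only [Finset.mem_univ, true_imp_iff]; tauto
  refine ⟨g⁻¹, Finset.univ.filter fun i => l (X.act g (sr i)) = 0, ⟨by rw [conj_pow, h3, mul_one, mul_inv_cancel], fun a ha => ?_⟩, fun j hj => ?_⟩
  · have e1 : a ∈ Nz X (g⁻¹ * w * g⁻¹⁻¹) ↔ l (X.act g a) = 0 := by
      refine (congrArg (· ∈ _) (a_inv g a)).to_iff.symm.trans ((nz_cj g⁻¹).trans ⟨fun e => ?_, fun e =>
        ⟨rta g ha, funext fun i => l2 _ (rta g ha) e i (Finset.mem_univ i)⟩⟩)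
      have e2 := congrArg l e.2
      rw [map_add, map_add, l1 (X.act w _), l1 (X.act g a), map_zero] at e2
      omega
    simp only [e1, Finset.mem_filter, Finset.mem_univ, true_and]
    refine ha.pos_or_neg.elim (h8 a) fun h0 => ?_
    simpa only [a_neg, map_neg, Pi.neg_apply, neg_eq_zero] using h8 (-a) (neg_nonneg.2 h0)
  · have := (Finset.mem_filter.1 hj).2
    have := h5 j
    have := h6 h₁ j
    have := h6 h₂ j
    have := h6 h₃ j
    have := h6 h₄ j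
    unfold Lex
    omega

end Cfsg.Agent.KM.Tor
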