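import Cfsg.Agent.KM.Tor.K6

/-!
# KM, `E₆`, elements of order three: coordinates and finite checks (helper89)
-/

set_option autoImplicit false
set_option maxHeartbeats 400000

namespace Cfsg.Agent.KM.Tor.LN6

open Cfsg Cfsg.Lie Cfsg.Agent.DL Cfsg.Agent.Nodes.Reps Matrix Finset Cfsg.Agent.KZ.DatX Cfsg.Agent.Nodes.RGDChev
  Cfsg.Agent.ChevalleyStructure.NPerm Cfsg.Agent.ChevalleyStructure.CoxeterGeom
  Cfsg.Agent.ChevalleyStructure.CoxeterGeomTypes Cfsg.Agent.Tits.Roots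

abbrev V := Fin 6 → ℤ

/-- the coroot map -/
def cc (a : V) : V := ![2 * a 0 - a 2, 2 * a 1 - a 3, 2 * a 2 - a 0 - a 3, 2 * a 3 - a 1 - a 2 - a 4, 2 * a 4 - a 3 - a 5,
  2 * a 5 - a 4]

/-- three times the inverse -/
def dd (v : V) : V := ![4 * v 0 + 3 * v 1 + 5 * v 2 + 6 * v 3 + 4 * v 4 + 2 * v 5,
  3 * v 0 + 6 * v 1 + 6 * v 2 + 9 * v 3 + 6 * v 4 + 3 * v 5, 5 * v 0 + 6 * v 1 + 10 * v 2 + 12 * v 3 + 8 * v 4 + 4 * v 5,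
  6 * v 0 + 9 * v 1 + 12 * v 2 + 18 * v 3 + 12 * v 4 + 6 * v 5, 4 * v 0 + 6 * v 1 + 8 * v 2 + 12 * v 3 + 10 * v 4 + 5 * v 5,
  2 * v 0 + 3 * v 1 + 4 * v 2 + 6 * v 3 + 5 * v 4 + 4 * v 5]

/-- the normal form on roots -/
def sg (a : V) : V := ![a 3 - a 2, a 1, a 0 - a 2 + a 3, a 3, a 3 - a 5, a 4 - a 5]

/-- the normal form on cocharacters -/
def wv (v : V) : V := ![-v 0 - v 2, v 1, v 0, v 2 + v 3 + v 4 + v 5, -v 4 - v 5, v 4]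

/-- the class in `P / Q` -/
def zz : V := ![1, 0, -1, 0, 1, -1]

/-- the highest root -/
def th : V := ![1, 2, 2, 3, 2, 1]

abbrev ro (s : Fin chevE6.nroots) : V := Cfsg.Agent.Nodes.RGDChev.vec chevE6 6 s

theorem dot6 (a v : V) : a ⬝ᵥ v = a 0 * v 0 + a 1 * v 1 + a 2 * v 2 + a 3 * v 3 + a 4 * v 4 + a 5 * v 5 := by
  simp only [dotProduct, Fin.sum_univ_six]

theorem ext6 {a b : V} (h0 : a 0 = b 0) (h1 : a 1 = b 1) (h2 : a 2 = b 2) (h3 : a 3 = b 3) (h4 : a 4 = b 4) (h5 : a 5 = b 5) :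
    a = b := by
  funext i
  fin_cases i
  exacts [h0, h1, h2, h3, h4, h5]

theorem cart : ∀ i j : Fin 6, cartanOf chevE6 6 i j = cc (sr i) j := by decide +kernel

theorem co_eq (a : V) : co chevE6 6 a = cc a := by
  funext j
  simp only [co, cart, Fin.sum_univ_six]
  fin_cases j <;> simp [cc, sr] <;> ring

theorem cc_dd (v : V) : cc (dd v) = (3 : ℤ) • v := by
  apply ext6 <;> simp [cc, dd] <;> ring

theorem cc_inj {a b : V} (h : cc a = cc b) : a = b := by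
  have h0 := congrFun h 0
  have h1 := congrFun h 1
  have h2 := congrFun h 2
  have h3 := congrFun h 3
  have h4 := congrFun h 4
  have h5 := congrFun h 5
  simp [cc] at h0 h1 h2 h3 h4 h5
  apply ext6 <;> omega

theorem cc_add (a b : V) : cc (a + b) = cc a + cc b := by
  apply ext6 <;> simp [cc] <;> ring

theorem cc_smul (n : ℤ) (a : V) : cc (n • a) = n • cc a := by
  apply ext6 <;> simp [cc] <;> ring

theorem cc_sub (a b : V) : cc (a - b) = cc a - cc b := by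
  apply ext6 <;> simp [cc] <;> ring

theorem inQ (v : V) : (∃ β, v = cc β) ↔ 3 ∣ zz ⬝ᵥ v := by
  rw [dot6]
  constructor
  · rintro ⟨β, rfl⟩
    simp [cc, zz]
    omega
  · rintro ⟨t, h⟩
    simp [zz] at h
    refine ⟨![t + v 0 + v 1 + 2 * v 2 + 2 * v 3 + v 4 + v 5, v 0 + 2 * v 1 + 2 * v 2 + 3 * v 3 + 2 * v 4 + v 5,
      -t + 2 * v 0 + 2 * v 1 + 3 * v 2 + 4 * v 3 + 3 * v 4 + v 5, 2 * v 0 + 3 * v 1 + 4 * v 2 + 6 * v 3 + 4 * v 4 + 2 * v 5,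
      t + v 0 + 2 * v 1 + 3 * v 2 + 4 * v 3 + 3 * v 4 + 2 * v 5, -t + v 0 + v 1 + v 2 + 2 * v 3 + 2 * v 4 + v 5], ?_⟩
    apply ext6 <;> simp [cc] <;> omega

theorem dd_dot (v u : V) : 3 ∣ dd v ⬝ᵥ u - zz ⬝ᵥ v * zz ⬝ᵥ u := by
  refine ⟨v 0 * (u 0 + u 1 + 2 * u 2 + 2 * u 3 + u 4 + u 5) + v 1 * (u 0 + 2 * u 1 + 2 * u 2 + 3 * u 3 + 2 * u 4 + u 5) +
    v 2 * (2 * u 0 + 2 * u 1 + 3 * u 2 + 4 * u 3 + 3 * u 4 + u 5) + v 3 * (2 * u 0 + 3 * u 1 + 4 * u 2 + 6 * u 3 + 4 * u 4 + 2 * u 5) +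
    v 4 * (u 0 + 2 * u 1 + 3 * u 2 + 4 * u 3 + 3 * u 4 + 2 * u 5) + v 5 * (u 0 + u 1 + u 2 + 2 * u 3 + 2 * u 4 + u 5), ?_⟩
  rw [dot6, dot6, dot6]
  simp [dd, zz]
  ring

/-! ### finite checks -/

theorem con : ∀ s t : Fin chevE6.nroots, ∃ u : Fin chevE6.nroots, ro s ⬝ᵥ cc (ro u) ≠ 0 ∧ ro t ⬝ᵥ cc (ro u) ≠ 0 := by
  decide +kernel

theorem img0 : ∀ s : Fin chevE6.nroots, ro s 1 = 0 ∧ ro s 3 = 0 → sr 0 ⬝ᵥ cc (ro s) = -1 → ro s = sr 2 ∨ ro s = -sr 0 - sr 2 := by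
  decide +kernel

theorem img4 : ∀ s : Fin chevE6.nroots, ro s 1 = 0 ∧ ro s 3 = 0 → sr 4 ⬝ᵥ cc (ro s) = -1 → ro s = sr 5 ∨ ro s = -sr 4 - sr 5 := by
  decide +kernel

theorem six : #{s : Fin chevE6.nroots | sg (ro s) = ro s} = 6 := by decide +kernel

theorem th_rt : ∃ s : Fin chevE6.nroots, ro s = th := by decide +kernel

theorem fix0 : ∀ s : Fin chevE6.nroots, sg (ro s) = ro s → sr 0 ⬝ᵥ cc (ro s) = 0 := by decide +kernel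

theorem lines : ∀ s : Fin chevE6.nroots, ro s 1 = 0 ∧ ro s 3 = 0 → ∀ t : Fin chevE6.nroots, ro t 1 = 0 ∧ ro t 3 = 0 →
    ro s ⬝ᵥ cc (ro t) = 0 → ro s ⬝ᵥ cc (sg (ro t)) = 0 → (∀ i, 3 ∣ (ro s - sg (ro s) + ro t - sg (ro t) - zz) i) →
    ∃ i j : Fin 3, (ro s = sg^[i] (sr 0) ∧ ro t = sg^[j] (sr 4)) ∨ (ro s = sg^[i] (sr 4) ∧ ro t = sg^[j] (sr 0) ∧
      ∀ k, 3 ∣ (ro s - sg (ro s) - (ro t - sg (ro t)) + (sr 1 + th) : V) k) := by decide +kernel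

theorem det2 : ∀ s : Fin chevE6.nroots, sg (ro s) ≠ ro s → ¬ (ro s 1 = 0 ∧ ro s 3 = 0) →
    ro s ⬝ᵥ cc (sr 4) * sg (ro s) ⬝ᵥ cc (sr 5) - ro s ⬝ᵥ cc (sr 5) * sg (ro s) ⬝ᵥ cc (sr 4) ≠ 0 := by decide +kernel

theorem sh3 : ∀ s : Fin chevE6.nroots, sg (ro s) = ro s →
    cc (ro s) 0 = 0 ∧ cc (ro s) 2 = 0 ∧ cc (ro s) 4 = 0 ∧ cc (ro s) 5 = 0 := by decide +kernel

/-- the determinant of `m φ - 1` on the fixed lattice; `a`, `b` are the images of `α₁`, `θ` -/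
def d1 (m : ℤ) (a b : V) : ℤ := (m * cc b 1 - 1) * (m * (2 * cc b 3 - cc a 3) - 1) - m * (2 * cc b 1 - cc a 1) * (m * cc b 3)

def d2 (m : ℤ) (a b c : V) : ℤ := c 1 * (m * (2 * cc b 1 - cc a 1)) - c 3 * (m * cc b 1 - 1)

def d3 (m : ℤ) (a b c : V) : ℤ := c 1 * (m * (2 * cc b 3 - cc a 3) - 1) - c 3 * (m * cc b 3)

theorem nine1 : ∀ s : Fin chevE6.nroots, sg (ro s) = ro s → ∀ t : Fin chevE6.nroots, sg (ro t) = ro t →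
    ro s ⬝ᵥ cc (ro t) = 1 → (∀ k, 3 ∣ (ro s + ro t + (sr 1 + th) : V) k) →
    ¬ 9 ∣ d1 4 (ro s) (ro t) ∧ ¬ 9 ∣ d1 7 (ro s) (ro t) := by decide +kernel

theorem nine2 : ∀ s : Fin chevE6.nroots, sg (ro s) = ro s → ∀ t : Fin chevE6.nroots, sg (ro t) = ro t →
    ro s ⬝ᵥ cc (ro t) = 1 → ∀ u : Fin chevE6.nroots, sg (ro u) ≠ ro u → ¬ (ro u 1 = 0 ∧ ro u 3 = 0) →
    (¬ 9 ∣ d2 4 (ro s) (ro t) (ro u) ∨ ¬ 9 ∣ d3 4 (ro s) (ro t) (ro u)) ∧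
      (¬ 9 ∣ d2 7 (ro s) (ro t) (ro u) ∨ ¬ 9 ∣ d3 7 (ro s) (ro t) (ro u)) := by decide +kernel

/-! ### two linear forms -/

theorem three_mul {d x : ℤ} (hd : ¬ 9 ∣ d) {j : ℕ} (h : 3 ^ j ∣ d * x) : 3 ^ j ∣ 3 * x := by
  by_cases h3 : 3 ∣ d
  · obtain ⟨e, rfl⟩ := h3
    have h4 : IsCoprime ((3 : ℤ) ^ j) e :=
      (Int.prime_three.coprime_iff_not_dvd.2 fun ⟨f, hf⟩ => hd ⟨f, by rw [hf]; ring⟩).pow_left
    exact h4.dvd_of_dvd_mul_left (by rwa [mul_left_comm, ← mul_assoc])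
  · exact (((Int.prime_three.coprime_iff_not_dvd.2 h3).pow_left).dvd_of_dvd_mul_left h).mul_left 3

theorem line {a b S T : ℤ} (h : ¬ (3 ∣ a ∧ 3 ∣ b)) (h1 : 3 ∣ a * S + b * T) :
    ∃ n s t, S = n * -b + 3 * s ∧ T = n * a + 3 * t := by
  have key : ∀ a b S T : ZMod 3, ¬ (a = 0 ∧ b = 0) → a * S + b * T = 0 → ∃ n, S - n * -b = 0 ∧ T - n * a = 0 := by decide
  obtain ⟨n, h2, h3⟩ := key a b S T (fun k => h
    ⟨(ZMod.intCast_zmod_eq_zero_iff_dvd a 3).1 k.1, (ZMod.intCast_zmod_eq_zero_iff_dvd b 3).1 k.2⟩)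
    (by exact_mod_cast (ZMod.intCast_zmod_eq_zero_iff_dvd _ 3).2 h1)
  obtain ⟨n, rfl⟩ := ZMod.intCast_surjective n
  obtain ⟨s, hs⟩ := (ZMod.intCast_zmod_eq_zero_iff_dvd (S - n * -b) 3).1 (by exact_mod_cast h2)
  obtain ⟨t, ht⟩ := (ZMod.intCast_zmod_eq_zero_iff_dvd (T - n * a) 3).1 (by exact_mod_cast h3)
  exact ⟨n, s, t, by push_cast at hs; linear_combination hs, by push_cast at ht; linear_combination ht⟩

theorem forms {a b c d : ℤ} (h : ¬ 9 ∣ a * d - b * c) : ∃ x y : ℤ, ∀ (j : ℕ) (s t : ℤ), 3 ^ j ∣ a * s + b * t →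
    3 ^ j ∣ c * s + d * t → ∃ n s' t' : ℤ, 3 * s = 3 ^ j * (n * x + 3 * s') ∧ 3 * t = 3 ^ j * (n * y + 3 * t') := by
  have key : ∀ (j : ℕ) (s t : ℤ), 3 ^ j ∣ a * s + b * t → 3 ^ j ∣ c * s + d * t → ∃ S T : ℤ, 3 * s = 3 ^ j * S ∧
      3 * t = 3 ^ j * T ∧ 3 ∣ a * S + b * T ∧ 3 ∣ c * S + d * T := by
    rintro j s t ⟨e, h1⟩ ⟨f, h2⟩
    obtain ⟨S, hS⟩ := three_mul h (j := j) (x := s) ⟨d * e - b * f, by linear_combination d * h1 - b * h2⟩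
    obtain ⟨T, hT⟩ := three_mul h (j := j) (x := t) ⟨a * f - c * e, by linear_combination a * h2 - c * h1⟩
    have h0 : (3 : ℤ) ^ j ≠ 0 := by positivity
    exact ⟨S, T, hS, hT, ⟨e, mul_left_cancel₀ h0 (by linear_combination 3 * h1 - a * hS - b * hT)⟩,
      ⟨f, mul_left_cancel₀ h0 (by linear_combination 3 * h2 - c * hS - d * hT)⟩⟩
  by_cases h1 : 3 ∣ a ∧ 3 ∣ b
  · have h2 : ¬ (3 ∣ c ∧ 3 ∣ d) := fun h2 =>
      h (dvd_sub (mul_dvd_mul h1.1 h2.2) (mul_dvd_mul h1.2 h2.1))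
    refine ⟨-d, c, fun j s t e f => ?_⟩
    obtain ⟨S, T, h3, h4, -, h5⟩ := key j s t e f
    obtain ⟨n, s', t', rfl, rfl⟩ := line h2 h5
    exact ⟨n, s', t', h3, h4⟩
  · refine ⟨-b, a, fun j s t e f => ?_⟩
    obtain ⟨S, T, h3, h4, h5, -⟩ := key j s t e f
    obtain ⟨n, s', t', rfl, rfl⟩ := line h1 h5
    exact ⟨n, s', t', h3, h4⟩

theorem mod9 {m : ℤ} (h1 : 3 ∣ m - 1) (h2 : ¬ 9 ∣ m - 1) : ∃ q, m = 4 + 9 * q ∨ m = 7 + 9 * q := ⟨m / 9, by omega⟩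

theorem d1_mod (m q : ℤ) (a b : V) : 9 ∣ d1 (m + 9 * q) a b - d1 m a b :=
  ⟨q * ((2 * m + 9 * q) * (cc b 1 * (2 * cc b 3 - cc a 3) - (2 * cc b 1 - cc a 1) * cc b 3) -
    (cc b 1 + (2 * cc b 3 - cc a 3))), by unfold d1; ring⟩

theorem d2_mod (m q : ℤ) (a b c : V) : 9 ∣ d2 (m + 9 * q) a b c - d2 m a b c :=
  ⟨q * (c 1 * (2 * cc b 1 - cc a 1) - c 3 * cc b 1), by unfold d2; ring⟩

theorem d3_mod (m q : ℤ) (a b c : V) : 9 ∣ d3 (m + 9 * q) a b c - d3 m a b c :=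
  ⟨q * (c 1 * (2 * cc b 3 - cc a 3) - c 3 * cc b 3), by unfold d3; ring⟩

end Cfsg.Agent.KM.Tor.LN6
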