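import Cfsg.Agent.KM.Tor.Cnt

/-!
# KM, counting contributions: traces from cyclotomic fields of prime power order (helper29)

`tr_le` : a totally positive element of `p * P` (`P` the prime over `p`) has average at least `p ^ 2 / (p - 1)`.
-/

set_option autoImplicit false
set_option linter.unusedSectionVars false

namespace Cfsg.Agent.KM.Tor

open Cfsg Polynomial Cfsg.Agent.H658 Cfsg.Agent.H613.RegGram Cfsg.Agent.Blocks Cfsg.Agent.Blocks.LocalRing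
open scoped IntermediateField

variable {p : ℕ} [Fact p.Prime] {M : Ideal AlgInt}

/-- local integers which are integral away from `p` -/
def Rp (hM : IsPModular p M) : Subring ℂ := locRing hM ⊓
  { carrier := {c | ∃ N : ℕ, IsIntegral ℤ ((p : ℂ) ^ N * c)}
    zero_mem' := ⟨0, by rw [mul_zero]; exact isIntegral_zero⟩
    one_mem' := ⟨0, by rw [pow_zero, mul_one]; exact isIntegral_one⟩
    add_mem' := by
      rintro a b ⟨i, hi⟩ ⟨j, hj⟩
      refine ⟨i + j, ?_⟩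
      rw [show (p : ℂ) ^ (i + j) * (a + b) = ((p ^ j : ℕ) : ℂ) * (p ^ i * a) + ((p ^ i : ℕ) : ℂ) * (p ^ j * b) by push_cast; ring]
      exact ((isIntegral_natCast _).mul hi).add ((isIntegral_natCast _).mul hj)
    mul_mem' := by
      rintro a b ⟨i, hi⟩ ⟨j, hj⟩
      refine ⟨i + j, ?_⟩
      rw [pow_add, mul_mul_mul_comm]
      exact hi.mul hj
    neg_mem' := by
      rintro a ⟨i, hi⟩
      exact ⟨i, by rw [mul_neg]; exact hi.neg⟩ }

theorem int_of_rat {q : ℚ} (h : IsIntegral ℤ (q : ℂ)) : ∃ k : ℤ, (k : ℚ) = q :=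
  IsIntegrallyClosed.isIntegral_iff.1 ((isIntegral_algebraMap_iff (algebraMap ℚ ℂ).injective).1 h)

theorem int_of_Rp (hM : IsPModular p M) {q : ℚ} (h : (q : ℂ) ∈ Rp hM) : ∃ k : ℤ, (k : ℚ) = q := by
  obtain ⟨h1, N, h2⟩ := h
  have hp : (p : ℚ) ^ N ≠ 0 := pow_ne_zero _ (Nat.cast_ne_zero.2 hM.1.ne_zero)
  obtain ⟨k, hk⟩ := int_of_rat (q := (p : ℚ) ^ N * q) (by push_cast; exact h2)
  obtain ⟨j, rfl⟩ := pow_dvd_of_memLocalRing hM N (k := k) (by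
    rw [show (k : ℂ) / (p : ℂ) ^ N = (q : ℂ) by
      rw [show q = k / (p : ℚ) ^ N by rw [hk, mul_div_cancel_left₀ _ hp]]; push_cast; rfl]
    exact h1)
  exact ⟨j, mul_left_cancel₀ hp (by rw [← hk]; push_cast; rfl)⟩

theorem isIntegral_of_conj (hM : IsPModular p M) {x : ℂ} (hx : IsIntegral ℚ x) (h : ∀ w, IsConjRoot ℚ x w → w ∈ Rp hM) :
    IsIntegral ℤ x := by
  have h1 := (IsAlgClosed.splits ((minpoly ℚ x).map (algebraMap ℚ ℂ))).mem_lift_of_roots_mem_range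
    ((minpoly.monic hx).map _) (Rp hM).subtype fun w hw => ⟨⟨w, h w (isConjRoot_iff_mem_minpoly_aroots hx |>.2 hw)⟩, rfl⟩
  rw [lifts_iff_coeff_lifts] at h1
  obtain ⟨Q, h2, -, h3⟩ := lifts_and_degree_eq_and_monic (f := algebraMap ℤ ℚ) ((lifts_iff_coeff_lifts _).2 fun n => by
    obtain ⟨y, hy⟩ := h1 n
    rw [coeff_map] at hy
    exact int_of_Rp hM (show algebraMap ℚ ℂ _ ∈ _ from hy ▸ y.2)) (minpoly.monic hx)
  refine ⟨Q, h3, ?_⟩
  rw [IsScalarTower.algebraMap_eq ℤ ℚ ℂ, ← eval₂_map, h2]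
  exact minpoly.aeval ℚ x

theorem geo {w : ℂ} {N : ℕ} (h : w ^ N = 1) : ∃ z : ℤ, ∑ i ∈ Finset.range N, w ^ i = N * z := by
  by_cases e : w = 1
  · exact ⟨1, by simp [e]⟩
  · exact ⟨0, by rw [geom_sum_eq e, h]; simp⟩

theorem ram {w : ℂ} {k : ℕ} (h : w ^ p ^ (k + 1) = 1) :
    ∃ z : ℤ, ∑ u : (ZMod (p ^ (k + 1)))ˣ, w ^ (u : ZMod (p ^ (k + 1))).val = (p : ℂ) ^ k * z := by
  have hp : p.Prime := Fact.out
  obtain ⟨a, ha⟩ := geo h
  obtain ⟨b, hb⟩ := geo (w := w ^ p) (N := p ^ k) (by rw [← pow_mul, ← pow_succ', h])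
  have h1 : ∑ u : (ZMod (p ^ (k + 1)))ˣ, w ^ (u : ZMod (p ^ (k + 1))).val =
      ∑ i ∈ (Finset.range (p ^ (k + 1))).filter fun i => ¬ p ∣ i, w ^ i :=
    Finset.sum_bij (fun u _ => (u : ZMod (p ^ (k + 1))).val) (fun u _ => Finset.mem_filter.2 ⟨Finset.mem_range.2 (ZMod.val_lt _),
      hp.coprime_iff_not_dvd.1 ((Nat.coprime_pow_right_iff k.succ_pos _ _).1 (ZMod.val_coe_unit_coprime u)).symm⟩)
      (fun u _ v _ e => Units.ext (ZMod.val_injective _ e)) (fun i hi => ⟨ZMod.unitOfCoprime i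
        ((hp.coprime_iff_not_dvd.2 (Finset.mem_filter.1 hi).2).symm.pow_right _), Finset.mem_univ _,
        ZMod.val_cast_of_lt (Finset.mem_range.1 (Finset.mem_filter.1 hi).1)⟩) fun _ _ => rfl
  have h2 : ∑ i ∈ Finset.range (p ^ k), (w ^ p) ^ i = ∑ i ∈ (Finset.range (p ^ (k + 1))).filter fun i => p ∣ i, w ^ i :=
    Finset.sum_bij (fun i _ => p * i) (fun i hi => Finset.mem_filter.2 ⟨Finset.mem_range.2 (by
      rw [pow_succ']; exact Nat.mul_lt_mul_of_pos_left (Finset.mem_range.1 hi) hp.pos), dvd_mul_right _ _⟩)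
      (fun i _ j _ e => Nat.eq_of_mul_eq_mul_left hp.pos e) (fun i hi => by
        obtain ⟨h3, j, rfl⟩ := Finset.mem_filter.1 hi
        rw [Finset.mem_range, pow_succ'] at h3
        exact ⟨j, Finset.mem_range.2 (Nat.lt_of_mul_lt_mul_left h3), rfl⟩) fun _ _ => (pow_mul _ _ _).symm
  refine ⟨p * a - b, ?_⟩
  rw [← Finset.sum_filter_add_sum_filter_not _ fun i => p ∣ i, ← h1, ← h2, hb] at ha
  push_cast at ha ⊢
  linear_combination ha

theorem pow_unit {A : Type*} [Monoid A] {g : A} {n : ℕ} [NeZero n] (h : g ^ n = 1) (u : (ZMod n)ˣ) {m : ℕ} (hm : m.Coprime n) :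
    g ^ ((u * ZMod.unitOfCoprime m hm : (ZMod n)ˣ) : ZMod n).val = (g ^ (u : ZMod n).val) ^ m := by
  rw [Units.val_mul, ZMod.val_mul, ← pow_eq_pow_mod _ h, ZMod.coe_unitOfCoprime, ZMod.val_natCast, pow_mul,
    ← pow_eq_pow_mod _ (by rw [← pow_mul, mul_comm, pow_mul, h, one_pow])]

theorem exists_aeval {L : Type*} [Field L] [CharZero L] [IsGalois ℚ L] {k : ℕ} {ζ c : L} (hζ : IsPrimitiveRoot ζ (p ^ k))
    (hc : IsIntegral ℤ c) (h : ∀ τ : L ≃ₐ[ℚ] L, τ ζ = ζ → τ c = c) : ∃ Q : ℤ[X], aeval ζ Q = c := by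
  have h1 : c ∈ ℚ⟮ζ⟯ := by
    rw [← InfiniteGalois.fixedField_fixingSubgroup ℚ⟮ζ⟯, IntermediateField.mem_fixedField_iff]
    exact fun τ hτ => h τ ((IntermediateField.mem_fixingSubgroup_iff _ _).1 hτ _ (IntermediateField.mem_adjoin_simple_self ℚ ζ))
  have : @IsCyclotomicExtension {p ^ k} ℚ ℚ⟮ζ⟯ _ _ DivisionRing.toRatAlgebra := by
    rw [Subsingleton.elim DivisionRing.toRatAlgebra ℚ⟮ζ⟯.algebra']
    exact hζ.intermediateField_adjoin_isCyclotomicExtension ℚ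
  have h2 : IsPrimitiveRoot (⟨ζ, IntermediateField.mem_adjoin_simple_self ℚ ζ⟩ : ℚ⟮ζ⟯) (p ^ k) :=
    IsPrimitiveRoot.coe_submonoidClass_iff.1 hζ
  let φ : ℚ⟮ζ⟯ →ₐ[ℤ] L := (ℚ⟮ζ⟯).subtype.toIntAlgHom
  obtain ⟨y, hy⟩ := (IsCyclotomicExtension.Rat.isIntegralClosure_adjoin_singleton_of_prime_pow h2).isIntegral_iff.1
    ((isIntegral_algHom_iff φ Subtype.val_injective (x := ⟨c, h1⟩)).1 hc)
  obtain ⟨Q, hQ⟩ := (Algebra.adjoin_singleton_eq_range_aeval ℤ _).le y.2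
  have h3 := (aeval_algHom_apply φ ⟨ζ, IntermediateField.mem_adjoin_simple_self ℚ ζ⟩ Q).trans (congrArg φ (hQ.trans hy))
  exact ⟨Q, h3⟩

theorem alg_clos (F E : Type*) [Field F] [Field E] [CharZero F] [Algebra F E] [IsAlgClosed E] :
    IsAlgClosed (algebraicClosure F E) ∧ IsGalois F (algebraicClosure F E) :=
  ⟨IsAlgClosure.isAlgClosed F, inferInstance⟩

/-- the Galois orbit of an integer of the cyclotomic field -/
theorem exists_poly {k : ℕ} (x : (ZMod (p ^ k))ˣ → ℂ) (hint : IsIntegral ℤ (x 1))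
    (hσ : ∀ (σ : algebraicClosure ℚ ℂ →+* ℂ) (m : ℕ) (hm : m.Coprime (p ^ k)),
      (∀ t : algebraicClosure ℚ ℂ, t ^ p ^ k = 1 → σ t = (t : ℂ) ^ m) →
      ∀ c : algebraicClosure ℚ ℂ, (c : ℂ) = x 1 → σ c = x (ZMod.unitOfCoprime m hm)) :
    ∃ (ζ : ℂ) (Q : ℤ[X]), ζ ^ p ^ k = 1 ∧ ∀ u, x u = aeval (ζ ^ (u : ZMod (p ^ k)).val) Q := by
  have hn : p ^ k ≠ 0 := NeZero.ne _
  have := (alg_clos ℚ ℂ).1
  have : @IsGalois ℚ _ (algebraicClosure ℚ ℂ) _ DivisionRing.toRatAlgebra := by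
    convert (alg_clos ℚ ℂ).2
    exact Subsingleton.elim _ _
  have : NeZero ((p ^ k : ℕ) : algebraicClosure ℚ ℂ) := ⟨Nat.cast_ne_zero.2 hn⟩
  obtain ⟨ζ, hζ⟩ := HasEnoughRootsOfUnity.exists_primitiveRoot (algebraicClosure ℚ ℂ) (p ^ k)
  let φ : algebraicClosure ℚ ℂ →+* ℂ := (algebraicClosure ℚ ℂ).subtype
  have hζ' : IsPrimitiveRoot (ζ : ℂ) (p ^ k) := hζ.map_of_injective φ.injective
  obtain ⟨c, hc⟩ : ∃ c : algebraicClosure ℚ ℂ, (c : ℂ) = x 1 := ⟨⟨_, mem_algebraicClosure_iff'.2 hint.tower_top⟩, rfl⟩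
  obtain ⟨Q, h3⟩ := exists_aeval hζ ((isIntegral_algHom_iff φ.toIntAlgHom φ.injective (x := c)).1 (hc ▸ hint :)) fun τ hτ => by
    have h2 := hσ (φ.comp τ.toRingEquiv.toRingHom) 1 (Nat.coprime_one_left _) (fun t ht => by
      obtain ⟨i, -, rfl⟩ := hζ.eq_pow_of_pow_eq_one ht
      exact (congrArg φ ((map_pow τ ζ i).trans (congrArg (· ^ i) hτ))).trans (pow_one _).symm) c hc
    rw [show ZMod.unitOfCoprime 1 (Nat.coprime_one_left (p ^ k)) = 1 from Units.ext Nat.cast_one, ← hc] at h2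
    exact Subtype.ext h2
  refine ⟨ζ, Q, hζ'.pow_eq_one, fun u => ?_⟩
  obtain ⟨σ, h4, m, hm, h5⟩ := GaloisConj.exists_embedding hn (hζ'.isIntegral (Nat.pos_of_ne_zero hn)).tower_top
    (w := (ζ : ℂ) ^ (u : ZMod (p ^ k)).val) (by
      rw [isConjRoot_def, ← cyclotomic_eq_minpoly_rat hζ' (Nat.pos_of_ne_zero hn), ← cyclotomic_eq_minpoly_rat
        (hζ'.pow_of_coprime _ (ZMod.val_coe_unit_coprime u)) (Nat.pos_of_ne_zero hn)])
  have h6 : ZMod.unitOfCoprime m hm = u := Units.ext (ZMod.val_injective _ (hζ'.pow_inj (ZMod.val_lt _) (ZMod.val_lt _) (by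
    rw [ZMod.coe_unitOfCoprime, ZMod.val_natCast, ← pow_eq_pow_mod _ hζ'.pow_eq_one, ← h5 ζ hζ.pow_eq_one, h4 ζ rfl])))
  rw [← h6, ← hσ σ m hm h5 c hc, h6, ← h4 ζ rfl, ← h3]
  exact (aeval_algHom_apply σ.toIntAlgHom ζ Q).symm

/-- **the trace bound** -/
theorem tr_le (hM : IsPModular p M) {k : ℕ} (a : (ZMod (p ^ (k + 1)))ˣ → ℝ) (ha : ∀ i, 0 < a i)
    (hint : ∀ i, IsIntegral ℤ (a i : ℂ))
    (hσ : ∀ (σ : algebraicClosure ℚ ℂ →+* ℂ) (m : ℕ) (hm : m.Coprime (p ^ (k + 1))),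
      (∀ t : algebraicClosure ℚ ℂ, t ^ p ^ (k + 1) = 1 → σ t = (t : ℂ) ^ m) →
      ∀ i, ∀ c : algebraicClosure ℚ ℂ, (c : ℂ) = a i → σ c = a (i * ZMod.unitOfCoprime m hm))
    (hs : ∀ i, MemLocalIdeal M ((a i : ℂ) / p)) : (p : ℝ) ^ (k + 2) ≤ ∑ i, a i := by
  have hp : p.Prime := Fact.out
  have hn : p ^ (k + 1) ≠ 0 := NeZero.ne _
  have hp0 : (p : ℂ) ≠ 0 := Nat.cast_ne_zero.2 hp.ne_zero
  have hpr : (0 : ℝ) < p := Nat.cast_pos.2 hp.pos
  have h1 : ∀ (σ : algebraicClosure ℚ ℂ →+* ℂ) (m : ℕ) (hm : m.Coprime (p ^ (k + 1))),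
      (∀ t : algebraicClosure ℚ ℂ, t ^ p ^ (k + 1) = 1 → σ t = (t : ℂ) ^ m) →
      ∀ i, ∀ c : algebraicClosure ℚ ℂ, (c : ℂ) = a i / p → σ c = a (i * ZMod.unitOfCoprime m hm) / p := fun σ m hm h i c hc => by
    rw [← hσ σ m hm h i (p * c) (by push_cast; rw [hc, mul_div_cancel₀ _ hp0]), map_mul, map_natCast, mul_div_cancel_left₀ _ hp0]
  have h2 : ∀ i, IsIntegral ℚ ((a i : ℂ) / p) := fun i => by
    rw [div_eq_mul_inv, ← map_natCast (algebraMap ℚ ℂ), ← map_inv₀]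
    exact (hint i).tower_top.mul isIntegral_algebraMap
  have h3 : ∀ i, IsIntegral ℤ ((a i : ℂ) / p) := fun i => isIntegral_of_conj hM (h2 i) fun w hw => by
    obtain ⟨σ, h4, m, hm, h5⟩ := GaloisConj.exists_embedding hn (h2 i) hw
    rw [← h4 ⟨_, mem_algebraicClosure_iff'.2 (h2 i)⟩ rfl, h1 σ m hm h5 i _ rfl]
    exact ⟨memLocalIdeal_memLocalRing (hs _), 1, by rw [pow_one, mul_div_cancel₀ _ hp0]; exact hint _⟩
  obtain ⟨ζ, Q, hζ, hQ⟩ := exists_poly (fun u => (a u : ℂ) / p) (h3 1) fun σ m hm h c hc => by rw [h1 σ m hm h 1 c hc, one_mul]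
  choose z hz using fun i : ℕ => ram (w := ζ ^ i) (k := k) (by rw [← pow_mul, mul_comm, pow_mul, hζ, one_pow])
  obtain ⟨t, ht⟩ : ∃ t : ℤ, ∑ i, a i / p = (p : ℝ) ^ k * t := ⟨∑ i ∈ Finset.range (Q.natDegree + 1), Q.coeff i * z i, by
    apply Complex.ofReal_injective
    push_cast
    rw [Finset.sum_congr rfl fun u _ => (hQ u).trans (aeval_eq_sum_range _), Finset.sum_comm, Finset.mul_sum]
    refine Finset.sum_congr rfl fun i _ => ?_
    rw [mul_left_comm, ← hz, Finset.mul_sum]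
    exact Finset.sum_congr rfl fun u _ => by rw [zsmul_eq_mul, ← pow_mul, ← pow_mul, mul_comm i]⟩
  have hP : IsIntegral ℤ (∏ i, (a i : ℂ) / p) := IsIntegral.prod _ fun i _ => h3 i
  obtain ⟨q, hq⟩ := exists_rat_of_forall hn hP.tower_top fun σ m hm h c hc => by
    rw [show c = ∏ i, (⟨(a i : ℂ) / p, mem_algebraicClosure_iff'.2 (h2 i)⟩ : algebraicClosure ℚ ℂ) from
      Subtype.ext (by rw [hc]; push_cast; rfl), map_prod, Finset.prod_congr rfl fun i _ => h1 σ m hm h i _ rfl]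
    exact Equiv.prod_comp (Equiv.mulRight (ZMod.unitOfCoprime m hm)) fun i => (a i : ℂ) / p
  obtain ⟨j, rfl⟩ := int_of_rat (hq ▸ hP)
  rw [Rat.cast_intCast] at hq
  have h4 : (j : ℝ) = ∏ i, a i / p := by exact_mod_cast hq
  have h5 : (p : ℤ) ≤ j := Int.le_of_dvd (by
    exact_mod_cast (show (0 : ℝ) < j from h4 ▸ Finset.prod_pos fun i _ => div_pos (ha i) hpr))
    ((memLocalIdeal_intCast_iff hM j).1 (hq ▸ (memLocalIdeal_prod_iff hM _ _ fun i _ => memLocalIdeal_memLocalRing (hs i)).2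
      ⟨1, Finset.mem_univ _, hs 1⟩))
  have h6 : 0 < ∑ i, Real.log (a i / p) := by
    rw [← Real.log_prod fun i _ => (div_pos (ha i) hpr).ne', ← h4]
    exact Real.log_pos (by exact_mod_cast lt_of_lt_of_le (Nat.one_lt_cast.2 hp.one_lt) h5)
  have h7 := h6.trans_le (Finset.sum_le_sum fun i _ => Real.log_le_sub_one_of_pos (div_pos (ha i) hpr))
  rw [Finset.sum_sub_distrib, Finset.sum_const, Finset.card_univ, ZMod.card_units_eq_totient, Nat.totient_prime_pow_succ hp,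
    nsmul_eq_mul, mul_one, ht, Nat.cast_mul, Nat.cast_pow, ← mul_sub, mul_pos_iff_of_pos_left (pow_pos hpr _), sub_pos] at h7
  have h8 : (p : ℤ) ≤ t := by
    have h9 : ((p - 1 : ℕ) : ℤ) < t := by exact_mod_cast h7
    have := hp.pos
    omega
  rw [← Finset.sum_div, div_eq_iff hpr.ne'] at ht
  rw [ht, pow_succ, pow_succ]
  have h9 : (p : ℝ) ≤ t := by exact_mod_cast h8
  gcongr

end Cfsg.Agent.KM.Tor
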