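import Cfsg.Agent.KM.Tor.Bad2
import Cfsg.Agent.KM.Tor.One

/-!
# KM, `l = 3` : the frame of a maximal toral subgroup (helper13)

`exists_wa`, `Wa.ker`, `Wa.y_mem`, `Wa.mx`, `Wa.Fw`, `Wa.ad3`.
-/

set_option autoImplicit false
set_option linter.unusedSectionVars false

namespace Cfsg.Agent.KM.Tor

open Cfsg Cfsg.Lie Cfsg.Agent.DL Cfsg.Agent.Nodes.Reps Cfsg.Agent.Nodes.BNOf Matrix Subgroup Cfsg.Agent.KM.Ht
open Cfsg.Agent.ChevalleyStructure.CoxeterGeom Cfsg.Agent.Tits.Roots Cfsg.Agent.DL.Base Cfsg.Agent.Nodes.SubComb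
open Cfsg.Agent.TO.X.Cn (Pi1 cl ppr_ord)
open Cfsg.Agent.DL.CF (act_mul act_one)

variable {p : ℕ} [Fact p.Prime] {k : Type} [Field k] [CharP k p] {Y : Type} [Group Y] {N : Type} [Fintype N]
  [DecidableEq N] {ρ : Y →* GL N k} {F : MulAut Y} {G : Subgroup Y} [IsAlgClosed k] {X : Datum p ρ F G}

section chamber

attribute [local instance] fintypeSmp decSmp

variable {Z : Set Y} (hZ : Z ⊆ X.T) (hF : ∀ a ∈ X.Sz Z, X.g a ∈ X.Sz Z)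
include hZ hF

theorem chamber (w : X.W) : ∃ v, ∃ m ∈ X.cen Z, X.Rp v m ∧ ∀ b ∈ X.Sz Z, 0 ≤ X.act w⁻¹ b → 0 ≤ X.act v⁻¹ b := by
  obtain ⟨v, hv⟩ := X.exists_sub_chamber hZ hF rfl w
  obtain ⟨m, hm⟩ := Nodes.Reps.exists_rp _ (X.sub hZ hF rfl).nsys v
  refine ⟨_, m, Datum.Rp.mem_G hm, X.rp_of_sub hZ hF rfl hm, fun b hb h => ?_⟩
  obtain ⟨c, hc, e⟩ := hv.subset ⟨⟨_, ⟨hb.1.act w⁻¹, h⟩, rep_apply_inv ..⟩, hb⟩
  rw [← e, ← act_mul, inv_mul_cancel, act_one]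
  exact hc.1.2

theorem eq_one_of_pos {u : X.W} {m : Y} (hm : X.Rp u m) (hc : m ∈ X.cen Z) (h : ∀ a ∈ X.Sz Z, 0 ≤ a → 0 ≤ X.act u a) :
    u = 1 := by
  obtain ⟨v, hv⟩ : m ∈ (X.sub hZ hF rfl).NN := by
    rw [Datum.sub_NN]
    exact ⟨⟨u, hm⟩, hc⟩
  have h1 := X.rp_unique hm (X.rp_of_sub hZ hF rfl hv)
  have h3 : v = 1 := eq_one_of_nonneg _ (X.sub hZ hF rfl).h _ fun i => by
    have hi := isRoot_sr (X.sub hZ hF rfl).cs (X.sub hZ hF rfl).h i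
    have h2 := h _ ((X.io_mem_Sz Z).2 hi) (iota_nonneg (sr_nonneg i))
    rw [h1] at h2
    exact (iota_nonneg_iff (hi.act v)).1 (X.act_subW hZ hF rfl v (sr i) ▸ h2)
  rw [h1, h3, map_one]

end chamber

theorem pos_inv {Ψ : Set (X.I → ℤ)} (h0 : ∀ a ∈ Ψ, X.Rt a) (h1 : ∀ a ∈ Ψ, -a ∈ Ψ) {w : X.W} (h2 : ∀ a ∈ Ψ, X.act w⁻¹ a ∈ Ψ)
    (h : ∀ a ∈ Ψ, 0 ≤ a → 0 ≤ X.act w a) {a : X.I → ℤ} (ha : a ∈ Ψ) (h3 : 0 ≤ a) : 0 ≤ X.act w⁻¹ a :=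
  ((h0 a ha).act w⁻¹).pos_or_neg.resolve_right fun e => by
    have h4 := h _ (h1 _ (h2 a ha)) (neg_nonneg.2 e)
    rw [Datum.act, map_neg, ← Datum.act, ← act_mul, mul_inv_cancel, act_one] at h4
    exact (h0 a ha).not_pos_neg h3 (neg_nonneg.1 h4)

variable (X) in
/-- `w` is the normalised image of `d` -/
def Qd (Z : Set Y) (d : Y) (w : X.W) : Prop := (∃ c ∈ X.S (X.Sz Z), ∃ m, X.Rp w m ∧ m ∈ centralizer Z ∧ d = c * m) ∧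
  ∀ a ∈ X.Sz Z, 0 ≤ a → 0 ≤ X.act w a

section Qd

variable {Z : Set Y} (hZ : Z ⊆ X.T) (hF : ∀ a ∈ X.Sz Z, X.g a ∈ X.Sz Z) {d e : Y} {v w : X.W}
include hZ

theorem Qd.mul (h : Qd X Z d v) (h' : Qd X Z e w) : Qd X Z (d * e) (v * w) := by
  obtain ⟨⟨c, h1, m, h2, h3, rfl⟩, h4⟩ := h
  obtain ⟨⟨c', k1, m', k2, k3, rfl⟩, k4⟩ := h'
  exact ⟨⟨c * (m * c' * m⁻¹), mul_mem h1 (X.conj_mem_S h2 X.Sz_root (fun a ha => X.act_mem_Sz hZ h2 h3 ha) k1), m * m',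
    h2.mul k2, mul_mem h3 k3, by group⟩, fun a ha h0 => act_mul X v w a ▸ h4 _ (X.act_mem_Sz hZ k2 k3 ha) (k4 a ha h0)⟩

include hF

theorem Qd.unique (h : Qd X Z d v) (h' : Qd X Z d w) : v = w := by
  obtain ⟨⟨c, h1, m, h2, h3, e1⟩, h4⟩ := h
  obtain ⟨⟨c', k1, m', k2, k3, e2⟩, k4⟩ := h'
  refine mul_inv_eq_one.1 (eq_one_of_pos hZ hF (h2.mul k2.inv) ?_ fun a ha h0 => ?_)
  · rw [show m * m'⁻¹ = c⁻¹ * c' by rw [eq_inv_mul_iff_mul_eq, ← mul_assoc, ← e1, e2, mul_inv_cancel_right]]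
    exact X.S_le_cen Z (mul_mem (inv_mem h1) k1)
  · have h5 := fun a ha => X.act_mem_Sz hZ k2.inv (inv_mem k3) (a := a) ha
    rw [act_mul]
    exact h4 _ (h5 a ha) (pos_inv X.Sz_root (fun _ => X.Sz_neg) h5 k4 ha h0)

theorem exists_qd (hd : d ∈ G) (hc : d ∈ centralizer Z) : ∃ w, Qd X Z d w := by
  obtain ⟨c, h1, m, ⟨w, h2⟩, h3, rfl⟩ := X.exists_cen_form hZ hd hc
  obtain ⟨v, m', h4, h5, h6⟩ := chamber hZ hF w
  obtain ⟨s, hs, t, ht, e⟩ := (X.mem_TS X.Sz_root).1 h4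
  refine ⟨v⁻¹ * w, ⟨c * s, mul_mem h1 hs, t * (m'⁻¹ * m), ?_, mul_mem (X.cen_le_centralizer hZ (X.T_le_cen Z ht))
    (mul_mem (inv_mem (X.cen_le_centralizer hZ h4)) h3), by rw [e]; group⟩, fun a ha h0 => ?_⟩
  · simpa only [one_mul] using (rp_of_mem (cs := X.cs) (hN := X.nsys) ht).mul (h5.inv.mul h2)
  · rw [act_mul]
    exact h6 _ (X.act_mem_Sz hZ h2 h3 ha) (by rwa [← act_mul, inv_mul_cancel, act_one])

end Qd

theorem Sz_conj {y : Y} (hy : y ∈ G) (hN : y⁻¹ * F y ∈ X.NN) {Z : Set Y} (hZ : Z ⊆ X.T) (h : y ∈ centralizer Z) :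
    (X.conj hy hN).Sz Z = X.Sz Z := Set.ext fun a => and_congr_right fun _ => forall₂_congr fun z hz => by
  rw [← X.conj_χ hy hN a (hZ hz), ← h z hz, mul_inv_cancel_right]

variable {H D A : Subgroup Y} {y : Y}

theorem Set3.fin (X : Datum p ρ F G) (h : Set3 F G H D y) : (D : Set Y).Finite :=
  have := X.amb.finite_GF G
  (Set.toFinite (GF F G : Set Y)).subset (h.loc.le.trans h.le)

theorem Set3.el (h : Set3 F G H D y) : El 3 (D : Set Y) := fun z hz =>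
  (h.loc.pg ⟨z, hz⟩).imp fun _ hj => congrArg Subtype.val hj

theorem Set3.fix (h : Set3 F G H D y) {d : Y} (hd : d ∈ D) : F d = d := (h.le (h.loc.le hd)).2

theorem Set3.mem (h : Set3 F G H D y) {d : Y} (hd : d ∈ D) : d ∈ G := (h.le (h.loc.le hd)).1

/-- **The frame of a maximal toral subgroup.** -/
theorem exists_wa (hp : 3 ≠ p) (h : Set3 F G H D y) (P : Datum p ρ F G → Prop)
    (hP : ∀ (X : Datum p ρ F G) (y : Y) (hy : y ∈ G) (hN : y⁻¹ * F y ∈ X.NN), P X → P (X.conj hy hN)) (h0 : P X) :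
    (∃ (g : Y) (hg : g ∈ G) (hN : g⁻¹ * F g ∈ X.NN), D ≤ (X.conj hg hN).T) ∨
      ∃ (X₁ : Datum p ρ F G) (A : Subgroup Y) (ω : D →* X₁.W), P X₁ ∧ Wa X₁ D A ω ∧ ¬ D ≤ A := by
  obtain ⟨A, ⟨h1, x, hx, h2⟩, h3⟩ := Set.Finite.exists_maximal
    (s := {A : Subgroup Y | A ≤ D ∧ ∃ g ∈ G, ∀ a ∈ A, g⁻¹ * a * g ∈ X.T})
    (((h.fin X).finite_subsets.preimage SetLike.coe_injective.injOn).subset fun _ e => e.1)
    ⟨⊥, bot_le, 1, one_mem _, fun a ha => by rw [mem_bot.1 ha, mul_one, inv_mul_cancel]; exact one_mem _⟩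
  have hF : ∀ z ∈ (A : Set Y), F z ∈ (A : Set Y) := fun z hz => (h.fix (h1 hz)).symm ▸ hz
  obtain ⟨g, hg, hN, h4, -⟩ := SB.Exc.Max.exists_conj_le_T X hF hx h2
  refine or_iff_not_imp_left.2 fun hn => ?_
  set X₁ := X.conj hg hN
  have h5 := fun a ha => X₁.g_mem_Sz h4 hF (a := a) ha
  obtain ⟨v, m, h6, h7, h8⟩ := chamber h4 h5 X₁.wF
  obtain ⟨c, hc, e⟩ := X₁.lang_TS X₁.Sz_root h5 (inv_mem h6)
  have hc' := X₁.cen_le_centralizer h4 hc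
  have hN' : c⁻¹ * F c ∈ X₁.NN := e ▸ ⟨_, h7.inv⟩
  have hG := X₁.cen_le_G _ hc
  have h9 := Sz_conj hG hN' h4 hc'
  have h10 : (A : Set Y) ⊆ (X₁.conj hG hN').T := fun z hz => mem_cj.2 (by
    rw [mul_assoc, hc' z hz, inv_mul_cancel_left]
    exact h4 hz)
  have h11 := fun a ha => (X₁.conj hG hN').g_mem_Sz h10 hF (a := a) ha
  choose ω hω using fun d : D => exists_qd h10 h11 (h.mem d.2) fun a ha => h.ab a (h1 ha) d d.2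
  refine ⟨X₁.conj hG hN', A, MonoidHom.mk' ω fun a b => (hω (a * b)).unique h10 h11 ((hω a).mul h10 (hω b)),
    hP _ _ _ _ (hP _ _ _ _ h0), ⟨h1, h10, fun d hd e1 => ?_, fun a ha e1 => ?_, fun d => (hω d).1, fun d => (hω d).2⟩,
    fun e1 => hn ⟨g, hg, hN, fun z hz => h4 (e1 hz)⟩⟩
  · obtain ⟨j, hj⟩ := h.el d hd
    obtain ⟨b, k1, k2⟩ := toral_cen h10 ((h.fin X).subset h1) e1 (not_dvd_ord Nat.prime_three hp hj)
    have k3 : A ⊔ zpowers d ≤ ((X₁.conj hG hN').T.comap (MulAut.conj b⁻¹).toMonoidHom) :=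
      sup_le (fun a ha => by
        show b⁻¹ * a * b⁻¹⁻¹ ∈ (X₁.conj hG hN').T
        rw [inv_inv, mul_assoc, (X₁.conj hG hN').cen_le_centralizer h10 k1 a ha, inv_mul_cancel_left]
        exact h10 ha) (zpowers_le.2 (by
        show b⁻¹ * d * b⁻¹⁻¹ ∈ (X₁.conj hG hN').T
        rwa [inv_inv]))
    refine h3 (y := A ⊔ zpowers d) ⟨sup_le h1 (zpowers_le.2 hd), b * c * g,
      mul_mem (mul_mem ((X₁.conj hG hN').cen_le_G _ k1) hG) hg, fun a ha => ?_⟩ le_sup_left (mem_sup_right (mem_zpowers d))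
    rw [show (b * c * g)⁻¹ * a * (b * c * g) = g⁻¹ * (c⁻¹ * (b⁻¹ * a * b⁻¹⁻¹) * c) * g by group]
    exact mem_cj.1 (mem_cj.1 (k3 ha))
  · rw [h9] at ha
    rw [Datum.conj_g, ← e, Datum.Rp.pr_eq h7.inv]
    exact h8 _ (h5 a ha) ((X₁.wF_spec ha.1).2 e1)

namespace Wa

variable {ω : D →* X.W} (W : Wa X D A ω) (h : Set3 F G H D y)
include W

theorem qd (d : D) : Qd X A d (ω d) := ⟨W.rp d, W.pos d⟩

theorem st (d : D) {a : X.I → ℤ} (ha : a ∈ X.Sz A) : X.act (ω d) a ∈ X.Sz A :=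
  let ⟨_, _, _, h1, h2, _⟩ := W.rp d
  X.act_mem_Sz W.leT h1 h2 ha

theorem chi (d : D) (a : X.I → ℤ) {t : Y} (ht : t ∈ A) : X.χ (X.act (ω d) a) t = X.χ a t :=
  let ⟨_, _, _, h1, h2, _⟩ := W.rp d
  X.χ_act_of_comm W.leT h1 h2 a ht

theorem ad3 {d : D} (h1 : ω d ^ 3 = 1) (h2 : ω d ≠ 1) : Ad3 X (ω d) (X.Sz A) := by
  refine ⟨h1, h2, ⟨X.Lam A, fun _ => Iff.rfl⟩, fun a => W.st d, ?_⟩
  have key : ∀ a ∈ X.Sz A, 0 ≤ a → a + X.act (ω d) a + X.act (ω d) (X.act (ω d) a) ≠ 0 := fun a ha h0 e => by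
    have h3 := W.pos d a ha h0
    have h4 := add_nonneg h3 (W.pos d _ (W.st d ha) h3)
    rw [add_assoc, add_eq_zero_iff_eq_neg] at e
    exact ha.1.not_pos_neg h0 (e ▸ neg_nonpos.2 h4)
  intro a ha e
  rcases ha.1.pos_or_neg with h0 | h0
  · exact key a ha h0 e.2
  · refine key (-a) (X.Sz_neg ha) (neg_nonneg.2 h0) ?_
    simp only [Datum.act, map_neg, ← neg_add, neg_eq_zero]
    exact e.2

/-- `d` acts on `Zc (Sz A)` through `ω d` -/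
theorem conj_Zc (d : D) {t : Y} (ht : t ∈ Zc X (X.Sz A)) {m : Y} (hm : X.Rp (ω d) m) :
    (d : Y) * t * (d : Y)⁻¹ = m * t * m⁻¹ ∧ m * t * m⁻¹ ∈ Zc X (X.Sz A) := by
  obtain ⟨c, h1, m', h2, -, e⟩ := W.rp d
  have h3 : m * t * m⁻¹ ∈ Zc X (X.Sz A) := ⟨X.conj_mem_T ⟨_, hm⟩ ht.1, fun a ha => by
    rw [show a = X.act (ω d) (X.act (ω d⁻¹) a) by rw [← act_mul, ← map_mul, mul_inv_cancel, map_one, act_one],
      X.χ_rp hm _ ht.1]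
    exact ht.2 _ (W.st _ ha)⟩
  obtain ⟨u, rfl⟩ := (X.mem_T t).1 ht.1
  refine ⟨?_, h3⟩
  rw [e, show c * m' * X.τ u * (c * m')⁻¹ = c * (m' * X.τ u * m'⁻¹) * c⁻¹ by group, X.conj_τ h2, ← X.conj_τ hm,
    One.Zc_comm W.leT h3 (X.S_le_cen _ h1), mul_inv_cancel_right]

include h

theorem gst {a : X.I → ℤ} (ha : a ∈ X.Sz A) : X.g a ∈ X.Sz A :=
  X.g_mem_Sz W.leT (fun _ hz => (h.fix (W.le hz)).symm ▸ hz) ha

theorem ker (d : D) : ω d = 1 ↔ (d : Y) ∈ A := by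
  obtain ⟨c, h1, m, h2, -, e⟩ := W.rp d
  refine ⟨fun h3 => W.cen d d.2 (e ▸ mul_mem (X.S_le_cen _ h1) (X.T_le_cen _ (h3 ▸ h2).mem_of_one)), fun h3 => ?_⟩
  exact (W.qd d).unique W.leT (fun _ => W.gst h) ⟨⟨1, one_mem _, d, rp_of_mem (W.leT h3),
    fun a ha => h.ab a (W.le ha) d d.2, (one_mul _).symm⟩, fun a _ h0 => by rwa [act_one]⟩

theorem y_mem : y ∈ X.cen A :=
  ppr_ord X Nat.prime_three W.leT (fun z hz => h.el z (W.le hz)) (h.le h.loc.mem).1 (fun a ha => h.loc.comm a (W.le ha))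
    h.loc.reg

/-- the `3`-elements of `Zc (Sz A) ⊓ H` lie in `A` -/
theorem mx {t : Y} (ht : t ∈ Zc X (X.Sz A)) (hH : t ∈ H) {j : ℕ} (hj : t ^ 3 ^ j = 1) : t ∈ A := by
  let U : Subgroup Y :=
    { carrier := {t | t ∈ Zc X (X.Sz A) ⊓ H ∧ t ^ 3 ^ j = 1}
      one_mem' := ⟨one_mem _, one_pow _⟩
      mul_mem' := fun {a b} ha hb => ⟨mul_mem ha.1 hb.1, by
        rw [(show Commute a b from X.T_comm ha.1.1.1 hb.1.1.1).mul_pow, ha.2, hb.2, one_mul]⟩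
      inv_mem' := fun {a} ha => ⟨inv_mem ha.1, by rw [inv_pow, ha.2, inv_one]⟩ }
  have h1 : ∀ d ∈ D, ∀ u ∈ U, d * u * d⁻¹ ∈ U := fun d hd u hu => by
    obtain ⟨m, hm⟩ := Nodes.Reps.exists_rp X.cs X.nsys (ω ⟨d, hd⟩)
    obtain ⟨h2, h3⟩ := W.conj_Zc ⟨d, hd⟩ hu.1.1 hm
    exact ⟨⟨h2 ▸ h3, H.mul_mem (H.mul_mem (h.loc.le hd) hu.1.2) (H.inv_mem (h.loc.le hd))⟩, by
      rw [conj_pow, hu.2, mul_one, mul_inv_cancel]⟩
  have h2 : D ≤ normalizer (U : Set Y) := fun d hd => mem_normalizer_iff.2 fun u =>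
    ⟨h1 d hd u, fun e => by simpa [mul_assoc] using h1 d⁻¹ (inv_mem hd) _ e⟩
  have h3 := h.loc.syl (D ⊔ U) (sup_le h.loc.le fun u hu => hu.1.2)
    (h.loc.pg.to_sup_of_normal_right' (fun u : U => ⟨j, Subtype.ext u.2.2⟩) h2) le_sup_left
    (fun x hx => mem_centralizer_singleton_iff.1 ((sup_le (fun d hd => mem_centralizer_singleton_iff.2 (h.loc.comm d hd))
      fun u hu => mem_centralizer_singleton_iff.2 (One.Zc_comm W.leT hu.1.1 (W.y_mem h)).symm : D ⊔ U ≤ _) hx))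
  exact W.cen t (h3 (mem_sup_right ⟨⟨ht, hH⟩, hj⟩)) (X.T_le_cen _ ht.1)

theorem Fw (d : D) : X.Fw (ω d) = ω d := by
  obtain ⟨c, h1, m, h2, h3, e⟩ := W.rp d
  have h4 : ∀ a ∈ X.Sz A, X.g a ∈ X.Sz A := fun _ => W.gst h
  refine Qd.unique W.leT h4 ⟨⟨F c, X.F_mem_S X.Sz_root h4 h1, F m, Datum.Rp.mapF h2, fun a ha => ?_, ?_⟩,
    fun a ha h0 => ?_⟩ (W.qd d)
  · rw [← h.fix (W.le ha), ← map_mul, h3 a ha, map_mul]
  · rw [← map_mul, ← e, h.fix d.2]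
  · obtain ⟨b, hb, rfl⟩ := (X.g_bijOn X.Sz_root h4).surjOn ha
    rw [← X.g_act _ hb.1]
    refine W.qs _ (W.st d hb) (W.pos d b hb (hb.1.pos_or_neg.resolve_right fun e1 => ?_))
    have h5 := W.qs _ (X.Sz_neg hb) (neg_nonneg.2 e1)
    rw [X.g_neg hb.1] at h5
    exact ha.1.not_pos_neg h0 (neg_nonneg.1 h5)

theorem g_act (d : D) {a : X.I → ℤ} (ha : X.Rt a) : X.g (X.act (ω d) a) = X.act (ω d) (X.g a) := by
  rw [X.g_act _ ha, W.Fw h]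

theorem Mx_comm (d : D) : X.Mx * X.Wm (ω d) = X.Wm (ω d) * X.Mx := by rw [X.Mx_Wm, W.Fw h]

/-- an element whose image has order three -/
theorem exists_three (hn : ¬ D ≤ A) : ∃ d : D, ω d ^ 3 = 1 ∧ ω d ≠ 1 := by
  obtain ⟨d, hd, h1⟩ := SetLike.not_le_iff_exists.1 hn
  obtain ⟨j, hj⟩ := h.loc.pg ⟨d, hd⟩
  have h2 : ω ⟨d, hd⟩ ≠ 1 := fun e => h1 ((W.ker h _).1 e)
  have h3 : ω ⟨d, hd⟩ ^ 3 ^ j = 1 := by rw [← map_pow, hj, map_one]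
  clear hj
  induction j with
  | zero => exact (h2 (by simpa using h3)).elim
  | succ j ih =>
    by_cases h4 : ω ⟨d, hd⟩ ^ 3 ^ j = 1
    · exact ih h4
    · exact ⟨⟨d, hd⟩ ^ 3 ^ j, by rw [map_pow, ← pow_mul, ← pow_succ, h3], by rwa [map_pow]⟩

end Wa

end Cfsg.Agent.KM.Tor
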